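import Mathlib
import Cfsg.Prelude.Def_KGroupFacts

/-!
# Coprime groups of automorphisms are cyclic: definition and criteria

* `CycAt n M` : every subgroup of `M` of order prime to `n` is cyclic;
* `CopCyc K` : every group of automorphisms of `K` of order prime to `#K` is cyclic;
* `CycAt.of_hom`, `CycAt.of_normal`, `CycAt.of_isCyclic`, `CycAt.prod`, `CopCyc.of_out`, `CopCyc.of_equiv`.
-/

set_option autoImplicit false

namespace Cfsg.Agent.H254

universe u v

/-- Every subgroup of `M` of order prime to `n` is cyclic. -/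
def CycAt (n : ℕ) (M : Type*) [Group M] : Prop :=
  ∀ B : Subgroup M, (Nat.card B).Coprime n → IsCyclic B

/-- Every group of automorphisms of `K` of order prime to the order of `K` is cyclic. -/
def CopCyc (K : Type*) [Group K] : Prop :=
  ∀ A : Subgroup (MulAut K), (Nat.card A).Coprime (Nat.card K) → IsCyclic A

theorem copCyc_iff {K : Type*} [Group K] : CopCyc K ↔ CycAt (Nat.card K) (MulAut K) := Iff.rfl

theorem CycAt.of_equiv {n : ℕ} {M : Type*} [Group M] {M' : Type*} [Group M'] (e : M ≃* M') (h : CycAt n M) :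
    CycAt n M' := by
  intro B hB
  have h1 : Nat.card (B.map e.symm.toMonoidHom) = Nat.card B :=
    (Nat.card_congr (B.equivMapOfInjective e.symm.toMonoidHom e.symm.injective).toEquiv).symm
  have h2 : IsCyclic (B.map e.symm.toMonoidHom) := h _ (by rw [h1]; exact hB)
  exact isCyclic_of_surjective _ (B.equivMapOfInjective e.symm.toMonoidHom e.symm.injective).symm.surjective

theorem CopCyc.of_equiv {K : Type*} [Group K] {L : Type*} [Group L] (e : K ≃* L) (h : CopCyc K) : CopCyc L := by
  have h1 : CycAt (Nat.card K) (MulAut L) := CycAt.of_equiv (MulAut.congr e) h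
  have h2 : Nat.card K = Nat.card L := Nat.card_congr e.toEquiv
  rw [h2] at h1
  exact h1

theorem CycAt.of_isCyclic (n : ℕ) (M : Type*) [Group M] [IsCyclic M] : CycAt n M := fun _ _ => inferInstance

/-- a bigger `n` is easier -/
theorem CycAt.of_dvd {n m : ℕ} {M : Type*} [Group M] (h : CycAt n M) (hd : ∀ p : ℕ, p.Prime → p ∣ n → p ∣ m) :
    CycAt m M := by
  intro B hB
  apply h B
  rw [Nat.coprime_iff_gcd_eq_one]
  by_contra hne
  obtain ⟨p, hp, hpd⟩ := Nat.exists_prime_and_dvd hne
  have h1 : p ∣ Nat.gcd (Nat.card B) m :=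
    Nat.dvd_gcd (hpd.trans (Nat.gcd_dvd_left _ _)) (hd p hp (hpd.trans (Nat.gcd_dvd_right _ _)))
  rw [hB] at h1
  exact hp.one_lt.ne' (Nat.dvd_one.1 h1)

/-- **Homomorphisms with small kernel.** -/
theorem CycAt.of_hom {n : ℕ} {M : Type*} [Group M] {M' : Type*} [Group M'] (φ : M →* M')
    (hk : ∀ x ∈ φ.ker, (orderOf x).Coprime n → x = 1) (h : CycAt n M') : CycAt n M := by
  intro B hB
  have hinj : Function.Injective (φ.comp B.subtype) := by
    rw [injective_iff_map_eq_one]
    intro x hx
    apply Subtype.ext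
    apply hk x.1 hx
    have h1 : orderOf x ∣ Nat.card B := orderOf_dvd_natCard x
    rw [← Subgroup.orderOf_coe] at h1
    exact Nat.Coprime.coprime_dvd_left h1 hB
  have h1 : Nat.card (φ.comp B.subtype).range = Nat.card B :=
    (Nat.card_congr (MonoidHom.ofInjective hinj).toEquiv).symm
  have h2 : IsCyclic (φ.comp B.subtype).range := h _ (by rw [h1]; exact hB)
  exact isCyclic_of_surjective _ (MonoidHom.ofInjective hinj).symm.surjective

/-- Homomorphisms whose kernel has order with primes dividing `n`. -/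
theorem CycAt.of_hom' {n : ℕ} {M : Type*} [Group M] {M' : Type*} [Group M'] (φ : M →* M')
    (hk : ∀ p : ℕ, p.Prime → p ∣ Nat.card φ.ker → p ∣ n) (h : CycAt n M') : CycAt n M := by
  refine CycAt.of_hom φ ?_ h
  intro x hx hxn
  rw [← orderOf_eq_one_iff]
  by_contra hne
  obtain ⟨p, hp, hpd⟩ := Nat.exists_prime_and_dvd hne
  have h1 : orderOf x ∣ Nat.card φ.ker := by
    have := orderOf_dvd_natCard (⟨x, hx⟩ : φ.ker)
    rwa [Subgroup.orderOf_mk] at this
  have h2 : p ∣ Nat.gcd (orderOf x) n := Nat.dvd_gcd hpd (hk p hp (hpd.trans h1))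
  rw [hxn] at h2
  exact hp.one_lt.ne' (Nat.dvd_one.1 h2)

/-- Injective homomorphisms. -/
theorem CycAt.of_injective {n : ℕ} {M : Type*} [Group M] {M' : Type*} [Group M'] (φ : M →* M')
    (hk : Function.Injective φ) (h : CycAt n M') : CycAt n M := by
  refine CycAt.of_hom φ ?_ h
  intro x hx _
  exact (injective_iff_map_eq_one φ).1 hk x hx

/-- A product with a group whose order has only primes dividing `n`. -/
theorem CycAt.prod {n : ℕ} {M : Type*} [Group M] {M' : Type*} [Group M']
    (hk : ∀ p : ℕ, p.Prime → p ∣ Nat.card M' → p ∣ n) (h : CycAt n M) : CycAt n (M × M') := by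
  refine CycAt.of_hom' (MonoidHom.fst M M') ?_ h
  intro p hp hpd
  apply hk p hp
  have h1 : Nat.card (MonoidHom.fst M M').ker = Nat.card M' := by
    rw [MonoidHom.ker_fst]
    refine Nat.card_congr (Equiv.ofBijective (fun x => x.1.2) ⟨?_, ?_⟩)
    · rintro ⟨⟨a, b⟩, ha⟩ ⟨⟨c, d⟩, hc⟩ h
      have h1 : a = 1 := (Subgroup.mem_prod.1 ha).1
      have h2 : c = 1 := (Subgroup.mem_prod.1 hc).1
      have h3 : b = d := h
      subst h1 h2 h3
      rfl
    · intro b
      exact ⟨⟨(1, b), Subgroup.mem_prod.2 ⟨rfl, trivial⟩⟩, rfl⟩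
  rwa [h1] at hpd

/-- A normal subgroup whose index has only primes dividing `n` contains all subgroups of order prime to `n`. -/
theorem le_of_normal {n : ℕ} {M : Type*} [Group M] (N : Subgroup M) [N.Normal]
    (hN : ∀ p : ℕ, p.Prime → p ∣ N.index → p ∣ n) {B : Subgroup M} (hB : (Nat.card B).Coprime n) : B ≤ N := by
  intro b hb
  rw [← QuotientGroup.eq_one_iff, ← orderOf_eq_one_iff]
  by_contra hne
  obtain ⟨p, hp, hpd⟩ := Nat.exists_prime_and_dvd hne
  have h1 : orderOf (b : M ⧸ N) ∣ Nat.card B := by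
    refine (orderOf_map_dvd (QuotientGroup.mk' N) b).trans ?_
    have := orderOf_dvd_natCard (⟨b, hb⟩ : B)
    rwa [Subgroup.orderOf_mk] at this
  have h2 : orderOf (b : M ⧸ N) ∣ N.index := orderOf_dvd_natCard _
  have h3 : p ∣ Nat.gcd (Nat.card B) n := Nat.dvd_gcd (hpd.trans h1) (hN p hp (hpd.trans h2))
  rw [hB] at h3
  exact hp.one_lt.ne' (Nat.dvd_one.1 h3)

theorem CycAt.of_normal {n : ℕ} {M : Type*} [Group M] (N : Subgroup M) [N.Normal]
    (hN : ∀ p : ℕ, p.Prime → p ∣ N.index → p ∣ n) (h : CycAt n N) : CycAt n M := by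
  intro B hB
  have h1 := le_of_normal N hN hB
  have h2 : Nat.card (B.subgroupOf N) = Nat.card B := Nat.card_congr (Subgroup.subgroupOfEquivOfLe h1).toEquiv
  have h3 : IsCyclic (B.subgroupOf N) := h _ (by rw [h2]; exact hB)
  exact isCyclic_of_surjective _ (Subgroup.subgroupOfEquivOfLe h1).surjective

/-- All primes dividing the order of `M` divide `n`. -/
theorem CycAt.of_card {n : ℕ} {M : Type*} [Group M] (h : ∀ p : ℕ, p.Prime → p ∣ Nat.card M → p ∣ n) :
    CycAt n M := by
  intro B hB
  have h1 : B ≤ ⊥ := le_of_normal (⊥ : Subgroup M) (by rw [Subgroup.index_bot]; exact h) hB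
  have h2 : B = ⊥ := le_bot_iff.1 h1
  subst h2
  infer_instance

/-- From the outer automorphism group. -/
theorem CopCyc.of_out {K : Type*} [Group K] (h : CycAt (Nat.card K) (Cfsg.Out K)) : CopCyc K := by
  refine CycAt.of_hom' (QuotientGroup.mk' (Cfsg.Inn K)) ?_ h
  intro p hp hpd
  rw [QuotientGroup.ker_mk'] at hpd
  have h1 : Nat.card (Cfsg.Inn K) ∣ Nat.card K := by
    have : Cfsg.Inn K = (MulAut.conj : K →* MulAut K).range := rfl
    rw [this]
    exact Subgroup.card_range_dvd _
  exact hpd.trans h1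

/-- All odd order automorphisms are inner. -/
theorem CopCyc.of_out_two {K : Type*} [Group K] [Finite K] (h2 : 2 ∣ Nat.card K)
    (h : ∀ φ : MulAut K, Odd (orderOf φ) → φ ∈ (MulAut.conj : K →* MulAut K).range) : CopCyc K := by
  have key : ∀ φ : MulAut K, (orderOf φ).Coprime (Nat.card K) → φ = 1 := by
    intro φ hφ
    have hodd : Odd (orderOf φ) := Nat.coprime_two_right.1 (Nat.Coprime.coprime_dvd_right h2 hφ)
    obtain ⟨k, rfl⟩ := h φ hodd
    have h3 : orderOf ((MulAut.conj : K →* MulAut K) k) ∣ Nat.card K :=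
      (orderOf_map_dvd _ k).trans (orderOf_dvd_natCard k)
    rw [← orderOf_eq_one_iff]
    exact Nat.Coprime.eq_one_of_dvd hφ h3
  intro A hA
  have : A = ⊥ := by
    rw [eq_bot_iff]
    intro φ hφ
    apply key
    have h1 : orderOf φ ∣ Nat.card A := by
      have := orderOf_dvd_natCard (⟨φ, hφ⟩ : A)
      rwa [Subgroup.orderOf_mk] at this
    exact Nat.Coprime.coprime_dvd_left h1 hA
  subst this
  infer_instance

end Cfsg.Agent.H254
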