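import Mathlib
import Cfsg.Prelude.Def_KGroupFacts
import Cfsg.Agent.H254.CopDef
import Cfsg.Agent.H442.HallSolv
import Cfsg.Agent.Schreier.Basic

/-!
# Coprime automorphism groups are cyclic: the criterion with a field automorphism

* `cycAt_of_isSolvable` : in a finite solvable group `M` with a cyclic subgroup `C` such that all primes dividing
  `[M : C]` divide `n`, every subgroup of order prime to `n` is cyclic (Hall);
* `CopCyc.of_field` : `Out K` solvable, `σ` an automorphism of `K` whose order is divisible by the `r`-part of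
  `|Out K|` for all the primes `r` not dividing `|K|`; then coprime groups of automorphisms of `K` are cyclic;
* `CopCyc.of_field'` : the form `|Out K| ∣ c * orderOf σ`, where the primes of `c` divide `|K|`.
-/

set_option autoImplicit false

namespace Cfsg.Agent.H254

open Cfsg.Agent.H442.HallGen Cfsg.Agent.Schreier.Basic

universe u

theorem cycAt_of_isSolvable {M : Type u} [Group M] [Finite M] (hs : Group.IsSolvable M) {n : ℕ} (C : Subgroup M)
    (hC : IsCyclic C) (hi : ∀ p : ℕ, p.Prime → p ∣ C.index → p ∣ n) : CycAt n M := by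
  intro B hB
  let σ : Set ℕ := {p | ¬ p ∣ n}
  have hsC : Group.IsSolvable C := inferInstance
  have hDC : DClass σ C := dclass_of_solvable σ _ C rfl ⊤ inferInstance
    (by rw [Subgroup.index_top]; exact pn_one)
  obtain ⟨K₀, hK₀, -⟩ := exists_hall hDC
  have hcard : Nat.card (K₀.map C.subtype) = Nat.card K₀ :=
    (Nat.card_congr (K₀.equivMapOfInjective C.subtype C.subtype_injective).toEquiv).symm
  have hH : IsHall σ (K₀.map C.subtype) := by
    refine ⟨by rw [hcard]; exact hK₀.card, ?_⟩
    have h1 : (K₀.map C.subtype).index = K₀.index * C.index := by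
      rw [Subgroup.index_map_subtype]
    rw [h1]
    apply PN'.mul hK₀.index
    intro p hp hd
    show ¬ (¬ p ∣ n)
    exact not_not.2 (hi p hp hd)
  have hDM : DClass σ M := dclass_of_solvable σ _ M rfl ⊤ inferInstance
    (by rw [Subgroup.index_top]; exact pn_one)
  have hB' : PN σ (Nat.card B) := by
    intro p hp hd hn
    have h1 : p ∣ Nat.gcd (Nat.card B) n := Nat.dvd_gcd hd hn
    rw [hB] at h1
    exact hp.one_lt.ne' (Nat.dvd_one.1 h1)
  obtain ⟨g, hg⟩ := exists_conj_le hDM hH hB'
  have h2 : B.map (MulAut.conj g).toMonoidHom ≤ C := hg.trans (Subgroup.map_subtype_le _)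
  have h3 : IsCyclic (B.map (MulAut.conj g).toMonoidHom) :=
    isCyclic_of_injective (Subgroup.inclusion h2) (Subgroup.inclusion_injective h2)
  exact isCyclic_of_surjective _
    (B.equivMapOfInjective (MulAut.conj g).toMonoidHom (MulAut.conj g).injective).symm.surjective

/-- **Criterion.** `Out K` is solvable and `σ` is an automorphism of `K` whose order is divisible by the `r`-part of
`|Out K|` for all the primes `r` which do not divide `|K|`. -/
theorem CopCyc.of_field {K : Type u} [Group K] [Finite K] (hs : Group.IsSolvable (Cfsg.Out K)) (σ : MulAut K)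
    (h : ∀ r : ℕ, r.Prime → ¬ r ∣ Nat.card K →
      (Nat.card (Cfsg.Out K)).factorization r ≤ (orderOf σ).factorization r) : CopCyc K := by
  apply CopCyc.of_out
  let x : Cfsg.Out K := (σ : MulAut K ⧸ Cfsg.Inn K)
  refine cycAt_of_isSolvable hs (Subgroup.zpowers x) inferInstance ?_
  intro r hr hd
  by_contra hrn
  have hO : Nat.card (Cfsg.Out K) ≠ 0 := Nat.card_pos.ne'
  -- the `r`-part of the order of `x` is that of `σ`
  have h1 : orderOf σ ∣ orderOf x * Nat.card (Cfsg.Inn K) := by
    apply orderOf_dvd_of_pow_eq_one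
    have h2 : σ ^ orderOf x ∈ Cfsg.Inn K := by
      rw [← QuotientGroup.eq_one_iff]
      have h3 : ((σ ^ orderOf x : MulAut K) : Cfsg.Out K) = x ^ orderOf x := rfl
      rw [h3, pow_orderOf_eq_one]
    rw [pow_mul]
    have h4 := pow_card_eq_one' (x := (⟨σ ^ orderOf x, h2⟩ : Cfsg.Inn K))
    exact congrArg Subtype.val h4
  have hI : Nat.card (Cfsg.Inn K) ∣ Nat.card K := by
    have : Cfsg.Inn K = (MulAut.conj : K →* MulAut K).range := rfl
    rw [this]
    exact Subgroup.card_range_dvd _
  have hIr : ¬ r ∣ Nat.card (Cfsg.Inn K) := fun hc => hrn (hc.trans hI)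
  have hIp : Nat.card (Cfsg.Inn K) ≠ 0 := Nat.card_pos.ne'
  have hx0 : orderOf x ≠ 0 := (orderOf_pos x).ne'
  have h5 : (orderOf σ).factorization r ≤ (orderOf x).factorization r := by
    have h6 := (Nat.factorization_le_iff_dvd (orderOf_pos σ).ne' (mul_ne_zero hx0 hIp)).2 h1 r
    rw [Nat.factorization_mul hx0 hIp, Finsupp.add_apply, Nat.factorization_eq_zero_of_not_dvd hIr,
      Nat.add_zero] at h6
    exact h6
  have h8 : (Nat.card (Subgroup.zpowers x)) * (Subgroup.zpowers x).index = Nat.card (Cfsg.Out K) :=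
    Subgroup.card_mul_index _
  rw [Nat.card_zpowers] at h8
  have hi0 : (Subgroup.zpowers x).index ≠ 0 := Subgroup.index_ne_zero_of_finite
  have h9 : (orderOf x).factorization r + (Subgroup.zpowers x).index.factorization r
      = (Nat.card (Cfsg.Out K)).factorization r := by
    rw [← h8, Nat.factorization_mul hx0 hi0]
    rfl
  have h10 : 0 < (Subgroup.zpowers x).index.factorization r := hr.factorization_pos_of_dvd hi0 hd
  have h11 := h r hr hrn
  omega

/-- `|Out K|` divides `c * orderOf σ`, where all the primes dividing `c` divide `|K|`. -/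
theorem CopCyc.of_field' {K : Type u} [Group K] [Finite K] (hs : Group.IsSolvable (Cfsg.Out K)) (σ : MulAut K)
    (c : ℕ) (hc0 : c ≠ 0) (hc : ∀ r : ℕ, r.Prime → r ∣ c → r ∣ Nat.card K)
    (h : Nat.card (Cfsg.Out K) ∣ c * orderOf σ) : CopCyc K := by
  refine CopCyc.of_field hs σ ?_
  intro r hr hrn
  have hO : Nat.card (Cfsg.Out K) ≠ 0 := Nat.card_pos.ne'
  have hs0 : orderOf σ ≠ 0 := (orderOf_pos σ).ne'
  have h1 := (Nat.factorization_le_iff_dvd hO (mul_ne_zero hc0 hs0)).2 h r
  rw [Nat.factorization_mul hc0 hs0] at h1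
  have h2 : c.factorization r = 0 := Nat.factorization_eq_zero_of_not_dvd (fun hd => hrn (hc r hr hd))
  simpa [h2] using h1

open Cfsg.Agent.Schreier.Basic in
/-- The Schreier property says that `Out K` is solvable. -/
theorem isSolvable_out_of_sch {K : Type u} [Group K] [Finite K] (h : Sch K) : Group.IsSolvable (Cfsg.Out K) := by
  have hanti : Antitone (derivedSeries (MulAut K)) := derivedSeries_antitone _
  have hst : ∃ n, derivedSeries (MulAut K) (n + 1) = derivedSeries (MulAut K) n := by
    by_contra hcon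
    push Not at hcon
    have hlt : ∀ n, derivedSeries (MulAut K) (n + 1) < derivedSeries (MulAut K) n := fun n =>
      lt_of_le_of_ne (hanti (Nat.le_succ n)) (hcon n)
    have hsa : StrictAnti (derivedSeries (MulAut K)) := strictAnti_nat_of_succ_lt hlt
    exact not_injective_infinite_finite _ hsa.injective
  obtain ⟨n, hn⟩ := hst
  have h1 : derivedSeries (MulAut K) n ≤ Cfsg.Inn K := h _ (by rw [← derivedSeries_succ, hn])
  refine ⟨n, ?_⟩
  rw [← map_derivedSeries_eq (f := QuotientGroup.mk' (Cfsg.Inn K)) (QuotientGroup.mk'_surjective _) n, eq_bot_iff]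
  rintro _ ⟨x, hx, rfl⟩
  exact (QuotientGroup.eq_one_iff x).2 (h1 hx)

end Cfsg.Agent.H254
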