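import Mathlib
import Cfsg.Prelude.Def_KGroupFacts
import Cfsg.Agent.H254.CopDef
import Cfsg.Agent.H254.CopField
import Cfsg.Agent.OddOrderLocal.CyclicSub
import Cfsg.Agent.Solvable.Glauberman

/-!
# Coprime automorphism groups are conjugate to groups of field automorphisms: the criterion

* `CopIn K σ` : every group of automorphisms of `K` of order prime to `|K|` is conjugate in `Aut K` to a subgroup of
  `⟨σ⟩`;
* `CopIn.of_field`, `CopIn.of_field'` : the criteria `CopCyc.of_field`, `CopCyc.of_field'` with this conclusion;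
* `CopIn.of_equiv` : transport.
-/

set_option autoImplicit false

namespace Cfsg.Agent.H254

open Cfsg.Agent.H442.HallGen
open scoped Pointwise

universe u v

/-- Every group of automorphisms of `K` of order prime to `|K|` is conjugate in `Aut K` to a subgroup of `⟨σ⟩`. -/
def CopIn (K : Type*) [Group K] (σ : MulAut K) : Prop :=
  ∀ A : Subgroup (MulAut K), (Nat.card A).Coprime (Nat.card K) →
    ∃ g : MulAut K, A.map (MulAut.conj g).toMonoidHom ≤ Subgroup.zpowers σ

theorem CopIn.copCyc {K : Type*} [Group K] {σ : MulAut K} (h : CopIn K σ) : CopCyc K := by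
  intro A hA
  obtain ⟨g, hg⟩ := h A hA
  have h3 : IsCyclic (A.map (MulAut.conj g).toMonoidHom) :=
    isCyclic_of_injective (Subgroup.inclusion hg) (Subgroup.inclusion_injective hg)
  exact isCyclic_of_surjective _
    (A.equivMapOfInjective (MulAut.conj g).toMonoidHom (MulAut.conj g).injective).symm.surjective

/-- Transport along an isomorphism. -/
theorem CopIn.of_equiv {K : Type u} [Group K] {L : Type v} [Group L] (e : K ≃* L) {σ : MulAut K}
    (h : CopIn K σ) : CopIn L (MulAut.congr e σ) := by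
  intro A hA
  let E : MulAut L ≃* MulAut K := (MulAut.congr e).symm
  have h1 : Nat.card (A.map E.toMonoidHom) = Nat.card A :=
    (Nat.card_congr (A.equivMapOfInjective E.toMonoidHom E.injective).toEquiv).symm
  have h2 : Nat.card K = Nat.card L := Nat.card_congr e.toEquiv
  obtain ⟨g, hg⟩ := h (A.map E.toMonoidHom) (by rw [h1, h2]; exact hA)
  refine ⟨E.symm g, ?_⟩
  rintro _ ⟨a, ha, rfl⟩
  have h3 : MulAut.conj g (E a) ∈ Subgroup.zpowers σ := hg ⟨E a, ⟨a, ha, rfl⟩, rfl⟩
  obtain ⟨k, hk⟩ := Subgroup.mem_zpowers_iff.1 h3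
  rw [Subgroup.mem_zpowers_iff]
  refine ⟨k, ?_⟩
  have h4 : (MulAut.congr e σ) = E.symm σ := rfl
  rw [h4, ← map_zpow, hk]
  show E.symm (MulAut.conj g (E a)) = MulAut.conj (E.symm g) a
  rw [MulAut.conj_apply, MulAut.conj_apply, map_mul, map_mul, map_inv, MulEquiv.symm_apply_apply]

/-- Hall: in a finite solvable group `M` with a cyclic subgroup `C` such that all primes dividing `[M : C]` divide
`n`, every subgroup of order prime to `n` is conjugate to a subgroup of `C`. -/
theorem exists_conj_le_of_isSolvable {M : Type u} [Group M] [Finite M] (hs : Group.IsSolvable M) {n : ℕ}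
    (C : Subgroup M) [IsCyclic C] (hi : ∀ p : ℕ, p.Prime → p ∣ C.index → p ∣ n) (B : Subgroup M)
    (hB : (Nat.card B).Coprime n) : ∃ g : M, B.map (MulAut.conj g).toMonoidHom ≤ C := by
  let σ : Set ℕ := {p | ¬ p ∣ n}
  have hsC : Group.IsSolvable C := inferInstance
  have hDC : DClass σ C := dclass_of_solvable σ _ C rfl ⊤ inferInstance
    (by rw [Subgroup.index_top]; exact pn_one)
  obtain ⟨K₀, hK₀, -⟩ := exists_hall hDC
  have hcard : Nat.card (K₀.map C.subtype) = Nat.card K₀ :=
    (Nat.card_congr (K₀.equivMapOfInjective C.subtype C.subtype_injective).toEquiv).symm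
  have hH : IsHall σ (K₀.map C.subtype) := by
    refine ⟨by rw [hcard]; exact hK₀.card, ?_⟩
    have h1 : (K₀.map C.subtype).index = K₀.index * C.index := by
      rw [Subgroup.index_map_subtype]
    rw [h1]
    apply PN'.mul hK₀.index
    intro p hp hd
    show ¬ (¬ p ∣ n)
    exact not_not.2 (hi p hp hd)
  have hDM : DClass σ M := dclass_of_solvable σ _ M rfl ⊤ inferInstance
    (by rw [Subgroup.index_top]; exact pn_one)
  have hB' : PN σ (Nat.card B) := by
    intro p hp hd hn
    have h1 : p ∣ Nat.gcd (Nat.card B) n := Nat.dvd_gcd hd hn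
    rw [hB] at h1
    exact hp.one_lt.ne' (Nat.dvd_one.1 h1)
  obtain ⟨g, hg⟩ := exists_conj_le hDM hH hB'
  exact ⟨g, hg.trans (Subgroup.map_subtype_le _)⟩

theorem card_map_mk {G : Type u} [Group G] [Finite G] (I : Subgroup G) [I.Normal] (A : Subgroup G)
    (h : (Nat.card A).Coprime (Nat.card I)) : Nat.card (A.map (QuotientGroup.mk' I)) = Nat.card A := by
  have hinf : A ⊓ I = ⊥ := Subgroup.inf_eq_bot_of_coprime h
  refine (Nat.card_congr (Equiv.ofBijective ((QuotientGroup.mk' I).subgroupMap A) ⟨?_, ?_⟩)).symm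
  · rw [injective_iff_map_eq_one]
    intro a ha
    have h1 : QuotientGroup.mk' I (a : G) = 1 := congrArg Subtype.val ha
    have h2 : (a : G) ∈ I := (QuotientGroup.eq_one_iff _).1 h1
    have h3 : (a : G) ∈ A ⊓ I := ⟨a.2, h2⟩
    rw [hinf] at h3
    exact Subtype.ext (Subgroup.mem_bot.1 h3)
  · exact (QuotientGroup.mk' I).subgroupMap_surjective A

/-- The general criterion for a normal subgroup `I` of `G` whose order divides `n`. -/
theorem exists_conj_le_zpowers {G : Type u} [Group G] [Finite G] (I : Subgroup G) [I.Normal] {n : ℕ}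
    (hI : Nat.card I ∣ n) (hs : Group.IsSolvable (G ⧸ I)) (σ : G)
    (h : ∀ r : ℕ, r.Prime → ¬ r ∣ n → (Nat.card (G ⧸ I)).factorization r ≤ (orderOf σ).factorization r)
    (A : Subgroup G) (hA : (Nat.card A).Coprime n) :
    ∃ g : G, A.map (MulAut.conj g).toMonoidHom ≤ Subgroup.zpowers σ := by
  let x : G ⧸ I := (σ : G ⧸ I)
  have hO : Nat.card (G ⧸ I) ≠ 0 := Nat.card_pos.ne'
  have hIp : Nat.card I ≠ 0 := Nat.card_pos.ne'
  have hx0 : orderOf x ≠ 0 := (orderOf_pos x).ne'
  have hxσ : orderOf x ∣ orderOf σ := orderOf_map_dvd (QuotientGroup.mk' I) σ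
  have h1 : orderOf σ ∣ orderOf x * Nat.card I := by
    apply orderOf_dvd_of_pow_eq_one
    have h2 : σ ^ orderOf x ∈ I := by
      rw [← QuotientGroup.eq_one_iff]
      have h3 : ((σ ^ orderOf x : G) : G ⧸ I) = x ^ orderOf x := rfl
      rw [h3, pow_orderOf_eq_one]
    rw [pow_mul]
    have h4 := pow_card_eq_one' (x := (⟨σ ^ orderOf x, h2⟩ : I))
    exact congrArg Subtype.val h4
  have hidx : ∀ r : ℕ, r.Prime → r ∣ (Subgroup.zpowers x).index → r ∣ n := by
    intro r hr hd
    by_contra hrn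
    have hIr : ¬ r ∣ Nat.card I := fun hc => hrn (hc.trans hI)
    have h5 : (orderOf σ).factorization r ≤ (orderOf x).factorization r := by
      have h6 := (Nat.factorization_le_iff_dvd (orderOf_pos σ).ne' (mul_ne_zero hx0 hIp)).2 h1 r
      rw [Nat.factorization_mul hx0 hIp, Finsupp.add_apply, Nat.factorization_eq_zero_of_not_dvd hIr,
        Nat.add_zero] at h6
      exact h6
    have h8 : (Nat.card (Subgroup.zpowers x)) * (Subgroup.zpowers x).index = Nat.card (G ⧸ I) :=
      Subgroup.card_mul_index _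
    rw [Nat.card_zpowers] at h8
    have hi0 : (Subgroup.zpowers x).index ≠ 0 := Subgroup.index_ne_zero_of_finite
    have h9 : (orderOf x).factorization r + (Subgroup.zpowers x).index.factorization r
        = (Nat.card (G ⧸ I)).factorization r := by
      rw [← h8, Nat.factorization_mul hx0 hi0]
      rfl
    have h10 : 0 < (Subgroup.zpowers x).index.factorization r := hr.factorization_pos_of_dvd hi0 hd
    have h11 := h r hr hrn
    omega
  -- Hall in the quotient
  have hAI : (Nat.card A).Coprime (Nat.card I) := Nat.Coprime.coprime_dvd_right hI hA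
  have hAb : Nat.card (A.map (QuotientGroup.mk' I)) = Nat.card A := card_map_mk I A hAI
  obtain ⟨gb, hgb⟩ := exists_conj_le_of_isSolvable hs (Subgroup.zpowers x) hidx
    (A.map (QuotientGroup.mk' I)) (by rw [hAb]; exact hA)
  obtain ⟨g, rfl⟩ := QuotientGroup.mk'_surjective I gb
  set A₁ : Subgroup G := A.map (MulAut.conj g).toMonoidHom with hA₁
  have hA₁c : Nat.card A₁ = Nat.card A :=
    (Nat.card_congr (A.equivMapOfInjective (MulAut.conj g).toMonoidHom (MulAut.conj g).injective).toEquiv).symm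
  have hA₁b : Nat.card (A₁.map (QuotientGroup.mk' I)) = Nat.card A₁ :=
    card_map_mk I A₁ (by rw [hA₁c]; exact hAI)
  have hA₁x : A₁.map (QuotientGroup.mk' I) ≤ Subgroup.zpowers x := by
    rintro _ ⟨_, ⟨a, ha, rfl⟩, rfl⟩
    apply hgb
    refine ⟨QuotientGroup.mk' I a, ⟨a, ha, rfl⟩, ?_⟩
    show MulAut.conj (QuotientGroup.mk' I g) (QuotientGroup.mk' I a) = QuotientGroup.mk' I (MulAut.conj g a)
    rw [MulAut.conj_apply, MulAut.conj_apply, map_mul, map_mul, map_inv]
  have hmx : Nat.card A ∣ orderOf x := by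
    have h2 := Subgroup.card_dvd_of_le hA₁x
    rwa [hA₁b, hA₁c, Nat.card_zpowers] at h2
  -- the subgroup of `⟨σ⟩` of the same order
  set s : G := σ ^ (orderOf σ / Nat.card A) with hsdef
  have hso : orderOf s = Nat.card A := orderOf_pow_orderOf_div (orderOf_pos σ).ne' (hmx.trans hxσ)
  have hSc : Nat.card (Subgroup.zpowers s) = Nat.card A := by rw [Nat.card_zpowers, hso]
  have hScop : (Nat.card (Subgroup.zpowers s)).Coprime (Nat.card I) := by rw [hSc]; exact hAI
  have hSb : Nat.card ((Subgroup.zpowers s).map (QuotientGroup.mk' I)) = Nat.card A := by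
    rw [card_map_mk I _ hScop, hSc]
  have hSx : (Subgroup.zpowers s).map (QuotientGroup.mk' I) ≤ Subgroup.zpowers x := by
    rw [MonoidHom.map_zpowers, Subgroup.zpowers_le, hsdef, map_pow]
    exact Subgroup.pow_mem _ (Subgroup.mem_zpowers x) _
  have heq : A₁.map (QuotientGroup.mk' I) = (Subgroup.zpowers s).map (QuotientGroup.mk' I) :=
    Cfsg.Agent.OddOrderLocal.CyclicSub.eq_of_card_eq_of_le_cyclic (Z := Subgroup.zpowers x) inferInstance hA₁x hSx
      (by rw [hA₁b, hA₁c, hSb])
  have hle : A₁ ≤ Subgroup.zpowers s ⊔ I := by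
    intro a ha
    have h2 : QuotientGroup.mk' I a ∈ (Subgroup.zpowers s).map (QuotientGroup.mk' I) := by
      rw [← heq]; exact ⟨a, ha, rfl⟩
    obtain ⟨t, ht, hta⟩ := h2
    have h3 : t⁻¹ * a ∈ I := by
      rw [← QuotientGroup.eq]
      exact hta
    have h4 : a = t * (t⁻¹ * a) := by group
    rw [h4]
    exact Subgroup.mul_mem_sup ht h3
  have hnorm : Subgroup.zpowers s ≤ Subgroup.normalizer (I : Set G) := by
    rw [Subgroup.normalizer_eq_top]; exact le_top
  obtain ⟨k, hk, hkA⟩ := Cfsg.Agent.Solvable.Glauberman.exists_conj_of_le_sup (Subgroup.zpowers s) I hnorm hScop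
    (Or.inl inferInstance) A₁ hle (by rw [hA₁c, hSc])
  refine ⟨k⁻¹ * g, ?_⟩
  rintro _ ⟨a, ha, rfl⟩
  have h2 : MulAut.conj g a ∈ A₁ := ⟨a, ha, rfl⟩
  rw [← hkA] at h2
  obtain ⟨t, ht, hta⟩ := h2
  have hta' : MulAut.conj k t = MulAut.conj g a := hta
  have h3 : MulAut.conj (k⁻¹ * g) a = t := by
    rw [map_mul, MulAut.mul_apply, ← hta', ← MulAut.mul_apply, ← map_mul, inv_mul_cancel, map_one, MulAut.one_apply]
  show MulAut.conj (k⁻¹ * g) a ∈ Subgroup.zpowers σ
  rw [h3]
  have h4 : Subgroup.zpowers s ≤ Subgroup.zpowers σ := by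
    rw [Subgroup.zpowers_le]
    exact Subgroup.pow_mem _ (Subgroup.mem_zpowers σ) _
  exact h4 ht

/-- **Criterion.** -/
theorem CopIn.of_field {K : Type u} [Group K] [Finite K] (hs : Group.IsSolvable (Cfsg.Out K)) (σ : MulAut K)
    (h : ∀ r : ℕ, r.Prime → ¬ r ∣ Nat.card K →
      (Nat.card (Cfsg.Out K)).factorization r ≤ (orderOf σ).factorization r) : CopIn K σ := by
  intro A hA
  have hI : Nat.card (Cfsg.Inn K) ∣ Nat.card K := by
    have : Cfsg.Inn K = (MulAut.conj : K →* MulAut K).range := rfl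
    rw [this]
    exact Subgroup.card_range_dvd _
  exact exists_conj_le_zpowers (Cfsg.Inn K) hI hs σ h A hA

theorem CopIn.of_field' {K : Type u} [Group K] [Finite K] (hs : Group.IsSolvable (Cfsg.Out K)) (σ : MulAut K)
    (c : ℕ) (hc0 : c ≠ 0) (hc : ∀ r : ℕ, r.Prime → r ∣ c → r ∣ Nat.card K)
    (h : Nat.card (Cfsg.Out K) ∣ c * orderOf σ) : CopIn K σ := by
  refine CopIn.of_field hs σ ?_
  intro r hr hrn
  have hO : Nat.card (Cfsg.Out K) ≠ 0 := Nat.card_pos.ne'
  have hs0 : orderOf σ ≠ 0 := (orderOf_pos σ).ne'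
  have h1 := (Nat.factorization_le_iff_dvd hO (mul_ne_zero hc0 hs0)).2 h r
  rw [Nat.factorization_mul hc0 hs0] at h1
  have h2 : c.factorization r = 0 := Nat.factorization_eq_zero_of_not_dvd (fun hd => hrn (hc r hr hd))
  simpa [h2] using h1

end Cfsg.Agent.H254
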