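import Mathlib
import Cfsg.Agent.H254.CopConj

/-!
# Trivial coprime automorphism groups

`CopTriv K` : the identity group is the only group of automorphisms of `K` of order prime to `|K|`.
-/

set_option autoImplicit false

namespace Cfsg.Agent.H254

universe u v

/-- The identity group is the only group of automorphisms of `K` of order prime to `|K|`. -/
def CopTriv (K : Type*) [Group K] : Prop :=
  ∀ A : Subgroup (MulAut K), (Nat.card A).Coprime (Nat.card K) → A = ⊥

theorem CopTriv.copIn {K : Type*} [Group K] (h : CopTriv K) : CopIn K 1 := by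
  intro A hA
  refine ⟨1, ?_⟩
  rw [h A hA, Subgroup.map_bot]
  exact bot_le

theorem CopTriv.copCyc {K : Type*} [Group K] (h : CopTriv K) : CopCyc K := h.copIn.copCyc

/-- All primes dividing `|Aut K|` divide `|K|`. -/
theorem CopTriv.of_card {K : Type*} [Group K]
    (h : ∀ p : ℕ, p.Prime → p ∣ Nat.card (MulAut K) → p ∣ Nat.card K) : CopTriv K := by
  intro A hA
  have h1 : A ≤ ⊥ := le_of_normal (⊥ : Subgroup (MulAut K)) (by rw [Subgroup.index_bot]; exact h) hA
  exact le_bot_iff.1 h1

theorem CopTriv.of_equiv {K : Type u} [Group K] {L : Type v} [Group L] (e : K ≃* L) (h : CopTriv K) : CopTriv L := by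
  intro A hA
  let E : MulAut L ≃* MulAut K := (MulAut.congr e).symm
  have h1 : Nat.card (A.map E.toMonoidHom) = Nat.card A :=
    (Nat.card_congr (A.equivMapOfInjective E.toMonoidHom E.injective).toEquiv).symm
  have h2 : Nat.card K = Nat.card L := Nat.card_congr e.toEquiv
  have h3 := h (A.map E.toMonoidHom) (by rw [h1, h2]; exact hA)
  exact (Subgroup.map_eq_bot_iff_of_injective A E.injective).1 h3

end Cfsg.Agent.H254
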