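import Mathlib
import Cfsg.Prelude.Def_KGroupFacts
import Cfsg.Agent.H254.CopConj
import Cfsg.Agent.LieRecognition.FieldSemilinear

/-!
# Coprime automorphisms: the criterion in terms of the order of the automorphism group

`CopIn.of_card` : `K` finite simple with the Schreier property, `|Aut K|` divides `c * orderOf σ * |K|` where all primes
dividing `c` divide `|K|`; then coprime groups of automorphisms are conjugate to subgroups of `⟨σ⟩`.
-/

set_option autoImplicit false

namespace Cfsg.Agent.H254

open Cfsg.Agent.Schreier.Basic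

universe u v

theorem center_eq_bot {K : Type u} [Group K] [IsSimpleGroup K] (hna : ¬ IsMulCommutative K) :
    Subgroup.center K = ⊥ := by
  rcases (inferInstance : (Subgroup.center K).Normal).eq_bot_or_eq_top with h | h
  · exact h
  · exfalso
    apply hna
    refine ⟨⟨fun a b => ?_⟩⟩
    have h1 : b ∈ Subgroup.center K := by rw [h]; trivial
    exact Subgroup.mem_center_iff.1 h1 a

theorem card_inn {K : Type u} [Group K] [Finite K] [IsSimpleGroup K] (hna : ¬ IsMulCommutative K) :
    Nat.card (Cfsg.Inn K) = Nat.card K := by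
  have h1 : Function.Injective (MulAut.conj : K →* MulAut K) := by
    rw [injective_iff_map_eq_one]
    intro x hx
    have h2 : x ∈ Subgroup.center K := by
      rw [Subgroup.mem_center_iff]
      intro g
      have h3 := DFunLike.congr_fun hx g
      rw [MulAut.conj_apply, MulAut.one_apply, mul_inv_eq_iff_eq_mul] at h3
      exact h3.symm
    rw [center_eq_bot hna] at h2
    exact Subgroup.mem_bot.1 h2
  have h2 : Cfsg.Inn K = (MulAut.conj : K →* MulAut K).range := rfl
  rw [h2]
  exact (Nat.card_congr (MonoidHom.ofInjective h1).toEquiv).symm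

theorem card_out {K : Type u} [Group K] [Finite K] [IsSimpleGroup K] (hna : ¬ IsMulCommutative K) :
    Nat.card (Cfsg.Out K) * Nat.card K = Nat.card (MulAut K) := by
  have h1 := Subgroup.index_mul_card (Cfsg.Inn K)
  rw [card_inn hna] at h1
  exact h1

/-- **Criterion.** -/
theorem CopIn.of_card {K : Type u} [Group K] [Finite K] [IsSimpleGroup K] (hna : ¬ IsMulCommutative K)
    (hs : Sch K) (σ : MulAut K) (c : ℕ) (hc0 : c ≠ 0) (hc : ∀ r : ℕ, r.Prime → r ∣ c → r ∣ Nat.card K)
    (h : Nat.card (MulAut K) ∣ c * orderOf σ * Nat.card K) : CopIn K σ := by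
  refine CopIn.of_field' (isSolvable_out_of_sch hs) σ c hc0 hc ?_
  rw [← card_out hna] at h
  exact Nat.dvd_of_mul_dvd_mul_right Nat.card_pos h

/-- Transport from a model. -/
theorem exists_copIn_of_model {M : Type v} [Group M]
    (h : Finite M → IsSimpleGroup M → ¬ IsMulCommutative M → 2 ∣ Nat.card M → ∃ σ : MulAut M, CopIn M σ)
    (K : Type u) [Group K] [Finite K] [IsSimpleGroup K] (hK : ¬ IsMulCommutative K) (h2 : 2 ∣ Nat.card K)
    (e : Nonempty (K ≃* M)) : ∃ σ : MulAut K, CopIn K σ := by
  obtain ⟨e⟩ := e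
  have h1 : Finite M := Finite.of_equiv K e.toEquiv
  have hsm : IsSimpleGroup M := e.symm.isSimpleGroup
  have hna : ¬ IsMulCommutative M := by
    intro hc
    apply hK
    refine ⟨⟨fun a b => e.injective ?_⟩⟩
    rw [map_mul, map_mul]
    exact hc.is_comm.comm _ _
  obtain ⟨σ, hσ⟩ := h h1 hsm hna (by rw [← Nat.card_congr e.toEquiv]; exact h2)
  exact ⟨_, hσ.of_equiv e.symm⟩

/-- There is a generator of the automorphism group of a finite field. -/
theorem exists_ringAut (F : Type*) [Field F] [Finite F] :
    ∃ ρ : F ≃+* F, orderOf ρ = Nat.card (F ≃+* F) ∧ ∀ τ : F ≃+* F, τ ∈ Subgroup.zpowers ρ := by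
  have hc : IsCyclic (F ≃+* F) := LieRecognition.FieldSemilinear.isCyclic_ringAut F
  obtain ⟨ρ, hρ⟩ := IsCyclic.exists_generator (α := F ≃+* F)
  exact ⟨ρ, orderOf_eq_card_of_forall_mem_zpowers hρ, hρ⟩

/-- The order of the image of a field automorphism under an injective homomorphism. -/
theorem orderOf_of_injective {F : Type*} [Field F] {M : Type*} [Group M] (τ : (F ≃+* F) →* M)
    (hτ : Function.Injective τ) (ρ : F ≃+* F) : orderOf (τ ρ) = orderOf ρ := orderOf_injective τ hτ ρ

end Cfsg.Agent.H254
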