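import Cfsg.Agent.H254.CopDef
import Cfsg.Agent.H254.CopTriv
import Cfsg.Agent.BpSpor.RowAll
import Cfsg.Agent.BpTab.Final
import Cfsg.Agent.BpSpor.Row.B
import Cfsg.Agent.BpSpor.Row.Co1
import Cfsg.Agent.BpSpor.Row.Co3
import Cfsg.Agent.BpSpor.Row.Fi23
import Cfsg.Agent.BpSpor.Row.Fi24
import Cfsg.Agent.BpSpor.Row.HS
import Cfsg.Agent.BpSpor.Row.He
import Cfsg.Agent.BpSpor.Row.J2
import Cfsg.Agent.BpSpor.Row.M
import Cfsg.Agent.BpSpor.Row.Ru
import Cfsg.Agent.BpSpor.Row.Suz
import Cfsg.Agent.BpSpor.Row.Tits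

/-!
# Coprime groups of automorphisms of the sporadic groups and of the Tits group are trivial
-/

set_option autoImplicit false

namespace Cfsg.Agent.H254.CopSpor

open Cfsg Cfsg.Agent.H254 Cfsg.Agent.BpSpor Cfsg.Agent.BpSpor.Row

universe u

/-- Automorphisms of odd prime order are inner: a coprime group of automorphisms is trivial. -/
theorem eq_bot_of_oddInn {K : Type u} [Group K] [Finite K] (h2 : 2 ∣ Nat.card K) (h : Inn.OddInn K)
    (A : Subgroup (MulAut K)) (hA : (Nat.card A).Coprime (Nat.card K)) : A = ⊥ := by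
  by_contra hne
  have hc : Nat.card A ≠ 1 := fun h1 => hne (Subgroup.card_eq_one.1 h1)
  obtain ⟨p, hp, hpd⟩ := Nat.exists_prime_and_dvd hc
  have : Fact p.Prime := ⟨hp⟩
  obtain ⟨x, hx⟩ := exists_prime_orderOf_dvd_card' p hpd
  have hpK : ¬ p ∣ Nat.card K := by
    intro h3
    have h4 : p ∣ Nat.gcd (Nat.card A) (Nat.card K) := Nat.dvd_gcd hpd h3
    rw [hA] at h4
    exact hp.one_lt.ne' (Nat.dvd_one.1 h4)
  have hp2 : p ≠ 2 := by
    rintro rfl
    exact hpK h2
  have hx' : orderOf (x : MulAut K) = p := by rw [Subgroup.orderOf_coe]; exact hx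
  obtain ⟨g, hg⟩ := h p hp hp2 (x : MulAut K) hx'
  apply hpK
  rw [← hx', hg]
  exact (orderOf_map_dvd (MulAut.conj : K →* MulAut K) g).trans (orderOf_dvd_natCard g)

theorem copTriv_of_oddInn {K : Type u} [Group K] [Finite K] (h2 : 2 ∣ Nat.card K) (h : Inn.OddInn K) :
    CopTriv K := fun A hA => eq_bot_of_oddInn h2 h A hA

theorem copTriv_of_dat {K : Type u} [Group K] {N : ℕ} (D : Dat K N) (hN : N ≠ 0) (h2 : 2 ∣ N) : CopTriv K := by
  have : Finite K := Nat.finite_of_card_ne_zero (by rw [D.card]; exact hN)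
  exact copTriv_of_oddInn (by rw [D.card]; exact h2) D.inn

/-- **The sporadic groups.** -/
theorem sporadic_triv {K : Type u} [Group K] (h : IsSporadicGroup K) : CopTriv K := by
  rcases h with h | h | h | h | h | h | h | h | h | h | h | h | h | h | h | h | h | h | h | h | h | h | h | h | h | h
  · exact copTriv_of_dat (dat_m11 h) (by norm_num) (by norm_num)
  · exact copTriv_of_dat (dat_m12 h) (by norm_num) (by norm_num)
  · exact copTriv_of_dat (dat_m22 h) (by norm_num) (by norm_num)
  · exact copTriv_of_dat (dat_m23 h) (by norm_num) (by norm_num)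
  · exact copTriv_of_dat (dat_m24 h) (by norm_num) (by norm_num)
  · exact copTriv_of_dat (dat_j1 h) (by norm_num) (by norm_num)
  · exact copTriv_of_dat (dat_j2 h) (by norm_num) (by norm_num)
  · exact copTriv_of_dat (dat_j3 h) (by norm_num) (by norm_num)
  · exact copTriv_of_dat (dat_j4 h) (by norm_num) (by norm_num)
  · exact copTriv_of_dat (dat_co1 h) (by norm_num) (by norm_num)
  · exact copTriv_of_dat (dat_co2 h) (by norm_num) (by norm_num)
  · exact copTriv_of_dat (dat_co3 h) (by norm_num) (by norm_num)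
  · exact copTriv_of_dat (dat_mcl h) (by norm_num) (by norm_num)
  · exact copTriv_of_dat (dat_hs h) (by norm_num) (by norm_num)
  · exact copTriv_of_dat (dat_suz h) (by norm_num) (by norm_num)
  · exact copTriv_of_dat (dat_he h) (by norm_num) (by norm_num)
  · exact copTriv_of_dat (dat_ru h) (by norm_num) (by norm_num)
  · exact copTriv_of_dat (dat_on h) (by norm_num) (by norm_num)
  · exact copTriv_of_dat (dat_ly h) (by norm_num) (by norm_num)
  · exact copTriv_of_dat (dat_fi22 h) (by norm_num) (by norm_num)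
  · exact copTriv_of_dat (dat_fi23 h) (by norm_num) (by norm_num)
  · exact copTriv_of_dat (dat_fi24 h) (by norm_num) (by norm_num)
  · exact copTriv_of_dat (dat_hn h) (by norm_num) (by norm_num)
  · exact copTriv_of_dat (dat_th h) (by norm_num) (by norm_num)
  · exact copTriv_of_dat (dat_b h) (by norm_num) (by norm_num)
  · exact copTriv_of_dat (dat_m h) (by norm_num) (by norm_num)

theorem sporadic {K : Type u} [Group K] (h : IsSporadicGroup K) : CopCyc K := (sporadic_triv h).copCyc

/-- **The Tits group.** -/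
theorem tits_triv {K : Type u} [Group K] (h : Lie.IsoTits K) : CopTriv K :=
  copTriv_of_dat (dat_tits h) (by norm_num) (by norm_num)

theorem tits {K : Type u} [Group K] (h : Lie.IsoTits K) : CopCyc K := (tits_triv h).copCyc

end Cfsg.Agent.H254.CopSpor
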