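import Mathlib
import Cfsg.Prelude.Def_Classification2
import Cfsg.Agent.S0205
import Cfsg.Agent.H254.CopAlt
import Cfsg.Agent.H254.CopLin
import Cfsg.Agent.H254.CopOrth
import Cfsg.Agent.H254.CopSpor
import Cfsg.Agent.H565.CopTw

/-!
# Coprime groups of automorphisms of the known simple groups are cyclic: assembly

`known` : a group of automorphisms of a known finite simple group `K` whose order is prime to `|K|` is cyclic, given
the rows `ExRows` of the groups `G₂(q)`, `F₄(q)`, `E₆(q)`, `E₇(q)`, `E₈(q)`, `Sz(q)`, `²G₂(q)`, `²F₄(q)`.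
-/

set_option autoImplicit false

namespace Cfsg.Agent.H254.CopMain

open Cfsg Cfsg.Agent.H254

universe u

/-- A finite non-abelian simple group has even order. -/
theorem two_dvd (K : Type u) [Group K] [Finite K] [IsSimpleGroup K] (hna : ¬ IsMulCommutative K) : 2 ∣ Nat.card K := by
  by_contra h
  have hodd : Odd (Nat.card K) := by
    rw [← Nat.not_even_iff_odd, even_iff_two_dvd]
    exact h
  have hs := S0205.result hodd
  apply hna
  refine ⟨⟨fun a b => ?_⟩⟩
  exact (IsSimpleGroup.comm_iff_isSolvable.2 hs) a b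

/-- The rows of the exceptional groups. -/
structure ExRows : Prop where
  g2 : ∀ (K : Type u) [Group K] [Finite K] [IsSimpleGroup K], Lie.IsoChevG2 K → CopCyc K
  f4 : ∀ (K : Type u) [Group K] [Finite K] [IsSimpleGroup K], Lie.IsoF4 K → CopCyc K
  e6 : ∀ (K : Type u) [Group K] [Finite K] [IsSimpleGroup K], Lie.IsoChevE6 K → CopCyc K
  e7 : ∀ (K : Type u) [Group K] [Finite K] [IsSimpleGroup K], Lie.IsoE7 K → CopCyc K
  e8 : ∀ (K : Type u) [Group K] [Finite K] [IsSimpleGroup K], Lie.IsoE8 K → CopCyc K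
  sz : ∀ (K : Type u) [Group K] [Finite K] [IsSimpleGroup K], Lie.IsoSuzuki K → CopCyc K
  ree : ∀ (K : Type u) [Group K] [Finite K] [IsSimpleGroup K], Lie.IsoRee K → CopCyc K
  tf4 : ∀ (K : Type u) [Group K] [Finite K] [IsSimpleGroup K], Lie.Iso2F4 K → CopCyc K

/-- **Coprime groups of automorphisms of the known non-abelian simple groups are cyclic.** -/
theorem known_of (H : ExRows.{u}) (K : Type u) [Group K] [Finite K] [IsSimpleGroup K] (hna : ¬ IsMulCommutative K)
    (hk : IsKnownSimple' K) : CopCyc K := by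
  have h2 := two_dvd K hna
  rcases hk with hk | hk | hk | hk | hk | hk | hk | hk | hk | hk
  · exfalso
    apply hna
    have h1 : Fact (Nat.card K).Prime := ⟨hk⟩
    have h2 : IsCyclic K := isCyclic_of_prime_card (p := Nat.card K) rfl
    exact IsCyclic.isMulCommutative
  · obtain ⟨σ, hσ⟩ := Alt.exists_copIn K hna h2 hk
    exact hσ.copCyc
  · obtain ⟨F, _, _, n, hn, h4, e⟩ := hk
    obtain ⟨σ, hσ⟩ := exists_copIn_of_model (fun h1 h2 h3 h4' => by
      obtain ⟨ρ, hρ, -⟩ := exists_ringAut F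
      exact ⟨_, PSL.copIn hn h4 h3 h4' ρ hρ⟩) K hna h2 e
    exact hσ.copCyc
  · obtain ⟨F, _, _, m, hm, h3, e⟩ := hk
    obtain ⟨σ, hσ⟩ := exists_copIn_of_model (fun h1 h2 h3' h4 => by
      obtain ⟨ρ, hρ, -⟩ := exists_ringAut F
      exact ⟨_, PSP.copIn hm h3 h3' h4 ρ hρ⟩) K hna h2 e
    exact hσ.copCyc
  · obtain ⟨F, _, _, n, q, hF, hn, h32, e⟩ := hk
    obtain ⟨σ, hσ⟩ := exists_copIn_of_model (fun h1 h2 h3 h4 => by
      obtain ⟨ρ, hρ, -⟩ := exists_ringAut F
      exact ⟨_, PSUn.copIn hF hn h32 h3 ρ hρ⟩) K hna h2 e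
    exact hσ.copCyc
  · obtain ⟨F, _, _, m, hm, hodd, e⟩ := hk
    obtain ⟨σ, hσ⟩ := exists_copIn_of_model (fun h1 h2 h3 h4 => Orth.copIn_odd hm hodd h3 h4) K hna h2 e
    exact hσ.copCyc
  · obtain ⟨F, _, _, m, hm, e⟩ := hk
    obtain ⟨σ, hσ⟩ := exists_copIn_of_model (fun h1 h2 h3 h4 => Orth.copIn_plus hm h3 h4) K hna h2 e
    exact hσ.copCyc
  · obtain ⟨F, _, _, m, a, b, hm, hab, e⟩ := hk
    obtain ⟨σ, hσ⟩ := exists_copIn_of_model (fun h1 h2 h3 h4 => Orth.copIn_minus hm a b hab h3 h4) K hna h2 e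
    exact hσ.copCyc
  · rcases hk with hk | hk | hk | hk | hk | hk | hk | hk | hk | hk | hk
    · exact H.g2 K hk
    · exact H.f4 K hk
    · exact H.e6 K hk
    · exact H.e7 K hk
    · exact H.e8 K hk
    · exact H565.CopTw.copCyc_twE6 hk
    · exact H565.CopTw.copCyc_twD4 hk
    · exact H.sz K hk
    · exact H.ree K hk
    · exact H.tf4 K hk
    · exact CopSpor.tits hk
  · exact CopSpor.sporadic hk

end Cfsg.Agent.H254.CopMain
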