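import Cfsg.Agent.H254.FxEvenTI

/-!
# Fixity 3 with point stabilizers of odd order: exact analysis (helper254)

* `Odd3 H D`: `H` a point stabilizer of odd order in an action of fixity exactly 3, `D ≤ H` the pointwise stabilizer of the
  three fixed points of an element;
* `Odd3.exists_inv`: if `D` is commutative and `D ≠ H` then some nontrivial elementary abelian `r`-subgroup `Z` of `H`, `r` odd,
  `r ∤ |D|`, is normalized by an element `y` of `D` of order `s` (a given prime `s ≥ 5` dividing `|D|`), with `C_Z(y) = 1`.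
-/

set_option autoImplicit false
set_option linter.style.haveILetI false
set_option linter.unusedVariables false

namespace Cfsg.Agent.H254.Ev

open Subgroup Cfsg.Agent.H350.Fix Cfsg.Agent.H254.Fx
open Cfsg.Agent.EvenType.StrongP (mem_map_conj of_normIn sylow_conj_in)

/-- point stabilizer `H` of odd order, fixity exactly 3 -/
structure Odd3 {G : Type*} [Group G] (H D : Subgroup G) : Prop where
  hfix : FixLE 3 H
  odd : Odd (Nat.card H)
  ti : OddTI 3 D
  le : D ≤ H
  ntop : H ≠ ⊤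
  self : ∀ h ∈ H, ∀ x ∈ D, x ≠ 1 → h * x * h⁻¹ ∈ D → h ∈ D

section

variable {G : Type*} [Group G] [Finite G] {H D : Subgroup G}

/-- centralizers in `H` of nontrivial elements of `D` -/
theorem Odd3.cent (h : Odd3 H D) {x y : G} (hx : x ∈ D) (hx1 : x ≠ 1) (hy : y ∈ H)
    (hc : y * x = x * y) : y ∈ D := by
  refine h.self y hy x hx hx1 ?_
  rw [hc, mul_inv_cancel_right]; exact hx

/-- **the complement** -/
theorem Odd3.exists_inv (h : Odd3 H D) (hc : ∀ a ∈ D, ∀ b ∈ D, a * b = b * a) (h3 : ¬ 3 ∣ Nat.card D)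
    (hne : D ≠ H) {s : ℕ} (hs : s.Prime) (hs5 : 5 ≤ s) (hsd : s ∣ Nat.card D) :
    ∃ r : ℕ, r.Prime ∧ r ≠ 2 ∧ ¬ r ∣ Nat.card D ∧ ∃ (y : G) (Z : Subgroup G), y ∈ D ∧ orderOf y = s ∧
      Z ≤ H ∧ Z ≠ ⊥ ∧ (∀ z ∈ Z, z ^ r = 1) ∧ (∀ a ∈ Z, ∀ b ∈ Z, a * b = b * a) ∧
      y ∈ normalizer (Z : Set G) ∧ ∀ z ∈ Z, y * z = z * y → z = 1 := by
  classical
  haveI : Fact s.Prime := ⟨hs⟩
  obtain ⟨P, hPD⟩ := h.ti.exists_sylow_le hs hs5 hsd
  have hPH : (P : Subgroup G) ≤ H := hPD.trans h.le
  have hP1 : (P : Subgroup G) ≠ ⊥ := by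
    intro h1
    have h2 := P.dvd_card_of_dvd_card (hsd.trans (card_subgroup_dvd_card D))
    rw [h1, card_bot] at h2
    exact hs.one_lt.ne' (Nat.dvd_one.1 h2)
  -- Burnside's transfer theorem in `H`
  let P₁ : Sylow s H := P.subtype hPH
  have hP₁ : (P₁ : Subgroup H) = (P : Subgroup G).subgroupOf H := rfl
  have hN : normalizer ((P₁ : Subgroup H) : Set H) ≤ centralizer ((P₁ : Subgroup H) : Set H) := by
    intro n hn
    have hnD : (n : G) ∈ D := by
      obtain ⟨x, hx, hx1⟩ := exists_ne_one hP1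
      refine h.self n n.2 x (hPD hx) hx1 ?_
      have h1 := (mem_normalizer_iff.1 hn ⟨x, hPH hx⟩).1 (by
        show (⟨x, hPH hx⟩ : H) ∈ (P₁ : Subgroup H)
        rw [hP₁, mem_subgroupOf]; exact hx)
      have h2 : n * ⟨x, hPH hx⟩ * n⁻¹ ∈ (P₁ : Subgroup H) := h1
      rw [hP₁, mem_subgroupOf] at h2
      exact hPD h2
    rw [mem_centralizer_iff]
    intro m hm
    have hm' : m ∈ (P₁ : Subgroup H) := hm
    rw [hP₁, mem_subgroupOf] at hm'
    exact Subtype.ext (hc _ (hPD hm') _ hnD)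
  obtain ⟨K, hKn, hKc⟩ : ∃ K : Subgroup H, K.Normal ∧ K.IsComplement' (P₁ : Subgroup H) :=
    ⟨(MonoidHom.transferSylow P₁ hN).ker, inferInstance,
      MonoidHom.ker_transferSylow_isComplement' P₁ hN⟩
  have hKcard : Nat.card K * Nat.card (P₁ : Subgroup H) = Nat.card H := hKc.card_mul
  have hPcard : Nat.card (P₁ : Subgroup H) = Nat.card (P : Subgroup G) := by
    rw [hP₁]
    exact Nat.card_congr (subgroupOfEquivOfLe hPH).toEquiv
  have hKs : ¬ s ∣ Nat.card K := by
    intro h1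
    have h2 : Nat.card (P₁ : Subgroup H) = s ^ (Nat.card H).factorization s :=
      Sylow.card_eq_multiplicity P₁
    have h3 : s ^ ((Nat.card H).factorization s + 1) ∣ Nat.card H := by
      rw [pow_succ', ← h2, ← hKcard]
      exact Nat.mul_dvd_mul h1 dvd_rfl
    have h4 := (hs.pow_dvd_iff_le_factorization Nat.card_pos.ne').1 h3
    omega
  -- a prime `r` dividing `|K : K ∩ D|`
  have hDs : Nat.card D ≠ Nat.card H := fun h1 => hne (Subgroup.eq_of_le_of_card_ge h.le h1.ge)
  obtain ⟨r, hr, hrK, hrD⟩ : ∃ r : ℕ, r.Prime ∧ r ∣ Nat.card K ∧ ¬ r ∣ Nat.card D := by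
    by_contra hcon
    push Not at hcon
    apply hDs
    -- every prime divisor of `|H|` divides `|D|`, and `D` contains a Sylow subgroup
    apply Nat.dvd_antisymm (card_dvd_of_le h.le)
    rw [← Nat.factorization_prime_le_iff_dvd Nat.card_pos.ne' Nat.card_pos.ne']
    intro r hr
    by_cases hrH : r ∣ Nat.card H
    · haveI : Fact r.Prime := ⟨hr⟩
      have hrD : r ∣ Nat.card D := by
        rw [← hKcard] at hrH
        rcases (Nat.Prime.dvd_mul hr).1 hrH with h1 | h1
        · exact hcon r hr h1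
        · rw [hPcard] at h1
          exact h1.trans (card_dvd_of_le hPD)
      have h5 : 5 ≤ r := by
        by_contra hlt
        have h12 : r = 2 ∨ r = 3 ∨ r = 4 := by have := hr.two_le; omega
        rcases h12 with h12 | h12 | h12
        · have h4 := h.ti.odd
          rw [← Nat.not_even_iff_odd, even_iff_two_dvd] at h4
          exact h4 (h12 ▸ hrD)
        · exact h3 (h12 ▸ hrD)
        · rw [h12] at hr; revert hr; decide
      obtain ⟨R, hR⟩ := h.ti.exists_sylow_le hr h5 hrD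
      have h6 : r ^ (Nat.card G).factorization r ∣ Nat.card D := by
        rw [← Sylow.card_eq_multiplicity R]; exact card_dvd_of_le hR
      have h7 := (hr.pow_dvd_iff_le_factorization Nat.card_pos.ne').1 h6
      have h8 : (Nat.card H).factorization r ≤ (Nat.card G).factorization r :=
        (Nat.factorization_le_iff_dvd Nat.card_pos.ne' Nat.card_pos.ne').2
          (card_subgroup_dvd_card H) r
      exact h8.trans h7
    · rw [Nat.factorization_eq_zero_of_not_dvd hrH]; exact Nat.zero_le _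
  haveI : Fact r.Prime := ⟨hr⟩
  have hr2 : r ≠ 2 := by
    rintro rfl
    have h4 := h.odd
    rw [← Nat.not_even_iff_odd, even_iff_two_dvd] at h4
    exact h4 (hrK.trans (card_subgroup_dvd_card K))
  -- a Sylow `r`-subgroup of `K` normalized by a conjugate of `P`
  obtain ⟨R, -⟩ : ∃ R : Sylow r K, R = default := ⟨_, rfl⟩
  obtain ⟨R', hR'⟩ : ∃ R' : Subgroup H, R' = (R : Subgroup K).map K.subtype := ⟨_, rfl⟩
  have hfr : normalizer (R' : Set H) ⊔ K = ⊤ := by
    rw [hR']
    exact Sylow.normalizer_sup_eq_top R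
  have hdvdN : Nat.card H ∣ Nat.card (normalizer (R' : Set H)) * Nat.card K := by
    have h1 := Subgroup.relIndex_sup_right (H := normalizer (R' : Set H)) (K := K)
    rw [hfr, relIndex_top_right] at h1
    have h2 : K.index ∣ Nat.card (normalizer (R' : Set H)) := by
      rw [h1]; exact relIndex_dvd_card _ _
    rw [← card_mul_index K, mul_comm]
    exact Nat.mul_dvd_mul h2 dvd_rfl
  have hPN : Nat.card (P₁ : Subgroup H) ∣ Nat.card (normalizer (R' : Set H)) := by
    have h1 : Nat.card (P₁ : Subgroup H) ∣ Nat.card (normalizer (R' : Set H)) * Nat.card K :=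
      (card_subgroup_dvd_card _).trans hdvdN
    refine Nat.Coprime.dvd_of_dvd_mul_right ?_ h1
    rw [Sylow.card_eq_multiplicity]
    exact Nat.Coprime.pow_left _ ((hs.coprime_iff_not_dvd).2 hKs)
  obtain ⟨T, -⟩ : ∃ T : Sylow s (normalizer (R' : Set H)), T = default := ⟨_, rfl⟩
  obtain ⟨T', hT'⟩ : ∃ T' : Subgroup H, T' = (T : Subgroup (normalizer (R' : Set H))).map
    (normalizer (R' : Set H)).subtype := ⟨_, rfl⟩
  have hT'p : IsPGroup s T' := hT' ▸ T.isPGroup'.map _
  have hT'N : T' ≤ normalizer (R' : Set H) := by rw [hT']; exact Subgroup.map_subtype_le _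
  have hT'c : Nat.card (P₁ : Subgroup H) ∣ Nat.card T' := by
    have h1 : Nat.card T' = Nat.card (T : Subgroup (normalizer (R' : Set H))) := by
      rw [hT']
      exact Nat.card_congr ((T : Subgroup (normalizer (R' : Set H))).equivMapOfInjective _
        (normalizer (R' : Set H)).subtype_injective).toEquiv.symm
    rw [h1, Sylow.card_eq_multiplicity T]
    have h2 : Nat.card (P₁ : Subgroup H) = s ^ (Nat.card H).factorization s :=
      Sylow.card_eq_multiplicity P₁
    rw [h2] at hPN ⊢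
    exact pow_dvd_pow s ((hs.pow_dvd_iff_le_factorization Nat.card_pos.ne').1 hPN)
  obtain ⟨U, hU⟩ := hT'p.exists_le_sylow
  have hUT : (U : Subgroup H) = T' := by
    refine (Subgroup.eq_of_le_of_card_ge hU ?_).symm
    refine Nat.le_of_dvd Nat.card_pos ?_
    have h1 : Nat.card (U : Subgroup H) = Nat.card (P₁ : Subgroup H) := by
      rw [Sylow.card_eq_multiplicity, Sylow.card_eq_multiplicity]
    rw [h1]; exact hT'c
  obtain ⟨g, hg⟩ := MulAction.exists_smul_eq H U P₁
  -- the element `y`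
  obtain ⟨y, hyP, hy⟩ : ∃ y ∈ (P : Subgroup G), orderOf y = s := by
    have h1 : s ∣ Nat.card (P : Subgroup G) :=
      P.dvd_card_of_dvd_card (hsd.trans (card_subgroup_dvd_card D))
    obtain ⟨y, hy⟩ := exists_prime_orderOf_dvd_card' s h1
    exact ⟨y, y.2, by rw [Subgroup.orderOf_coe]; exact hy⟩
  -- `Ω₁(Z(R''))`
  obtain ⟨R₂, hR₂⟩ : ∃ R₂ : Subgroup G, R₂ = (R'.map (MulAut.conj g).toMonoidHom).map H.subtype :=
    ⟨_, rfl⟩
  have hR'p : IsPGroup r R' := hR' ▸ R.isPGroup'.map _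
  have hR₂p : IsPGroup r R₂ := hR₂ ▸ (hR'p.map _).map _
  have hR₂H : R₂ ≤ H := by rw [hR₂]; exact Subgroup.map_subtype_le _
  have hR₂1 : R₂ ≠ ⊥ := by
    rw [hR₂, Ne, Subgroup.map_eq_bot_iff_of_injective _ H.subtype_injective,
      Subgroup.map_eq_bot_iff_of_injective _ (MulAut.conj g).injective, hR',
      Subgroup.map_eq_bot_iff_of_injective _ K.subtype_injective]
    intro h1
    have h2 := R.dvd_card_of_dvd_card hrK
    rw [h1, card_bot] at h2
    exact hr.one_lt.ne' (Nat.dvd_one.1 h2)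
  have hyN : y ∈ normalizer (R₂ : Set G) := by
    have h1 : (⟨y, hPH hyP⟩ : H) ∈ normalizer ((R'.map (MulAut.conj g).toMonoidHom : Subgroup H) : Set H) := by
      rw [Cfsg.Agent.EvenType.StrongP.normalizer_map_conj]
      have h2 : (⟨y, hPH hyP⟩ : H) ∈ (P₁ : Subgroup H) := by
        rw [hP₁, mem_subgroupOf]; exact hyP
      rw [← hg, Sylow.coe_subgroup_smul] at h2
      obtain ⟨u, hu, huy⟩ := h2
      exact ⟨u, hT'N (hUT ▸ hu), huy⟩
    rw [hR₂, mem_normalizer_iff]
    rw [mem_normalizer_iff] at h1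
    intro w
    constructor
    · rintro ⟨v, hv, rfl⟩
      exact ⟨_, (h1 v).1 hv, rfl⟩
    · rintro ⟨v, hv, hvw⟩
      have hwH : w ∈ H := by
        have e1 : w = y⁻¹ * (v : G) * y := by
          have : (v : G) = y * w * y⁻¹ := hvw
          rw [this]; group
        rw [e1]
        exact mul_mem (mul_mem (inv_mem (hPH hyP)) v.2) (hPH hyP)
      refine ⟨⟨w, hwH⟩, (h1 ⟨w, hwH⟩).2 ?_, rfl⟩
      have e2 : (⟨y, hPH hyP⟩ : H) * ⟨w, hwH⟩ * (⟨y, hPH hyP⟩ : H)⁻¹ = v :=
        Subtype.ext hvw.symm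
      show (⟨y, hPH hyP⟩ : H) * ⟨w, hwH⟩ * (⟨y, hPH hyP⟩ : H)⁻¹ ∈ _
      rw [e2]; exact hv
  -- the subgroup `Z`
  let Z : Subgroup G :=
    { carrier := {z | z ∈ R₂ ∧ (∀ b ∈ R₂, z * b = b * z) ∧ z ^ r = 1}
      one_mem' := ⟨one_mem _, fun b _ => by rw [one_mul, mul_one], one_pow _⟩
      mul_mem' := by
        rintro a b ⟨ha, ha2, ha3⟩ ⟨hb, hb2, hb3⟩
        refine ⟨mul_mem ha hb, fun c hc => ?_, ?_⟩
        · rw [mul_assoc, hb2 c hc, ← mul_assoc, ha2 c hc, mul_assoc]
        · rw [(show Commute a b from ha2 b hb).mul_pow, ha3, hb3, one_mul]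
      inv_mem' := by
        rintro a ⟨ha, ha2, ha3⟩
        refine ⟨inv_mem ha, fun c hc => ?_, ?_⟩
        · exact ((show Commute a c from ha2 c hc).inv_left).eq
        · rw [inv_pow, ha3, inv_one] }
  have hZmem : ∀ z : G, z ∈ Z ↔ z ∈ R₂ ∧ (∀ b ∈ R₂, z * b = b * z) ∧ z ^ r = 1 := fun _ => Iff.rfl
  refine ⟨r, hr, hr2, hrD, y, Z, hPD hyP, hy, fun z hz => hR₂H hz.1, ?_, fun z hz => hz.2.2,
    fun a ha b hb => ha.2.1 b hb.1, ?_, ?_⟩
  · -- nontrivial
    haveI : Nontrivial R₂ := (Subgroup.nontrivial_iff_ne_bot _).2 hR₂1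
    haveI := hR₂p.center_nontrivial
    have h1 : IsPGroup r (Subgroup.center R₂) := hR₂p.to_subgroup _
    obtain ⟨n, hn⟩ := (IsPGroup.iff_card).1 h1
    have h2 : r ∣ Nat.card (Subgroup.center R₂) := by
      rw [hn]
      refine dvd_pow_self r ?_
      rintro rfl
      rw [pow_zero] at hn
      have := Finite.one_lt_card (α := Subgroup.center R₂)
      omega
    obtain ⟨z, hz⟩ := exists_prime_orderOf_dvd_card' r h2
    intro hbot
    have h3 : ((z : R₂) : G) ∈ Z := by
      rw [hZmem]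
      refine ⟨(z : R₂).2, ?_, ?_⟩
      · intro b hb
        exact congrArg Subtype.val (Subgroup.mem_center_iff.1 z.2 ⟨b, hb⟩).symm
      · have h4 : (z : R₂) ^ r = 1 := by
          have h5 : z ^ r = 1 := by rw [← hz]; exact pow_orderOf_eq_one z
          exact congrArg Subtype.val h5
        exact congrArg Subtype.val h4
    rw [hbot, mem_bot] at h3
    have h4 : z = 1 := Subtype.ext (Subtype.ext h3)
    rw [h4, orderOf_one] at hz
    exact hr.one_lt.ne hz
  · -- `y` normalizes `Z`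
    have hcl : ∀ w ∈ normalizer (R₂ : Set G), ∀ z ∈ Z, w * z * w⁻¹ ∈ Z := by
      intro w hw z hz
      rw [hZmem] at hz ⊢
      refine ⟨(mem_normalizer_iff.1 hw z).1 hz.1, ?_, ?_⟩
      · intro b hb
        have h1 : w⁻¹ * b * w ∈ R₂ := by
          have := (mem_normalizer_iff.1 (inv_mem hw) b).1 hb
          simpa using this
        have h2 := hz.2.1 _ h1
        calc w * z * w⁻¹ * b = w * (z * (w⁻¹ * b * w)) * w⁻¹ := by group
          _ = w * (w⁻¹ * b * w * z) * w⁻¹ := by rw [h2]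
          _ = b * (w * z * w⁻¹) := by group
      · rw [conj_pow, hz.2.2, mul_one, mul_inv_cancel]
    rw [mem_normalizer_iff]
    intro z
    constructor
    · exact hcl y hyN z
    · intro hz
      have h1 := hcl y⁻¹ (inv_mem hyN) _ hz
      have : y⁻¹ * (y * z * y⁻¹) * y⁻¹⁻¹ = z := by group
      rwa [this] at h1
  · intro z hz hyz
    have hy1 : y ≠ 1 := by
      rintro rfl
      rw [orderOf_one] at hy; omega
    have h1 : z ∈ D := h.cent (hPD hyP) hy1 (hR₂H hz.1) hyz.symm
    by_contra hz1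
    have h2 : orderOf z = r := by
      have h3 : orderOf z ∣ r := orderOf_dvd_of_pow_eq_one hz.2.2
      rcases (Nat.dvd_prime hr).1 h3 with h4 | h4
      · exact absurd (orderOf_eq_one_iff.1 h4) hz1
      · exact h4
    exact hrD (h2 ▸ orderOf_dvd_card_of_mem h1)

end

end Cfsg.Agent.H254.Ev
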