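import Cfsg.Agent.H254.FxTools
import Cfsg.Agent.H350.FixBase
import Cfsg.Agent.H998.StrP.Basic

/-!
# Fixity 3 and 4: arbitrary point stabilizers (helper254)

* `FixLE k H` : every non-identity element fixes at most `k` cosets of `H`;
* `NoEv G` : no `H` with `FixLE 4 H` and an involution with exactly 4 fixed cosets;
* `NoEx k G` : no `H` with `FixLE k H` and a non-identity element with exactly `k` fixed cosets;
* tools: `FixLE.relIndex_le`, `FixLE.mem_of_coprime`, `FixLE.perfect_le`, `FixLE.add_le`, `FixLE.stronglyP`, `FixLE.false_of_noSP`;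
* `EvTI k H D` : the pointwise stabilizer of the fixed points of an element with exactly `k` fixed points.
-/

set_option autoImplicit false
set_option linter.style.haveILetI false
set_option linter.unusedVariables false

namespace Cfsg.Agent.H254.Ev

open Subgroup Cfsg.Agent.H350.Fix Cfsg.Agent.H254.Fx
open Cfsg.Agent.EvenType.StrongP (mem_map_conj)

/-- every non-identity element of `G` fixes at most `k` cosets of `H` -/
def FixLE (k : ℕ) {G : Type*} [Group G] (H : Subgroup G) : Prop :=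
  ∀ g : G, g ≠ 1 → (MulAction.fixedBy (G ⧸ H) g).ncard ≤ k

/-- no transitive action of fixity at most 4 with an involution with exactly 4 fixed points -/
def NoEv (G : Type*) [Group G] : Prop :=
  ∀ H : Subgroup G, FixLE 4 H →
    ¬ ∃ t : G, orderOf t = 2 ∧ (MulAction.fixedBy (G ⧸ H) t).ncard = 4

/-- no transitive action of fixity exactly `k` -/
def NoEx (k : ℕ) (G : Type*) [Group G] : Prop :=
  ∀ H : Subgroup G, FixLE k H →
    ¬ ∃ t : G, t ≠ 1 ∧ (MulAction.fixedBy (G ⧸ H) t).ncard = k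

section action

variable {G : Type*} [Group G]

theorem ncard_fixedBy_quot {Ω : Type*} [MulAction G Ω] (htr : MulAction.IsPretransitive G Ω) (a : Ω)
    (g : G) : (MulAction.fixedBy (G ⧸ MulAction.stabilizer G a) g).ncard =
      (MulAction.fixedBy Ω g).ncard := by
  have hinj := MulAction.injective_ofQuotientStabilizer G a
  have h1 : MulAction.ofQuotientStabilizer G a ''
      (MulAction.fixedBy (G ⧸ MulAction.stabilizer G a) g) = MulAction.fixedBy Ω g := by
    ext b
    constructor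
    · rintro ⟨x, hx, rfl⟩
      rw [MulAction.mem_fixedBy] at hx ⊢
      rw [← MulAction.ofQuotientStabilizer_smul, hx]
    · intro hb
      obtain ⟨c, hc⟩ := htr.exists_smul_eq a b
      refine ⟨(c : G ⧸ MulAction.stabilizer G a), ?_, hc⟩
      rw [MulAction.mem_fixedBy] at hb ⊢
      apply hinj
      rw [MulAction.ofQuotientStabilizer_smul]
      show g • (c • a) = c • a
      rw [hc]; exact hb
  rw [← h1, Set.ncard_image_of_injective _ hinj]

theorem NoEx.action {k : ℕ} (h : NoEx k G) {Ω : Type*} [MulAction G Ω]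
    (htr : MulAction.IsPretransitive G Ω) (a : Ω)
    (hfix : ∀ g : G, g ≠ 1 → (MulAction.fixedBy Ω g).ncard ≤ k) :
    ¬ ∃ t : G, t ≠ 1 ∧ (MulAction.fixedBy Ω t).ncard = k := by
  rintro ⟨t, ht, htk⟩
  refine h (MulAction.stabilizer G a) ?_ ⟨t, ht, ?_⟩
  · intro g hg
    rw [ncard_fixedBy_quot htr]; exact hfix g hg
  · rw [ncard_fixedBy_quot htr]; exact htk

theorem NoEv.action (h : NoEv G) {Ω : Type*} [MulAction G Ω]
    (htr : MulAction.IsPretransitive G Ω) (a : Ω)
    (hfix : ∀ g : G, g ≠ 1 → (MulAction.fixedBy Ω g).ncard ≤ 4) :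
    ¬ ∃ t : G, orderOf t = 2 ∧ (MulAction.fixedBy Ω t).ncard = 4 := by
  rintro ⟨t, ht, htk⟩
  refine h (MulAction.stabilizer G a) ?_ ⟨t, ht, ?_⟩
  · intro g hg
    rw [ncard_fixedBy_quot htr]; exact hfix g hg
  · rw [ncard_fixedBy_quot htr]; exact htk

theorem NoEx.congr {G' : Type*} [Group G'] (e : G ≃* G') {k : ℕ} (h : NoEx k G) : NoEx k G' := by
  rintro H' hH ⟨t, ht, htk⟩
  letI act : MulAction G (G' ⧸ H') := MulAction.compHom _ e.toMonoidHom
  have hsm : ∀ (g : G) (x : G' ⧸ H'), g • x = e g • x := fun _ _ => rfl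
  have hfx : ∀ g : G, MulAction.fixedBy (G' ⧸ H') g = MulAction.fixedBy (G' ⧸ H') (e g) := by
    intro g
    ext x
    rw [MulAction.mem_fixedBy, MulAction.mem_fixedBy, hsm]
  have htr : MulAction.IsPretransitive G (G' ⧸ H') := by
    refine ⟨fun x y => ?_⟩
    obtain ⟨g, hg⟩ := MulAction.exists_smul_eq G' x y
    refine ⟨e.symm g, ?_⟩
    rw [hsm, MulEquiv.apply_symm_apply]; exact hg
  refine h.action htr ((1 : G') : G' ⧸ H') ?_ ⟨e.symm t, ?_, ?_⟩
  · intro g hg
    rw [hfx]
    refine hH _ ?_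
    intro h1
    apply hg
    rw [← map_one e] at h1
    exact e.injective h1
  · intro h1
    apply ht
    have h2 := congrArg e h1
    rwa [MulEquiv.apply_symm_apply, map_one] at h2
  · rw [hfx, MulEquiv.apply_symm_apply]; exact htk

theorem NoEv.congr {G' : Type*} [Group G'] (e : G ≃* G') (h : NoEv G) : NoEv G' := by
  rintro H' hH ⟨t, ht, htk⟩
  letI act : MulAction G (G' ⧸ H') := MulAction.compHom _ e.toMonoidHom
  have hsm : ∀ (g : G) (x : G' ⧸ H'), g • x = e g • x := fun _ _ => rfl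
  have hfx : ∀ g : G, MulAction.fixedBy (G' ⧸ H') g = MulAction.fixedBy (G' ⧸ H') (e g) := by
    intro g
    ext x
    rw [MulAction.mem_fixedBy, MulAction.mem_fixedBy, hsm]
  have htr : MulAction.IsPretransitive G (G' ⧸ H') := by
    refine ⟨fun x y => ?_⟩
    obtain ⟨g, hg⟩ := MulAction.exists_smul_eq G' x y
    refine ⟨e.symm g, ?_⟩
    rw [hsm, MulEquiv.apply_symm_apply]; exact hg
  refine h.action htr ((1 : G') : G' ⧸ H') ?_ ⟨e.symm t, ?_, ?_⟩
  · intro g hg
    rw [hfx]
    refine hH _ ?_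
    intro h1
    apply hg
    rw [← map_one e] at h1
    exact e.injective h1
  · rw [MulEquiv.orderOf_eq]; exact ht
  · rw [hfx, MulEquiv.apply_symm_apply]; exact htk

end action

section tools

variable {G : Type*} [Group G] {H : Subgroup G} {k : ℕ}

theorem mk_mem_fixedBy (g a : G) :
    (a : G ⧸ H) ∈ MulAction.fixedBy (G ⧸ H) g ↔ a⁻¹ * g * a ∈ H := by
  rw [MulAction.mem_fixedBy]
  show ((g * a : G) : G ⧸ H) = (a : G ⧸ H) ↔ _
  rw [eq_comm, QuotientGroup.eq, mul_assoc]

theorem ncard_orbit (a : G) (Y : Subgroup G) :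
    (MulAction.orbit Y (a : G ⧸ H)).ncard = (H.map (MulAut.conj a).toMonoidHom).relIndex Y := by
  have h1 : MulAction.stabilizer Y (a : G ⧸ H) =
      (H.map (MulAut.conj a).toMonoidHom).subgroupOf Y := by
    ext y
    rw [MulAction.mem_stabilizer_iff, mem_subgroupOf, mem_map_conj, ← mk_mem_fixedBy (H := H)]
    rfl
  rw [← MulAction.index_stabilizer, h1]
  rfl

theorem map_conj_one' : H.map (MulAut.conj (1 : G)).toMonoidHom = H := by
  ext x
  simp

theorem exists_ne_one {X : Subgroup G} (h : X ≠ ⊥) : ∃ x ∈ X, x ≠ 1 := by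
  by_contra hc
  push Not at hc
  exact h ((eq_bot_iff_forall _).2 hc)

/-- orbits of `N(X)` on the fixed points of `X` -/
theorem FixLE.relIndex_le_of_conj (h : FixLE k H) [Finite G] {X Y : Subgroup G} {a : G}
    (hX : ∀ x ∈ X, a⁻¹ * x * a ∈ H) (hX1 : X ≠ ⊥)
    (hY : Y ≤ normalizer (X : Set G)) : (H.map (MulAut.conj a).toMonoidHom).relIndex Y ≤ k := by
  obtain ⟨x, hx, hx1⟩ := exists_ne_one hX1
  rw [← ncard_orbit]
  refine le_trans (Set.ncard_le_ncard ?_ (Set.toFinite _)) (h x hx1)
  rintro _ ⟨y, rfl⟩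
  show (((y : G) * a : G) : G ⧸ H) ∈ _
  rw [mk_mem_fixedBy]
  have h1 : (y : G)⁻¹ * x * y ∈ X := by
    have h2 := (mem_normalizer_iff.1 (inv_mem (hY y.2)) x).1 hx
    simpa using h2
  have h3 := hX _ h1
  have : ((y : G) * a)⁻¹ * x * ((y : G) * a) = a⁻¹ * ((y : G)⁻¹ * x * y) * a := by group
  rw [this]; exact h3

/-- **`|N_G(X) : N_H(X)| ≤ k`** for `1 ≠ X ≤ H` -/
theorem FixLE.relIndex_le (h : FixLE k H) [Finite G] {X Y : Subgroup G} (hX : X ≤ H) (hX1 : X ≠ ⊥)
    (hY : Y ≤ normalizer (X : Set G)) : H.relIndex Y ≤ k := by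
  have h1 := h.relIndex_le_of_conj (a := 1) (fun x hx => by simpa using hX hx) hX1 hY
  rwa [map_conj_one'] at h1

theorem relIndex_pos' [Finite G] (H Y : Subgroup G) : 0 < H.relIndex Y :=
  Nat.pos_of_ne_zero (by rw [relIndex]; exact index_ne_zero_of_finite)

theorem le_normalizer_zpowers {x y : G} (hy : y * x = x * y) :
    y ∈ normalizer (zpowers x : Set G) := by
  rw [mem_normalizer_iff]
  have key : ∀ z : G, z * x = x * z → ∀ w ∈ zpowers x, z * w * z⁻¹ ∈ zpowers x := by
    intro z hz w hw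
    obtain ⟨n, rfl⟩ := mem_zpowers_iff.1 hw
    have : z * x ^ n * z⁻¹ = x ^ n := by
      have h1 : Commute z (x ^ n) := Commute.zpow_right (show Commute z x from hz) n
      rw [h1.eq]; group
    rw [this]; exact hw
  intro w
  constructor
  · exact key y hy w
  · intro hw
    have hy' : y⁻¹ * x = x * y⁻¹ := (Commute.inv_left (show Commute y x from hy)).eq
    have h1 := key y⁻¹ hy' _ hw
    have : y⁻¹ * (y * w * y⁻¹) * y⁻¹⁻¹ = w := by group
    rwa [this] at h1

theorem centralizer_le_normalizer_zpowers (x : G) :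
    centralizer ({x} : Set G) ≤ normalizer (zpowers x : Set G) := by
  intro y hy
  rw [mem_centralizer_singleton_iff] at hy
  exact le_normalizer_zpowers hy

/-- **`|C_G(x) : C_H(x)| ≤ k`** -/
theorem FixLE.cent_le (h : FixLE k H) [Finite G] {x : G} (hx : x ∈ H) (hx1 : x ≠ 1) :
    H.relIndex (centralizer ({x} : Set G)) ≤ k :=
  h.relIndex_le (X := zpowers x) (by rwa [zpowers_le]) (by rwa [Ne, zpowers_eq_bot])
    (centralizer_le_normalizer_zpowers x)

/-- elements of order prime to 6 of `N(X)` lie in `H` -/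
theorem FixLE.mem_of_coprime (h : FixLE k H) [Finite G] (hk : k ≤ 4) {X : Subgroup G} (hX : X ≤ H)
    (hX1 : X ≠ ⊥) {y : G} (hy : y ∈ normalizer (X : Set G)) (ho : Nat.Coprime (orderOf y) 6) :
    y ∈ H := by
  have h1 : H.relIndex (zpowers y) ≤ 4 := (h.relIndex_le hX hX1 (by rwa [zpowers_le])).trans hk
  have h2 : 0 < H.relIndex (zpowers y) := relIndex_pos' _ _
  have h3 : H.relIndex (zpowers y) ∣ orderOf y := by
    rw [← Nat.card_zpowers]; exact relIndex_dvd_card _ _
  have h4 : H.relIndex (zpowers y) = 1 := by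
    have h5 : Nat.Coprime (H.relIndex (zpowers y)) 6 := ho.coprime_dvd_left h3
    revert h5
    generalize H.relIndex (zpowers y) = n at h1 h2
    intro h5
    interval_cases n
    · rfl
    · exact absurd h5 (by decide)
    · exact absurd h5 (by decide)
    · exact absurd h5 (by decide)
  rw [relIndex_eq_one] at h4
  exact h4 (mem_zpowers y)

theorem FixLE.mem_of_prime (h : FixLE k H) [Finite G] (hk : k ≤ 4) {X : Subgroup G} (hX : X ≤ H)
    (hX1 : X ≠ ⊥) {y : G} (hy : y ∈ normalizer (X : Set G)) {r : ℕ} (hr : r.Prime) (h5 : 5 ≤ r)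
    (ho : orderOf y = r) : y ∈ H :=
  h.mem_of_coprime hk hX hX1 hy (by rw [ho]; exact coprime_six_of_prime hr h5)

theorem FixLE.mem_of_comm (h : FixLE k H) [Finite G] (hk : k ≤ 4) {x y : G} (hx : x ∈ H)
    (hx1 : x ≠ 1) (hy : y * x = x * y) (ho : Nat.Coprime (orderOf y) 6) : y ∈ H :=
  h.mem_of_coprime hk (X := zpowers x) (by rwa [zpowers_le]) (by rwa [Ne, zpowers_eq_bot])
    (le_normalizer_zpowers hy) ho

/-- **perfect subgroups of `N(X)` lie in `H`** -/
theorem FixLE.perfect_le (h : FixLE k H) [Finite G] (hk : k ≤ 4) {X Y : Subgroup G} (hX : X ≤ H)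
    (hX1 : X ≠ ⊥) (hY : Y ≤ normalizer (X : Set G)) (hp : ⁅Y, Y⁆ = Y) : Y ≤ H := by
  obtain ⟨x, hx, hx1⟩ := exists_ne_one hX1
  obtain ⟨Γ, hΓ⟩ : ∃ Γ : Set (G ⧸ H), Γ = fx (G ⧸ H) X := ⟨_, rfl⟩
  have h1 : Nat.card Γ ≤ 4 := by
    have h2 : Γ.ncard ≤ (MulAction.fixedBy (G ⧸ H) x).ncard :=
      Set.ncard_le_ncard (by rw [hΓ]; exact fx_sub_fixedBy hx) (Set.toFinite _)
    exact (h2.trans (h x hx1)).trans hk
  have hst : ∀ g ∈ Y, ∀ a ∈ Γ, g • a ∈ Γ := by
    intro g hg a ha
    rw [hΓ] at ha ⊢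
    exact ((mem_mst (Δ := fx (G ⧸ H) X)).1 (fx_mst (hY hg)) a).2 ha
  have h3 : Group.IsPerfect Y := Subgroup.isPerfect_iff.2 hp
  intro y hy
  have h4 := H76.PermFour.perfect_hom_eq_one h3 (H76.PermFour.solvable_perm_of_card_le h1)
    (actOn Y Γ hst) ⟨y, hy⟩
  have h5 := (mem_ker_actOn hst ⟨y, hy⟩).1 h4 ((1 : G) : G ⧸ H) (by
    rw [hΓ]
    intro g hg
    have h6 := (mk_mem_fixedBy (H := H) g 1).2 (by simpa using hX hg)
    exact h6)
  have h6 := (mk_mem_fixedBy (H := H) y 1).1 h5
  simpa using h6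

theorem FixLE.perfect_le' (h : FixLE k H) [Finite G] (hk : k ≤ 4) {x : G} (hx : x ∈ H)
    (hx1 : x ≠ 1) {Y : Subgroup G} (hY : ∀ y ∈ Y, y * x = x * y) (hp : ⁅Y, Y⁆ = Y) : Y ≤ H :=
  h.perfect_le hk (X := zpowers x) (by rwa [zpowers_le]) (by rwa [Ne, zpowers_eq_bot])
    (fun y hy => le_normalizer_zpowers (hY y hy)) hp

/-- two `G`-conjugate elements of `H` which are not `H`-conjugate -/
theorem FixLE.add_le (h : FixLE k H) [Finite G] {x g : G} (hx : x ∈ H) (hx1 : x ≠ 1)
    (hxg : g⁻¹ * x * g ∈ H) (hne : ∀ y ∈ H, y * x * y⁻¹ ≠ g⁻¹ * x * g) :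
    H.relIndex (centralizer ({x} : Set G)) +
      H.relIndex (centralizer ({g⁻¹ * x * g} : Set G)) ≤ k := by
  obtain ⟨C, hC⟩ : ∃ C : Subgroup G, C = centralizer ({x} : Set G) := ⟨_, rfl⟩
  have hmem : ∀ c ∈ C, c⁻¹ * x * c = x := by
    intro c hc
    rw [hC, mem_centralizer_singleton_iff] at hc
    rw [mul_assoc, ← hc]; group
  have e1 : (MulAction.orbit C ((1 : G) : G ⧸ H)).ncard = H.relIndex C := by
    rw [ncard_orbit, map_conj_one']
  have e2 : (MulAction.orbit C (g : G ⧸ H)).ncard =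
      H.relIndex (centralizer ({g⁻¹ * x * g} : Set G)) := by
    rw [ncard_orbit]
    have h3 : C = (centralizer ({g⁻¹ * x * g} : Set G)).map (MulAut.conj g).toMonoidHom := by
      ext c
      rw [hC, mem_map_conj, mem_centralizer_singleton_iff, mem_centralizer_singleton_iff]
      constructor
      · intro h4
        calc g⁻¹ * c * g * (g⁻¹ * x * g) = g⁻¹ * (c * x) * g := by group
          _ = g⁻¹ * (x * c) * g := by rw [h4]
          _ = g⁻¹ * x * g * (g⁻¹ * c * g) := by group
      · intro h4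
        calc c * x = g * (g⁻¹ * c * g * (g⁻¹ * x * g)) * g⁻¹ := by group
          _ = g * (g⁻¹ * x * g * (g⁻¹ * c * g)) * g⁻¹ := by rw [h4]
          _ = x * c := by group
    rw [h3]
    exact Subgroup.relIndex_map_map_of_injective H _ (MulAut.conj g).injective
  rw [← hC, ← e1, ← e2, ← Set.ncard_union_eq ?_ (Set.toFinite _) (Set.toFinite _)]
  · refine le_trans (Set.ncard_le_ncard ?_ (Set.toFinite _)) (h x hx1)
    rintro _ (⟨c, rfl⟩ | ⟨c, rfl⟩)
    · show (((c : G) * 1 : G) : G ⧸ H) ∈ _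
      rw [mul_one, mk_mem_fixedBy, hmem _ c.2]; exact hx
    · show (((c : G) * g : G) : G ⧸ H) ∈ _
      rw [mk_mem_fixedBy]
      have : ((c : G) * g)⁻¹ * x * ((c : G) * g) = g⁻¹ * ((c : G)⁻¹ * x * c) * g := by group
      rw [this, hmem _ c.2]; exact hxg
  · rw [Set.disjoint_left]
    rintro _ ⟨c, rfl⟩ ⟨d, hd⟩
    have hd' : (((d : G) * g : G) : G ⧸ H) = (((c : G) * 1 : G) : G ⧸ H) := hd
    rw [mul_one, QuotientGroup.eq] at hd'
    refine hne _ hd' ?_
    have e3 : ((d : G) * g)⁻¹ * (c : G) * x * (((d : G) * g)⁻¹ * (c : G))⁻¹ =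
        g⁻¹ * ((d : G)⁻¹ * ((c : G)⁻¹⁻¹ * x * (c : G)⁻¹) * d) * g := by group
    rw [e3, hmem _ (inv_mem c.2), hmem _ d.2]

theorem FixLE.conj (h : FixLE k H) (g : G) : FixLE k (H.map (MulAut.conj g).toMonoidHom) := by
  intro x hx
  have h1 := h (g⁻¹ * x * g) (by
    intro h2
    apply hx
    have : x = g * (g⁻¹ * x * g) * g⁻¹ := by group
    rw [this, h2]; simp)
  refine le_trans (le_of_eq ?_) h1
  have htr : MulAction.IsPretransitive G (G ⧸ H) := inferInstance
  have hst : MulAction.stabilizer G (g : G ⧸ H) = H.map (MulAut.conj g).toMonoidHom := by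
    ext y
    rw [MulAction.mem_stabilizer_iff, mem_map_conj, ← mk_mem_fixedBy (H := H)]
    rfl
  rw [← hst, ncard_fixedBy_quot htr]
  have h3 : MulAction.fixedBy (G ⧸ H) x = (fun a => g • a) '' MulAction.fixedBy (G ⧸ H) (g⁻¹ * x * g) := by
    ext a
    constructor
    · intro ha
      refine ⟨g⁻¹ • a, ?_, smul_inv_smul g a⟩
      rw [MulAction.mem_fixedBy] at ha ⊢
      rw [mul_smul, mul_smul, smul_inv_smul, ha]
    · rintro ⟨b, hb, rfl⟩
      rw [MulAction.mem_fixedBy] at hb ⊢
      rw [mul_smul, mul_smul, inv_smul_eq_iff] at hb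
      exact hb
  rw [h3, Set.ncard_image_of_injective _ (MulAction.injective g)]

end tools

section strong

variable {G : Type*} [Group G] [Finite G] {H : Subgroup G} {k : ℕ}

open Cfsg.Agent.EvenType.StrongP

theorem coprime_of_pgroup {p : ℕ} [hp : Fact p.Prime] (h5 : 5 ≤ p) {y : G}
    (h : IsPGroup p (zpowers y)) : Nat.Coprime (orderOf y) 6 := by
  obtain ⟨n, hn⟩ := (IsPGroup.iff_card).1 h
  rw [← Nat.card_zpowers, hn]
  exact Nat.Coprime.pow_left n (coprime_six_of_prime hp.out h5)

theorem isPGroup_zpowers_of_le {p : ℕ} {Q : Subgroup G} (hQ : IsPGroup p Q) {y : G} (hy : y ∈ Q) :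
    IsPGroup p (zpowers y) := hQ.to_le (by rwa [zpowers_le])

/-- **`H` of order divisible by a prime `p ≥ 5`: there is a strongly `p`-embedded subgroup.** -/
theorem FixLE.stronglyP [IsSimpleGroup G] (h : FixLE k H) (hk : k ≤ 4) (hH : H ≠ ⊤) {p : ℕ}
    [hp : Fact p.Prime] (h5 : 5 ≤ p) (hd : p ∣ Nat.card H) :
    ∃ M : Subgroup G, Cfsg.IsStronglyPEmbedded p M := by
  classical
  -- a Sylow `p`-subgroup of `G` in `H`
  obtain ⟨Q, -⟩ : ∃ Q : Sylow p H, Q = default := ⟨_, rfl⟩
  obtain ⟨R₀, hR₀⟩ : ∃ R₀ : Subgroup G, R₀ = (Q : Subgroup H).map H.subtype := ⟨_, rfl⟩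
  have hR₀p : IsPGroup p R₀ := hR₀ ▸ Q.isPGroup'.map _
  have hR₀H : R₀ ≤ H := by rw [hR₀]; exact Subgroup.map_subtype_le _
  have hR₀1 : R₀ ≠ ⊥ := by
    intro h1
    rw [hR₀, Subgroup.map_eq_bot_iff_of_injective _ H.subtype_injective] at h1
    have h2 := Q.dvd_card_of_dvd_card hd
    rw [h1, card_bot] at h2
    exact hp.out.one_lt.ne' (Nat.dvd_one.1 h2)
  obtain ⟨R, hRle⟩ := hR₀p.exists_le_sylow
  have hmax : ∀ S : Subgroup G, IsPGroup p S → R₀ ≤ S → S ≤ H → S = R₀ := by
    intro S hS hRS hSD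
    have h1 : IsPGroup p ↥(S.subgroupOf H) := hS.comap_of_injective _ H.subtype_injective
    have h2 : (Q : Subgroup H) ≤ S.subgroupOf H := by
      intro x hx
      rw [mem_subgroupOf]
      exact hRS (hR₀ ▸ ⟨x, hx, rfl⟩)
    have h3 := Q.is_maximal' h1 h2
    rw [hR₀, ← h3, Subgroup.subgroupOf_map_subtype, inf_eq_left.2 hSD]
  have hRH : (R : Subgroup G) ≤ H := by
    have key : (R : Subgroup G) ⊓ normalizer (R₀ : Set G) = R₀ := by
      apply hmax
      · exact R.isPGroup'.to_le inf_le_left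
      · exact le_inf hRle le_normalizer
      · intro y hy
        rw [mem_inf] at hy
        exact h.mem_of_coprime hk hR₀H hR₀1 hy.2
          (coprime_of_pgroup h5 (isPGroup_zpowers_of_le R.isPGroup' hy.1))
    have h6 : (R : Subgroup G) = R₀ := by
      by_contra hne
      haveI : Group.IsNilpotent (R : Subgroup G) := R.isPGroup'.isNilpotent
      have h7 := Group.normalizerCondition_of_isNilpotent (G := (R : Subgroup G))
        (R₀.subgroupOf (R : Subgroup G)) (lt_top_iff_ne_top.2 (by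
          rw [Ne, subgroupOf_eq_top]; exact fun h8 => hne (le_antisymm h8 hRle)))
      obtain ⟨z, hz, hzR⟩ := SetLike.exists_of_lt h7
      apply hzR
      rw [mem_subgroupOf, ← key, mem_inf]
      refine ⟨z.2, ?_⟩
      rw [mem_normalizer_iff] at hz ⊢
      intro w
      constructor
      · intro hw
        exact (hz ⟨w, hRle hw⟩).1 (by rw [mem_subgroupOf]; exact hw)
      · intro hw
        have h10 : w ∈ (R : Subgroup G) := by
          have h11 := (R : Subgroup G).mul_mem ((R : Subgroup G).mul_mem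
            ((R : Subgroup G).inv_mem z.2) (hRle hw)) z.2
          have : (z : G)⁻¹ * (z * w * (z : G)⁻¹) * z = w := by group
          rwa [this] at h11
        exact (hz ⟨w, h10⟩).2 (by rw [mem_subgroupOf]; exact hw)
    rw [h6]; exact hR₀H
  have hR1 : (R : Subgroup G) ≠ ⊥ := fun h1 => hR₀1 (le_bot_iff.1 (h1 ▸ hRle))
  clear hmax
  -- the generated subgroup
  obtain ⟨S, hS⟩ : ∃ S : Set G, S = {y : G | IsPGroup p (zpowers y) ∧
    ∃ X : Subgroup G, X ≤ (R : Subgroup G) ∧ X ≠ ⊥ ∧ y ∈ normalizer (X : Set G)} := ⟨_, rfl⟩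
  obtain ⟨H₁, hH₁⟩ : ∃ H₁ : Subgroup G, H₁ = Subgroup.closure S := ⟨_, rfl⟩
  have hSmem : ∀ y ∈ S, y ∈ H₁ := fun y hy => hH₁ ▸ Subgroup.subset_closure hy
  have hH₁H : H₁ ≤ H := by
    rw [hH₁, Subgroup.closure_le]
    intro y hy
    rw [hS] at hy
    obtain ⟨h1, X, hX, hX1, hy⟩ := hy
    exact h.mem_of_coprime hk (hX.trans hRH) hX1 hy (coprime_of_pgroup h5 h1)
  have hRH₁ : (R : Subgroup G) ≤ H₁ := by
    intro y hy
    apply hSmem
    rw [hS]
    exact ⟨isPGroup_zpowers_of_le R.isPGroup' hy, R, le_rfl, hR1, le_normalizer hy⟩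
  have hM₁ : H₁ ≤ normalizer (H₁ : Set G) := le_normalizer
  -- normalizers of nontrivial subgroups of `R`
  have key : ∀ n : ℕ, ∀ X : Subgroup G, X ≤ (R : Subgroup G) → X ≠ ⊥ →
      Nat.card (R : Subgroup G) - Nat.card X = n → normalizer (X : Set G) ≤ normalizer (H₁ : Set G) := by
    intro n
    induction n using Nat.strong_induction_on with
    | _ n ih =>
    intro X hX hX1 hn g hg
    by_cases hXR : X = (R : Subgroup G)
    · -- `g` normalizes `R`
      rw [hXR] at hg
      have hcl : ∀ g ∈ normalizer ((R : Subgroup G) : Set G), ∀ y ∈ H₁, g * y * g⁻¹ ∈ H₁ := by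
        intro g hg y hy
        rw [hH₁] at hy
        induction hy using Subgroup.closure_induction with
        | mem y hy =>
          apply hSmem
          rw [hS] at hy ⊢
          obtain ⟨h1, X', hX', hX'1, hy⟩ := hy
          refine ⟨?_, X'.map (MulAut.conj g).toMonoidHom, ?_, ?_, ?_⟩
          · have e1 : zpowers (g * y * g⁻¹) = (zpowers y).map (MulAut.conj g).toMonoidHom := by
              rw [MonoidHom.map_zpowers]; rfl
            rw [e1]; exact h1.map _
          · rintro _ ⟨x, hx, rfl⟩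
            exact (mem_normalizer_iff.1 hg x).1 (hX' hx)
          · rw [Ne, Subgroup.map_eq_bot_iff_of_injective _ (MulAut.conj g).injective]
            exact hX'1
          · rw [Cfsg.Agent.EvenType.StrongP.normalizer_map_conj]
            exact ⟨y, hy, rfl⟩
        | one => simp
        | mul a b _ _ ha hb =>
          have : g * (a * b) * g⁻¹ = (g * a * g⁻¹) * (g * b * g⁻¹) := by group
          rw [this]; exact mul_mem ha hb
        | inv a _ ha =>
          have : g * a⁻¹ * g⁻¹ = (g * a * g⁻¹)⁻¹ := by group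
          rw [this]; exact inv_mem ha
      rw [mem_normalizer_iff]
      intro y
      constructor
      · exact hcl g hg y
      · intro hy
        have h1 := hcl g⁻¹ (inv_mem hg) _ hy
        have : g⁻¹ * (g * y * g⁻¹) * g⁻¹⁻¹ = y := by group
        rwa [this] at h1
    · -- `X < R`
      obtain ⟨N, hN⟩ : ∃ N : Subgroup G, N = normalizer (X : Set G) := ⟨_, rfl⟩
      rw [← hN] at hg
      have hpN : ∀ y ∈ N, IsPGroup p (zpowers y) → y ∈ H₁ := by
        intro y hy hyp
        apply hSmem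
        rw [hS]
        exact ⟨hyp, X, hX, hX1, hN ▸ hy⟩
      obtain ⟨T, -⟩ : ∃ T : Sylow p N, T = default := ⟨_, rfl⟩
      have hTY : ∀ T : Sylow p N, (T : Subgroup N) ≤ H₁.subgroupOf N := by
        intro T x hx
        rw [mem_subgroupOf]
        refine hpN _ x.2 ?_
        have e1 : zpowers (x : G) = (zpowers x).map N.subtype := by
          rw [MonoidHom.map_zpowers]; rfl
        rw [e1]
        exact (isPGroup_zpowers_of_le T.isPGroup' hx).map _
      obtain ⟨o, ho, hog⟩ := sylow_conj_in (Y := H₁.subgroupOf N) T ((⟨g, hg⟩ : N) • T) (hTY T) (hTY _)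
      obtain ⟨T', hT'⟩ : ∃ T' : Subgroup G, T' = (T : Subgroup N).map N.subtype := ⟨_, rfl⟩
      have hT'p : IsPGroup p T' := hT' ▸ T.isPGroup'.map _
      have hT'H : T' ≤ H₁ := by
        rw [hT']
        rintro _ ⟨x, hx, rfl⟩
        exact hTY T hx
      have hcardT : Nat.card T' = Nat.card (T : Subgroup N) := by
        rw [hT']
        exact Nat.card_congr ((T : Subgroup N).equivMapOfInjective _ N.subtype_injective).toEquiv.symm
      -- `|X| < |T'|`
      have hlt : Nat.card X < Nat.card T' := by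
        haveI : Group.IsNilpotent (R : Subgroup G) := R.isPGroup'.isNilpotent
        have h7 := Group.normalizerCondition_of_isNilpotent (G := (R : Subgroup G))
          (X.subgroupOf (R : Subgroup G)) (lt_top_iff_ne_top.2 (by
            rw [Ne, subgroupOf_eq_top]; exact fun h8 => hXR (le_antisymm hX h8)))
        obtain ⟨Z, hZ⟩ : ∃ Z : Subgroup G, Z = (R : Subgroup G) ⊓ N := ⟨_, rfl⟩
        have hXZ : X ≤ Z := by rw [hZ, hN]; exact le_inf hX le_normalizer
        have hXZ' : X < Z := by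
          refine lt_of_le_of_ne hXZ ?_
          intro hXeq
          obtain ⟨z, hz, hzR⟩ := SetLike.exists_of_lt h7
          apply hzR
          rw [mem_subgroupOf, hXeq, hZ, mem_inf]
          refine ⟨z.2, ?_⟩
          rw [hN, mem_normalizer_iff]
          rw [mem_normalizer_iff] at hz
          intro w
          constructor
          · intro hw
            exact (hz ⟨w, hX hw⟩).1 (by rw [mem_subgroupOf]; exact hw)
          · intro hw
            have h10 : w ∈ (R : Subgroup G) := by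
              have h11 := (R : Subgroup G).mul_mem ((R : Subgroup G).mul_mem
                ((R : Subgroup G).inv_mem z.2) (hX hw)) z.2
              have : (z : G)⁻¹ * (z * w * (z : G)⁻¹) * z = w := by group
              rwa [this] at h11
            exact (hz ⟨w, h10⟩).2 (by rw [mem_subgroupOf]; exact hw)
        have hZp : IsPGroup p Z := R.isPGroup'.to_le (hZ ▸ inf_le_left)
        have hZN : Z ≤ N := hZ ▸ inf_le_right
        have h8 : Nat.card X < Nat.card Z := by
          by_contra hcon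
          exact hXZ'.ne (Subgroup.eq_of_le_of_card_ge hXZ (not_lt.1 hcon))
        have hZp' : IsPGroup p ↥(Z.subgroupOf N) := hZp.comap_of_injective _ N.subtype_injective
        have h9 : Nat.card Z ∣ Nat.card T := by
          have h10 := hZp'.exists_le_sylow
          obtain ⟨U, hU⟩ := h10
          have h11 : Nat.card (Z.subgroupOf N) ∣ Nat.card U := card_dvd_of_le hU
          rw [Nat.card_congr (subgroupOfEquivOfLe hZN).toEquiv] at h11
          rwa [Sylow.card_eq_multiplicity, ← Sylow.card_eq_multiplicity T] at h11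
        have h10 := Nat.le_of_dvd Nat.card_pos h9
        rw [hcardT]
        exact lt_of_lt_of_le h8 h10
      obtain ⟨m, hm, hmT⟩ := exists_conj_le R hRH₁ hT'p hT'H
      have hcT : Nat.card (T'.map (MulAut.conj m).toMonoidHom : Subgroup G) = Nat.card T' :=
        card_map_eq (MulAut.conj m) T'
      have h12 : Nat.card (T'.map (MulAut.conj m).toMonoidHom : Subgroup G) ≤
          Nat.card (R : Subgroup G) := Subgroup.card_le_of_le hmT
      have h13 := ih (Nat.card (R : Subgroup G) -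
        Nat.card (T'.map (MulAut.conj m).toMonoidHom : Subgroup G)) (by
          rw [hcT] at h12 ⊢
          omega) _ hmT (by
          intro h14
          rw [h14, card_bot] at hcT
          have : 0 < Nat.card X := Nat.card_pos
          omega) rfl
      rw [Cfsg.Agent.EvenType.StrongP.normalizer_map_conj] at h13
      -- `o⁻¹ g` normalizes `T'`
      have h14 : ((o : N) : G)⁻¹ * g ∈ normalizer (T' : Set G) := by
        rw [mem_norm, map_conj_mul]
        have h15 : T'.map (MulAut.conj g).toMonoidHom = T'.map (MulAut.conj (o : G)).toMonoidHom := by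
          have h16 := congrArg (fun W : Subgroup N => W.map N.subtype) hog
          have e1 : ∀ c : N, (((T : Subgroup N).map (MulAut.conj c).toMonoidHom).map N.subtype) =
              T'.map (MulAut.conj (c : G)).toMonoidHom := by
            intro c
            rw [hT', Subgroup.map_map, Subgroup.map_map]
            rfl
          have e2 : ((((⟨g, hg⟩ : N) • T : Sylow p N) : Subgroup N)) =
              (T : Subgroup N).map (MulAut.conj (⟨g, hg⟩ : N)).toMonoidHom := by
            rw [Sylow.coe_subgroup_smul]; rfl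
          simp only [e2, e1] at h16
          exact h16.symm
        rw [h15, ← map_conj_mul, inv_mul_cancel, Cfsg.Agent.EvenType.StrongP.map_conj_one]
      have h15 : ((o : N) : G)⁻¹ * g ∈ normalizer (H₁ : Set G) := by
        have h16 : m * (((o : N) : G)⁻¹ * g) * m⁻¹ ∈ normalizer (H₁ : Set G) :=
          h13 ⟨_, h14, rfl⟩
        have h17 := mul_mem (mul_mem (inv_mem (hM₁ hm)) h16) (hM₁ hm)
        have : m⁻¹ * (m * (((o : N) : G)⁻¹ * g) * m⁻¹) * m = ((o : N) : G)⁻¹ * g := by group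
        rwa [this] at h17
      have h16 : ((o : N) : G) ∈ normalizer (H₁ : Set G) := hM₁ (mem_subgroupOf.1 ho)
      have h17 := mul_mem h16 h15
      rwa [mul_inv_cancel_left] at h17
  refine ⟨normalizer (H₁ : Set G), of_normIn ?_ ?_ ?_⟩
  · have h1 : p ∣ Nat.card (R : Subgroup G) := by
      have h2 := (R.isPGroup').exists_card_eq
      obtain ⟨n, hn⟩ := h2
      rw [hn]
      refine dvd_pow_self p ?_
      rintro rfl
      rw [pow_zero] at hn
      exact hR1 (Subgroup.eq_bot_of_card_eq _ hn)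
    exact h1.trans (card_dvd_of_le (hRH₁.trans hM₁))
  · intro htop
    have hn : H₁.Normal := normalizer_eq_top_iff.1 htop
    rcases hn.eq_bot_or_eq_top with h1 | h1
    · exact hR1 (le_bot_iff.1 (h1 ▸ hRH₁))
    · exact hH (top_le_iff.1 (h1 ▸ hH₁H))
  · intro W hW hWM hW1
    obtain ⟨m, hm, hmW⟩ := exists_conj_le R (hRH₁.trans hM₁) hW hWM
    have h1 := key _ _ hmW (by
      rw [Ne, Subgroup.map_eq_bot_iff_of_injective _ (MulAut.conj m).injective]; exact hW1) rfl
    rw [Cfsg.Agent.EvenType.StrongP.normalizer_map_conj] at h1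
    intro g hg
    have h2 : m * g * m⁻¹ ∈ normalizer (H₁ : Set G) := h1 ⟨g, hg, rfl⟩
    have h3 := mul_mem (mul_mem (inv_mem hm) h2) hm
    have : m⁻¹ * (m * g * m⁻¹) * m = g := by group
    rwa [this] at h3

/-- **no strongly `p`-embedded subgroup, `p ≥ 5`: `p` does not divide `|H|`** -/
theorem FixLE.false_of_noSP [IsSimpleGroup G] (h : FixLE k H) (hk : k ≤ 4) (hH : H ≠ ⊤) {p : ℕ}
    (hp : p.Prime) (h5 : 5 ≤ p) (hd : p ∣ Nat.card H) (hno : H998.StrP.NoSP p G) : False := by
  haveI : Fact p.Prime := ⟨hp⟩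
  obtain ⟨M, hM⟩ := h.stronglyP hk hH h5 hd
  exact hno M hM

end strong

end Cfsg.Agent.H254.Ev
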