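import Mathlib
import Cfsg.Agent.H76.PermFour

/-!
# Fixity 3 and 4: the odd TI subgroup (helper254)

`OddTI k D`: the properties of the pointwise stabilizer `D` of the fixed point set of an element with exactly
`k ∈ {3, 4}` fixed points, for a transitive action of fixity `k` with point stabilizers of odd order (S3002, S2993).

Engine: `OddTI.false_of` (and the lemmas before it).
-/

set_option autoImplicit false
set_option linter.style.haveILetI false

namespace Cfsg.Agent.H254.Fx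

open Subgroup

universe u v

/-- The odd TI subgroup of an action of fixity exactly `k`. -/
structure OddTI {G : Type*} [Group G] (k : ℕ) (D : Subgroup G) : Prop where
  hk : k = 3 ∨ k = 4
  ne : D ≠ ⊥
  odd : Odd (Nat.card D)
  /-- local control: normalizers of nontrivial subgroups of `D` lie in `N(D)` -/
  norm : ∀ X : Subgroup G, X ≤ D → X ≠ ⊥ → normalizer (X : Set G) ≤ normalizer (D : Set G)
  /-- `N(D)/D` embeds in `Sym(4)` -/
  hom : ∃ f : ↥(normalizer (D : Set G)) →* Equiv.Perm (Fin 4), ∀ y, f y = 1 ↔ (y : G) ∈ D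
  idx : D.relIndex (normalizer (D : Set G)) ∣ 12
  idx3 : k = 3 → D.relIndex (normalizer (D : Set G)) ∣ 3
  exp : ∀ y ∈ normalizer (D : Set G), y ^ 3 ∈ D ∨ y ^ 4 ∈ D
  /-- an element of order 4 modulo `D` forces `|N(D):D| = 4` -/
  four : ∀ y ∈ normalizer (D : Set G), y ^ 2 ∉ D → y ^ 4 ∈ D → D.relIndex (normalizer (D : Set G)) = 4
  /-- no element of order 3 of `N(D)/D` is inverted -/
  noinv : ∀ y ∈ normalizer (D : Set G), ∀ z ∈ normalizer (D : Set G), y ^ 3 ∈ D →
    z * y * z⁻¹ * y ∈ D → y ∈ D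
  /-- `N(D)` is transitive on the `k` points if `D` contains a Sylow subgroup of `G` -/
  tran : ∀ (r : ℕ) (P : Sylow r G), r.Prime → (P : Subgroup G) ≤ D → (P : Subgroup G) ≠ ⊥ →
    k ∣ D.relIndex (normalizer (D : Set G))
  three : 3 ∣ Nat.card D → (∃ P : Sylow 3 G, (P : Subgroup G) ≤ D) ∨
    ∀ P : Sylow 3 G, Nat.card P = 9 ∧ ∀ x ∈ (P : Subgroup G), x ^ 3 = 1

/-- no subgroup `D` with `OddTI k D` -/
def NoTI (k : ℕ) (G : Type*) [Group G] : Prop := ∀ D : Subgroup G, ¬ OddTI k D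

section congr

variable {G : Type u} {G' : Type v} [Group G] [Group G']

theorem mem_map_iff' (e : G ≃* G') (D : Subgroup G) (y : G') :
    y ∈ D.map e.toMonoidHom ↔ e.symm y ∈ D := by
  constructor
  · rintro ⟨x, hx, rfl⟩
    simpa using hx
  · intro h
    exact ⟨e.symm y, h, by simp⟩

theorem mem_normalizer_map_iff (e : G ≃* G') (D : Subgroup G) (y : G') :
    y ∈ normalizer ((D.map e.toMonoidHom : Subgroup G') : Set G') ↔
      e.symm y ∈ normalizer (D : Set G) := by
  rw [mem_normalizer_iff, mem_normalizer_iff]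
  constructor
  · intro h x
    have h1 := h (e x)
    rw [mem_map_iff', mem_map_iff'] at h1
    simpa using h1
  · intro h x
    rw [mem_map_iff', mem_map_iff']
    have h1 := h (e.symm x)
    simpa using h1

theorem normalizer_map_eq (e : G ≃* G') (D : Subgroup G) :
    normalizer ((D.map e.toMonoidHom : Subgroup G') : Set G') =
      (normalizer (D : Set G)).map e.toMonoidHom := by
  ext y
  rw [mem_normalizer_map_iff, mem_map_iff']

theorem relIndex_map_eq (e : G ≃* G') (D N : Subgroup G) :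
    (D.map e.toMonoidHom).relIndex (N.map e.toMonoidHom) = D.relIndex N :=
  Subgroup.relIndex_map_map_of_injective D N e.injective

theorem card_map_eq (e : G ≃* G') (D : Subgroup G) :
    Nat.card (D.map e.toMonoidHom : Subgroup G') = Nat.card D :=
  Nat.card_congr (D.equivMapOfInjective e.toMonoidHom e.injective).toEquiv.symm

/-- Sylow subgroups and isomorphisms -/
theorem exists_sylow_map (e : G ≃* G') {r : ℕ} (P : Sylow r G) :
    ∃ Q : Sylow r G', (Q : Subgroup G') = (P : Subgroup G).map e.toMonoidHom := by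
  refine ⟨⟨(P : Subgroup G).map e.toMonoidHom, P.isPGroup'.map _, ?_⟩, rfl⟩
  intro Q hQ hle
  have h1 : IsPGroup r ↥(Q.map e.symm.toMonoidHom) := hQ.map _
  have h2 : (P : Subgroup G) ≤ Q.map e.symm.toMonoidHom := by
    intro x hx
    rw [mem_map_iff']
    exact hle (by rw [mem_map_iff']; simpa using hx)
  have h3 := P.is_maximal' h1 h2
  apply le_antisymm _ hle
  intro y hy
  rw [mem_map_iff']
  rw [← h3, mem_map_iff']
  simpa using hy

theorem OddTI.congr (e : G ≃* G') {k : ℕ} {D : Subgroup G} (h : OddTI k D) :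
    OddTI k (D.map e.toMonoidHom) := by
  have hN := normalizer_map_eq e D
  have hidx : (D.map e.toMonoidHom).relIndex (normalizer ((D.map e.toMonoidHom : Subgroup G') : Set G')) =
      D.relIndex (normalizer (D : Set G)) := by rw [hN, relIndex_map_eq]
  refine ⟨h.hk, ?_, ?_, ?_, ?_, ?_, ?_, ?_, ?_, ?_, ?_, ?_⟩
  · intro h1
    apply h.ne
    rw [eq_bot_iff]
    intro x hx
    have h2 : e x ∈ D.map e.toMonoidHom := by rw [mem_map_iff']; simpa using hx
    rw [h1, mem_bot] at h2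
    rw [mem_bot]
    exact e.injective (by rw [h2, map_one])
  · rw [card_map_eq]; exact h.odd
  · intro X hX hX1 y hy
    have h1 : X.map e.symm.toMonoidHom ≤ D := by
      intro x hx
      rw [mem_map_iff'] at hx
      have h2 := hX hx
      rw [mem_map_iff'] at h2
      simpa using h2
    have h2 : X.map e.symm.toMonoidHom ≠ ⊥ := by
      intro h3
      apply hX1
      rw [eq_bot_iff]
      intro x hx
      have h4 : e.symm x ∈ X.map e.symm.toMonoidHom := by rw [mem_map_iff']; simpa using hx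
      rw [h3, mem_bot] at h4
      rw [mem_bot]
      exact e.symm.injective (by rw [h4, map_one])
    have h3 := h.norm _ h1 h2
    rw [mem_normalizer_map_iff]
    apply h3
    rw [mem_normalizer_map_iff e.symm]
    simpa using hy
  · obtain ⟨f, hf⟩ := h.hom
    let φ : ↥(normalizer ((D.map e.toMonoidHom : Subgroup G') : Set G')) →* ↥(normalizer (D : Set G)) :=
      { toFun := fun y => ⟨e.symm y, (mem_normalizer_map_iff e D y).1 y.2⟩
        map_one' := Subtype.ext (by simp)
        map_mul' := fun a b => Subtype.ext (map_mul e.symm (a : G') (b : G')) }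
    refine ⟨f.comp φ, ?_⟩
    intro y
    rw [MonoidHom.comp_apply, hf, mem_map_iff']
    rfl
  · rw [hidx]; exact h.idx
  · intro hk; rw [hidx]; exact h.idx3 hk
  · intro y hy
    rw [mem_normalizer_map_iff] at hy
    rw [mem_map_iff', mem_map_iff', map_pow, map_pow]
    exact h.exp _ hy
  · intro y hy h2 h4
    rw [mem_normalizer_map_iff] at hy
    rw [mem_map_iff', map_pow] at h2 h4
    rw [hidx]
    exact h.four _ hy h2 h4
  · intro y hy z hz h3 hi
    rw [mem_normalizer_map_iff] at hy hz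
    rw [mem_map_iff'] at h3 hi ⊢
    refine h.noinv _ hy _ hz (by simpa using h3) (by simpa using hi)
  · intro r P hr hP hP1
    obtain ⟨Q, hQ⟩ := exists_sylow_map e.symm P
    rw [hidx]
    refine h.tran r Q hr ?_ ?_
    · rw [hQ]
      intro x hx
      rw [mem_map_iff'] at hx
      have h2 := hP hx
      rw [mem_map_iff'] at h2
      simpa using h2
    · rw [hQ]
      intro h3
      apply hP1
      rw [eq_bot_iff]
      intro x hx
      have h4 : e.symm x ∈ (P : Subgroup G').map e.symm.toMonoidHom := by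
        rw [mem_map_iff']; simpa using hx
      rw [h3, mem_bot] at h4
      rw [mem_bot]
      exact e.symm.injective (by rw [h4, map_one])
  · intro h3
    rw [card_map_eq] at h3
    rcases h.three h3 with ⟨P, hP⟩ | h9
    · left
      obtain ⟨Q, hQ⟩ := exists_sylow_map e P
      refine ⟨Q, ?_⟩
      rw [hQ]
      exact Subgroup.map_mono hP
    · right
      intro P
      obtain ⟨Q, hQ⟩ := exists_sylow_map e.symm P
      obtain ⟨h1, h2⟩ := h9 Q
      constructor
      · have h4 : Nat.card (Q : Subgroup G) = Nat.card (P : Subgroup G') := by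
          rw [hQ, card_map_eq]
        rw [← h4]; exact h1
      · intro x hx
        have h4 := h2 (e.symm x) (by rw [hQ, mem_map_iff']; simpa using hx)
        rw [← map_pow] at h4
        exact e.symm.injective (by rw [h4, map_one])

theorem NoTI.congr (e : G ≃* G') {k : ℕ} (h : NoTI k G) : NoTI k G' := by
  intro D hD
  exact h _ (hD.congr e.symm)

end congr

section engine

variable {G : Type*} [Group G] {k : ℕ} {D : Subgroup G}

theorem le_normalizer' : D ≤ normalizer (D : Set G) := le_normalizer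

theorem zpowers_ne_bot' {x : G} (hx : x ≠ 1) : zpowers x ≠ ⊥ := by
  rw [Ne, zpowers_eq_bot]; exact hx

theorem OddTI.normz (h : OddTI k D) {x : G} (hx : x ∈ D) (hx1 : x ≠ 1) :
    normalizer (zpowers x : Set G) ≤ normalizer (D : Set G) :=
  h.norm _ (by rwa [zpowers_le]) (zpowers_ne_bot' hx1)

theorem OddTI.cent (h : OddTI k D) {x y : G} (hx : x ∈ D) (hx1 : x ≠ 1) (hy : y * x = x * y) :
    y ∈ normalizer (D : Set G) := by
  apply h.normz hx hx1
  rw [mem_normalizer_iff]
  have key : ∀ z : G, z * x = x * z → ∀ w ∈ zpowers x, z * w * z⁻¹ ∈ zpowers x := by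
    intro z hz w hw
    obtain ⟨n, rfl⟩ := mem_zpowers_iff.1 hw
    have : z * x ^ n * z⁻¹ = x ^ n := by
      have h1 : Commute z (x ^ n) := Commute.zpow_right (show Commute z x from hz) n
      rw [h1.eq]; group
    rw [this]; exact hw
  intro w
  constructor
  · exact key y hy w
  · intro hw
    have hy' : y⁻¹ * x = x * y⁻¹ := (Commute.inv_left (show Commute y x from hy)).eq
    have h1 := key y⁻¹ hy' _ hw
    have : y⁻¹ * (y * w * y⁻¹) * y⁻¹⁻¹ = w := by group
    rwa [this] at h1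

theorem OddTI.norm_pow (h : OddTI k D) [Finite G] {x y : G} (hx : x ∈ D) (hx1 : x ≠ 1) {j : ℕ}
    (hy : y * x * y⁻¹ = x ^ j) : y ∈ normalizer (D : Set G) := by
  apply h.normz hx hx1
  have hcard : (zpowers x).map (MulAut.conj y).toMonoidHom = zpowers x := by
    apply Subgroup.eq_of_le_of_card_ge
    · rw [MonoidHom.map_zpowers, zpowers_le]
      show y * x * y⁻¹ ∈ zpowers x
      rw [hy]; exact pow_mem (mem_zpowers x) j
    · rw [card_map_eq (MulAut.conj y)]
  rw [mem_normalizer_iff]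
  intro w
  constructor
  · intro hw
    rw [← hcard]
    exact ⟨w, hw, rfl⟩
  · intro hw
    rw [← hcard] at hw
    obtain ⟨v, hv, hvw⟩ := hw
    have : v = w := (MulAut.conj y).injective hvw
    rw [← this]; exact hv

theorem pow_mem_of_coprime {H : Subgroup G} {y : G} {a b : ℕ} (h : y ^ a ∈ H) (hb : y ^ b = 1)
    (hab : Nat.Coprime a b) : y ∈ H := by
  have h1 : (Nat.gcd a b : ℤ) = a * Nat.gcdA a b + b * Nat.gcdB a b := Nat.gcd_eq_gcd_ab a b
  rw [hab] at h1
  have h2 : y = (y ^ a) ^ (Nat.gcdA a b) * (y ^ b) ^ (Nat.gcdB a b) := by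
    rw [← zpow_natCast y a, ← zpow_natCast y b, ← zpow_mul, ← zpow_mul, ← zpow_add, ← h1]
    simp
  rw [h2, hb, one_zpow, mul_one]
  exact zpow_mem h _

/-- an element of `N(D)` of order prime to 6 lies in `D` -/
theorem OddTI.mem_of_coprime (h : OddTI k D) {y : G} (hy : y ∈ normalizer (D : Set G))
    (ho : Nat.Coprime (orderOf y) 6) : y ∈ D := by
  have e2 : Nat.Coprime (orderOf y) 2 := Nat.Coprime.coprime_dvd_right (by norm_num) ho
  have e3 : Nat.Coprime (orderOf y) 3 := Nat.Coprime.coprime_dvd_right (by norm_num) ho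
  rcases h.exp y hy with h1 | h1
  · exact pow_mem_of_coprime h1 (pow_orderOf_eq_one y) e3.symm
  · exact pow_mem_of_coprime h1 (pow_orderOf_eq_one y)
      (Nat.Coprime.symm (by have := Nat.Coprime.pow_right 2 e2; simpa using this))

theorem coprime_six_of_prime {r : ℕ} (hr : r.Prime) (h5 : 5 ≤ r) : Nat.Coprime r 6 := by
  rw [hr.coprime_iff_not_dvd]
  intro h
  have h1 : r ≤ 6 := Nat.le_of_dvd (by norm_num) h
  interval_cases r <;> revert h hr <;> decide

theorem OddTI.mem_of_prime (h : OddTI k D) {y : G} (hy : y ∈ normalizer (D : Set G)) {r : ℕ}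
    (hr : r.Prime) (h5 : 5 ≤ r) (ho : orderOf y = r) : y ∈ D :=
  h.mem_of_coprime hy (by rw [ho]; exact coprime_six_of_prime hr h5)

/-- a perfect subgroup of `N(D)` lies in `D` -/
theorem OddTI.perfect_le (h : OddTI k D) {Y : Subgroup G} (hY : Y ≤ normalizer (D : Set G))
    (hp : ⁅Y, Y⁆ = Y) : Y ≤ D := by
  obtain ⟨f, hf⟩ := h.hom
  intro y hy
  have h1 : Group.IsPerfect Y := Subgroup.isPerfect_iff.2 hp
  have h2 := H76.PermFour.perfect_hom_eq_one h1 H76.PermFour.solvable_perm_four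
    (f.comp (Subgroup.inclusion hY)) ⟨y, hy⟩
  exact (hf ⟨y, hY hy⟩).1 h2

/-- **no perfect subgroup of even order normalizes a nontrivial subgroup of `D`** -/
theorem OddTI.not_perfect [Finite G] (h : OddTI k D) {X Y : Subgroup G} (hX : X ≤ D) (hX1 : X ≠ ⊥)
    (hY : Y ≤ normalizer (X : Set G)) (hp : ⁅Y, Y⁆ = Y) (h2 : 2 ∣ Nat.card Y) : False := by
  have h1 := h.perfect_le (hY.trans (h.norm X hX hX1)) hp
  have h3 := h2.trans (card_dvd_of_le h1)
  have h4 := h.odd
  rw [← Nat.not_even_iff_odd, even_iff_two_dvd] at h4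
  exact h4 h3

theorem card_normalizer_eq (D : Subgroup G) : Nat.card (normalizer (D : Set G)) =
    Nat.card D * D.relIndex (normalizer (D : Set G)) := by
  rw [Subgroup.relIndex, ← card_mul_index (D.subgroupOf (normalizer (D : Set G))),
    Nat.card_congr (subgroupOfEquivOfLe (le_normalizer (H := D))).toEquiv]

/-- **`8` does not divide the order of a subgroup normalizing a nontrivial subgroup of `D`** -/
theorem OddTI.not_eight [Finite G] (h : OddTI k D) {X Y : Subgroup G} (hX : X ≤ D) (hX1 : X ≠ ⊥)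
    (hY : Y ≤ normalizer (X : Set G)) (h8 : 8 ∣ Nat.card Y) : False := by
  have h1 := h8.trans (card_dvd_of_le (hY.trans (h.norm X hX hX1)))
  rw [card_normalizer_eq] at h1
  have h2 : Nat.Coprime 8 (Nat.card D) := by
    have := (Nat.coprime_two_left.2 h.odd)
    have := Nat.Coprime.pow_left 3 this
    simpa using this
  have h3 := (h2.dvd_of_dvd_mul_left h1).trans h.idx
  omega

/-- for `k = 3` the normalizer of a nontrivial subgroup of `D` has odd order -/
theorem OddTI.not_two [Finite G] (h : OddTI 3 D) {X Y : Subgroup G} (hX : X ≤ D) (hX1 : X ≠ ⊥)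
    (hY : Y ≤ normalizer (X : Set G)) (h8 : 2 ∣ Nat.card Y) : False := by
  have h1 := h8.trans (card_dvd_of_le (hY.trans (h.norm X hX hX1)))
  rw [card_normalizer_eq] at h1
  have h2 : Nat.Coprime 2 (Nat.card D) := Nat.coprime_two_left.2 h.odd
  have h3 := (h2.dvd_of_dvd_mul_left h1).trans (h.idx3 rfl)
  omega

theorem OddTI.conj_map (h : OddTI k D) (g : G) : OddTI k (D.map (MulAut.conj g).toMonoidHom) :=
  h.congr (MulAut.conj g)

/-- a prime `r ≥ 5` dividing `|D|`: `D` contains a Sylow `r`-subgroup of `G` -/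
theorem OddTI.exists_sylow_le [Finite G] (h : OddTI k D) {r : ℕ} (hr : r.Prime) (h5 : 5 ≤ r)
    (hd : r ∣ Nat.card D) : ∃ P : Sylow r G, (P : Subgroup G) ≤ D := by
  haveI : Fact r.Prime := ⟨hr⟩
  obtain ⟨Q, hQ⟩ : ∃ Q : Sylow r D, Q = default := ⟨_, rfl⟩
  clear hQ
  set R : Subgroup G := (Q : Subgroup D).map D.subtype with hR
  have hRp : IsPGroup r R := Q.isPGroup'.map _
  have hRD : R ≤ D := by
    rw [hR]; exact Subgroup.map_subtype_le _
  have hR1 : R ≠ ⊥ := by
    intro h1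
    have h2 : Nat.card R = Nat.card (Q : Subgroup D) :=
      Nat.card_congr ((Q : Subgroup D).equivMapOfInjective _ D.subtype_injective).toEquiv.symm
    rw [h1, card_bot] at h2
    have h3 := Sylow.card_eq_multiplicity Q
    have h4 : 0 < (Nat.card D).factorization r := hr.factorization_pos_of_dvd Nat.card_pos.ne' hd
    rw [← h2] at h3
    have h5 := Nat.one_lt_pow h4.ne' hr.one_lt
    omega
  obtain ⟨P, hP⟩ := hRp.exists_le_sylow
  refine ⟨P, ?_⟩
  have hmax : ∀ S : Subgroup G, IsPGroup r S → R ≤ S → S ≤ D → S = R := by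
    intro S hS hRS hSD
    have h1 : IsPGroup r ↥(S.subgroupOf D) := hS.comap_of_injective _ D.subtype_injective
    have h2 : (Q : Subgroup D) ≤ S.subgroupOf D := by
      intro x hx
      rw [mem_subgroupOf]
      exact hRS ⟨x, hx, rfl⟩
    have h3 := Q.is_maximal' h1 h2
    rw [hR, ← h3, Subgroup.subgroupOf_map_subtype, inf_eq_left.2 hSD]
  have key : (P : Subgroup G) ⊓ normalizer (R : Set G) = R := by
    apply hmax
    · exact P.isPGroup'.to_le inf_le_left
    · exact le_inf hP le_normalizer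
    · intro y hy
      rw [mem_inf] at hy
      have h1 := h.norm R hRD hR1 hy.2
      refine h.mem_of_coprime h1 ?_
      obtain ⟨n, hn⟩ := (IsPGroup.iff_orderOf.1 P.isPGroup') ⟨y, hy.1⟩
      rw [Subgroup.orderOf_mk] at hn
      rw [hn]
      exact Nat.Coprime.pow_left n (coprime_six_of_prime hr h5)
  have h6 : (P : Subgroup G) = R := by
    by_contra hne
    have hlt : R < (P : Subgroup G) := lt_of_le_of_ne hP (Ne.symm hne)
    haveI : Group.IsNilpotent (P : Subgroup G) := P.isPGroup'.isNilpotent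
    have h7 := Group.normalizerCondition_of_isNilpotent (G := (P : Subgroup G))
      (R.subgroupOf (P : Subgroup G)) (lt_top_iff_ne_top.2 (by
        rw [Ne, subgroupOf_eq_top]; exact fun h8 => hne (le_antisymm h8 hP)))
    obtain ⟨z, hz, hzR⟩ := SetLike.exists_of_lt h7
    apply hzR
    rw [mem_subgroupOf, ← key, mem_inf]
    refine ⟨z.2, ?_⟩
    rw [mem_normalizer_iff] at hz ⊢
    intro w
    constructor
    · intro hw
      have h9 := (hz ⟨w, hP hw⟩).1 (by rw [mem_subgroupOf]; exact hw)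
      exact h9
    · intro hw
      have h10 : w ∈ (P : Subgroup G) := by
        have h11 := (P : Subgroup G).mul_mem ((P : Subgroup G).mul_mem
          ((P : Subgroup G).inv_mem z.2) (hP hw)) z.2
        have : (z : G)⁻¹ * (z * w * (z : G)⁻¹) * z = w := by group
        rwa [this] at h11
      have h9 := (hz ⟨w, h10⟩).2 (by rw [mem_subgroupOf]; exact hw)
      exact h9
  rw [h6]; exact hRD

theorem exists_conj_of_sylow_le [Finite G] {r : ℕ} (hr : r.Prime) {D : Subgroup G} {P : Sylow r G}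
    (hP : (P : Subgroup G) ≤ D) {x : G} (hx : orderOf x = r) : ∃ g : G, g * x * g⁻¹ ∈ D := by
  haveI : Fact r.Prime := ⟨hr⟩
  have h1 : IsPGroup r (zpowers x) :=
    IsPGroup.of_card (n := 1) (by rw [Nat.card_zpowers, hx, pow_one])
  obtain ⟨Q, hQ⟩ := h1.exists_le_sylow
  obtain ⟨g, hg⟩ := MulAction.exists_smul_eq G Q P
  refine ⟨g, hP ?_⟩
  rw [← hg, Sylow.coe_subgroup_smul]
  exact Subgroup.smul_mem_pointwise_smul _ (MulAut.conj g) _ (hQ (mem_zpowers x))

/-- for every element `x` of prime order `r ≥ 5`, `r ∣ |D|`, we may assume `x ∈ D` -/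
theorem OddTI.exists_mem [Finite G] (h : OddTI k D) {r : ℕ} (hr : r.Prime) (h5 : 5 ≤ r)
    (hd : r ∣ Nat.card D) {x : G} (hx : orderOf x = r) :
    ∃ D' : Subgroup G, OddTI k D' ∧ Nat.card D' = Nat.card D ∧ x ∈ D' := by
  obtain ⟨P, hP⟩ := h.exists_sylow_le hr h5 hd
  obtain ⟨g, hg⟩ := exists_conj_of_sylow_le hr hP hx
  refine ⟨D.map (MulAut.conj g⁻¹).toMonoidHom, h.conj_map _, card_map_eq _ _, ?_⟩
  refine ⟨g * x * g⁻¹, hg, ?_⟩
  show g⁻¹ * (g * x * g⁻¹) * g⁻¹⁻¹ = x
  group

/-- if `D` contains a Sylow `r`-subgroup `P ≠ 1`, then `|N(D) : D|` divides `|N(P)|` -/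
theorem OddTI.relIndex_dvd [Finite G] (_h : OddTI k D) {r : ℕ} (hr : r.Prime) {P : Sylow r G}
    (hP : (P : Subgroup G) ≤ D) :
    D.relIndex (normalizer (D : Set G)) ∣ Nat.card (normalizer ((P : Subgroup G) : Set G)) := by
  haveI : Fact r.Prime := ⟨hr⟩
  obtain ⟨N, hN⟩ : ∃ N : Subgroup G, N = normalizer (D : Set G) := ⟨_, rfl⟩
  have hDN : D ≤ N := hN ▸ le_normalizer
  rw [← hN]
  -- Frattini
  have hfr : ∀ y ∈ N, ∃ d ∈ D, ∃ z ∈ normalizer ((P : Subgroup G) : Set G) ⊓ N, y = d * z := by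
    intro y hy
    have hPy : (P : Subgroup G).map (MulAut.conj y).toMonoidHom ≤ D := by
      rintro _ ⟨x, hx, rfl⟩
      rw [hN, mem_normalizer_iff] at hy
      exact (hy x).1 (hP hx)
    let P₁ : Sylow r D := P.subtype hP
    let Q : Sylow r G := y • P
    have hQ : (Q : Subgroup G) = (P : Subgroup G).map (MulAut.conj y).toMonoidHom := by
      rw [Sylow.coe_subgroup_smul]; rfl
    have hQD : (Q : Subgroup G) ≤ D := hQ ▸ hPy
    let Q₁ : Sylow r D := Q.subtype hQD
    obtain ⟨d, hd⟩ := MulAction.exists_smul_eq D P₁ Q₁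
    have hd' : ∀ x ∈ (P : Subgroup G), (d : G) * x * (d : G)⁻¹ ∈ (Q : Subgroup G) := by
      intro x hx
      have h1 : (⟨x, hP hx⟩ : D) ∈ (P₁ : Subgroup D) := hx
      have h2 : d * ⟨x, hP hx⟩ * d⁻¹ ∈ ((d • P₁ : Sylow r D) : Subgroup D) := by
        rw [Sylow.coe_subgroup_smul]
        exact Subgroup.smul_mem_pointwise_smul _ (MulAut.conj d) _ h1
      rw [hd] at h2
      exact h2
    refine ⟨d, d.2, (d : G)⁻¹ * y, ?_, by group⟩
    rw [mem_inf]
    refine ⟨?_, N.mul_mem (N.inv_mem (hDN d.2)) hy⟩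
    have h3 : (P : Subgroup G).map (MulAut.conj (d : G)).toMonoidHom = (Q : Subgroup G) := by
      apply Subgroup.eq_of_le_of_card_ge
      · rintro _ ⟨x, hx, rfl⟩
        exact hd' x hx
      · rw [hQ, card_map_eq, card_map_eq]
    have h4 : ∀ x ∈ (P : Subgroup G), (d : G)⁻¹ * y * x * ((d : G)⁻¹ * y)⁻¹ ∈ (P : Subgroup G) := by
      intro x hx
      have h5 : y * x * y⁻¹ ∈ (Q : Subgroup G) := by rw [hQ]; exact ⟨x, hx, rfl⟩
      rw [← h3] at h5
      obtain ⟨v, hv, hvy⟩ := h5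
      have h6 : (d : G) * v * (d : G)⁻¹ = y * x * y⁻¹ := hvy
      have h7 : (d : G)⁻¹ * y * x * ((d : G)⁻¹ * y)⁻¹ = v := by
        calc (d : G)⁻¹ * y * x * ((d : G)⁻¹ * y)⁻¹ = (d : G)⁻¹ * (y * x * y⁻¹) * d := by group
          _ = (d : G)⁻¹ * ((d : G) * v * (d : G)⁻¹) * d := by rw [h6]
          _ = v := by group
      rw [h7]; exact hv
    have h8 : (P : Subgroup G).map (MulAut.conj ((d : G)⁻¹ * y)).toMonoidHom = (P : Subgroup G) := by
      apply Subgroup.eq_of_le_of_card_ge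
      · rintro _ ⟨x, hx, rfl⟩
        exact h4 x hx
      · rw [card_map_eq]
    rw [mem_normalizer_iff]
    intro w
    constructor
    · intro hw; exact h4 w hw
    · intro hw
      have hw' : (d : G)⁻¹ * y * w * ((d : G)⁻¹ * y)⁻¹ ∈ (P : Subgroup G) := hw
      rw [← h8] at hw'
      obtain ⟨v, hv, hvw⟩ := hw'
      have : v = w := (MulAut.conj ((d : G)⁻¹ * y)).injective hvw
      rw [← this]; exact hv
  obtain ⟨K', hK'⟩ : ∃ K' : Subgroup G, K' = normalizer ((P : Subgroup G) : Set G) ⊓ N := ⟨_, rfl⟩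
  rw [← hK'] at hfr
  have hK'N : K' ≤ N := hK' ▸ inf_le_right
  haveI : (D.subgroupOf N).Normal := by
    subst hN
    exact normal_in_normalizer
  have h1 : K'.subgroupOf N ⊔ D.subgroupOf N = ⊤ := by
    rw [eq_top_iff]
    intro y _
    obtain ⟨d, hd, z, hz, hy⟩ := hfr y y.2
    have h3 : y = ⟨d, hDN hd⟩ * ⟨z, hK'N hz⟩ := Subtype.ext hy
    rw [h3]
    exact mul_mem (mem_sup_right (by rw [mem_subgroupOf]; exact hd))
      (mem_sup_left (by rw [mem_subgroupOf]; exact hz))
  have h2 : D.relIndex N = (D.subgroupOf N).relIndex (K'.subgroupOf N) := by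
    have h3 := relIndex_sup_right (H := K'.subgroupOf N) (K := D.subgroupOf N)
    rw [← h3, h1, relIndex_top_right]
    rfl
  rw [h2]
  refine (relIndex_dvd_card _ _).trans ?_
  rw [Nat.card_congr (subgroupOfEquivOfLe hK'N).toEquiv]
  exact card_dvd_of_le (hK' ▸ inf_le_left)

/-- "`v` is not in `D`" for all `D` with `x ∈ D` and `3 ∤ |D|` -/
def Out (x v : G) : Prop := 2 ∣ orderOf v ∨ 3 ∣ orderOf v ∨ v * x ≠ x * v

theorem orderOf_dvd_card_of_mem [Finite G] {v : G} (hv : v ∈ D) : orderOf v ∣ Nat.card D := by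
  have h1 : orderOf (⟨v, hv⟩ : D) = orderOf v := Subgroup.orderOf_mk v hv
  rw [← h1]
  exact orderOf_dvd_natCard _

theorem pow_conj_iter {v x : G} {j : ℕ} (hj : v * x * v⁻¹ = x ^ j) (n : ℕ) :
    v ^ n * x * (v ^ n)⁻¹ = x ^ (j ^ n) := by
  induction n with
  | zero => simp
  | succ n ih =>
    have e : v ^ (n + 1) * x * (v ^ (n + 1))⁻¹ = v ^ n * (v * x * v⁻¹) * (v ^ n)⁻¹ := by
      rw [pow_succ]; group
    rw [e, hj, ← conj_pow, ih, ← pow_mul, pow_succ]

/-- elements of `D` normalizing `⟨x⟩` centralize it, if `orderOf x` is the smallest prime divisor of `|D|` -/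
theorem OddTI.commute_of_min [Finite G] (h : OddTI k D) (h3 : ¬ 3 ∣ Nat.card D) {r : ℕ}
    (hr : r.Prime) (hmin : ∀ s : ℕ, s.Prime → 5 ≤ s → s ∣ Nat.card D → r ≤ s) {x v : G}
    (hx : orderOf x = r) (hv : v ∈ D) (hn : v ∈ normalizer (zpowers x : Set G)) :
    v * x = x * v := by
  haveI : Fact r.Prime := ⟨hr⟩
  have h1 : v * x * v⁻¹ ∈ zpowers x := (mem_normalizer_iff.1 hn x).1 (mem_zpowers x)
  rw [← (isOfFinOrder_of_finite x).mem_powers_iff_mem_zpowers] at h1
  obtain ⟨j, hj⟩ := h1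
  have hj' : v * x * v⁻¹ = x ^ j := hj.symm
  have h2 := pow_conj_iter hj' (orderOf v)
  rw [pow_orderOf_eq_one, one_mul, inv_one, mul_one] at h2
  have h4 : (j : ZMod r) ^ orderOf v = 1 := by
    have h5 : x ^ 1 = x ^ (j ^ orderOf v) := by rw [pow_one]; exact h2
    rw [pow_eq_pow_iff_modEq, hx] at h5
    have h6 := (ZMod.natCast_eq_natCast_iff _ _ _).2 h5
    rw [Nat.cast_pow] at h6
    rw [← h6]; simp
  have hj0 : (j : ZMod r) ≠ 0 := by
    intro h5
    rw [h5, zero_pow (orderOf_pos v).ne'] at h4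
    exact zero_ne_one h4
  have h5 : (j : ZMod r) ^ (r - 1) = 1 := ZMod.pow_card_sub_one_eq_one hj0
  have h6 : orderOf (j : ZMod r) ∣ orderOf v := orderOf_dvd_of_pow_eq_one h4
  have h7 : orderOf (j : ZMod r) ∣ r - 1 := orderOf_dvd_of_pow_eq_one h5
  have h8 : orderOf (j : ZMod r) = 1 := by
    by_contra hne
    obtain ⟨s, hs, hsd⟩ := Nat.exists_prime_and_dvd hne
    have h9 := (hsd.trans h6).trans (orderOf_dvd_card_of_mem hv)
    have h10 : s ≤ r - 1 := Nat.le_of_dvd (by have := hr.two_le; omega) (hsd.trans h7)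
    have h11 : 5 ≤ s := by
      by_contra hlt
      have h12 : s = 2 ∨ s = 3 ∨ s = 4 := by have := hs.two_le; omega
      rcases h12 with h12 | h12 | h12
      · have h4 := h.odd
        rw [← Nat.not_even_iff_odd, even_iff_two_dvd] at h4
        exact h4 (h12 ▸ h9)
      · exact h3 (h12 ▸ h9)
      · rw [h12] at hs; revert hs; decide
    have := hmin s hs h11 h9
    have := hr.two_le
    omega
  rw [orderOf_eq_one_iff] at h8
  have h9 : x ^ j = x ^ 1 := by
    rw [pow_eq_pow_iff_modEq, hx, ← ZMod.natCast_eq_natCast_iff, h8]; simp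
  rw [pow_one] at h9
  rw [h9] at hj'
  calc v * x = v * x * v⁻¹ * v := by group
    _ = x * v := by rw [hj']

/-- `v ∉ D` -/
theorem OddTI.not_mem_of_out [Finite G] (h : OddTI k D) (h3 : ¬ 3 ∣ Nat.card D) {r : ℕ}
    (hr : r.Prime) (hmin : ∀ s : ℕ, s.Prime → 5 ≤ s → s ∣ Nat.card D → r ≤ s) {x v : G}
    (hx : orderOf x = r) (hn : v ∈ normalizer (zpowers x : Set G)) (ho : Out x v) : v ∉ D := by
  intro hv
  have h1 := orderOf_dvd_card_of_mem hv
  rcases ho with h2 | h2 | h2
  · have h4 := h.odd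
    rw [← Nat.not_even_iff_odd, even_iff_two_dvd] at h4
    exact h4 (h2.trans h1)
  · exact h3 (h2.trans h1)
  · exact h2 (h.commute_of_min h3 hr hmin hx hv hn)

/-- **bad elements**: never in `D` -/
def Bad (x : G) : Prop :=
  ∃ Y : Subgroup G, Y ≤ normalizer (zpowers x : Set G) ∧
    ((⁅Y, Y⁆ = Y ∧ 2 ∣ Nat.card Y) ∨ 8 ∣ Nat.card Y)

theorem mem_normalizer_conj {x y : G} (g : G) (hy : y ∈ normalizer (zpowers x : Set G)) :
    g * y * g⁻¹ ∈ normalizer (zpowers (g * x * g⁻¹) : Set G) := by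
  have h1 : zpowers (g * x * g⁻¹) = (zpowers x).map (MulAut.conj g).toMonoidHom := by
    rw [MonoidHom.map_zpowers]; rfl
  rw [h1, mem_normalizer_map_iff (MulAut.conj g)]
  have h2 : (MulAut.conj g).symm (g * y * g⁻¹) = y := by
    rw [MulEquiv.symm_apply_eq]; rfl
  rw [h2]; exact hy

theorem Bad.conj {x : G} (h : Bad x) (g : G) : Bad (g * x * g⁻¹) := by
  obtain ⟨Y, hY, h1⟩ := h
  refine ⟨Y.map (MulAut.conj g).toMonoidHom, ?_, ?_⟩
  · rintro _ ⟨y, hy, rfl⟩
    exact mem_normalizer_conj g (hY hy)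
  · rw [card_map_eq]
    rcases h1 with ⟨h1, h2⟩ | h1
    · left
      refine ⟨?_, h2⟩
      rw [← Subgroup.map_commutator, h1]
    · exact Or.inr h1

theorem OddTI.not_bad [Finite G] (h : OddTI k D) {x : G} (hx : x ∈ D) (hx1 : x ≠ 1) : ¬ Bad x := by
  rintro ⟨Y, hY, ⟨h1, h2⟩ | h1⟩
  · exact h.not_perfect (by rwa [zpowers_le]) (zpowers_ne_bot' hx1) hY h1 h2
  · exact h.not_eight (by rwa [zpowers_le]) (zpowers_ne_bot' hx1) hY h1

/-- **the prime 3 is bad** (then `3 ∤ |D|`) -/
def Bad3 (G : Type*) [Group G] : Prop :=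
  (∃ P : Sylow 3 G, ∀ x ∈ (P : Subgroup G), orderOf x = 3 → Bad x) ∨
  ((∃ x : G, orderOf x = 3 ∧ Bad x) ∧
    ∀ P : Sylow 3 G, ¬ (Nat.card P = 9 ∧ ∀ x ∈ (P : Subgroup G), x ^ 3 = 1))

theorem OddTI.not_three_dvd [Finite G] (h : OddTI k D) (hb : Bad3 G) : ¬ 3 ∣ Nat.card D := by
  intro h3
  haveI : Fact (Nat.Prime 3) := ⟨Nat.prime_three⟩
  rcases hb with ⟨P, hP⟩ | ⟨⟨x, hx, hbx⟩, h9⟩
  · obtain ⟨d, hd⟩ := exists_prime_orderOf_dvd_card' 3 h3
    have hd' : orderOf (d : G) = 3 := by rw [Subgroup.orderOf_coe]; exact hd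
    obtain ⟨g, hg⟩ := exists_conj_of_sylow_le Nat.prime_three (le_refl (P : Subgroup G)) hd'
    have h4 : orderOf (g * (d : G) * g⁻¹) = 3 := by
      rw [← hd']
      exact (MulAut.conj g).orderOf_eq (d : G)
    have h5 := (hP _ hg h4).conj g⁻¹
    have h6 : g⁻¹ * (g * (d : G) * g⁻¹) * g⁻¹⁻¹ = d := by group
    rw [h6] at h5
    refine h.not_bad d.2 ?_ h5
    intro h7
    rw [h7, orderOf_one] at hd'
    omega
  · rcases h.three h3 with ⟨P, hP⟩ | h10
    · obtain ⟨g, hg⟩ := exists_conj_of_sylow_le Nat.prime_three hP hx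
      refine h.not_bad hg ?_ (hbx.conj g)
      intro h7
      have h8 : orderOf (g * x * g⁻¹) = 3 := by
        rw [← hx]; exact (MulAut.conj g).orderOf_eq x
      rw [h7, orderOf_one] at h8
      omega
    · exact h9 default (h10 default)

/-- **the prime `r ≥ 5` is killed** (it is not the smallest prime `≥ 5` of `|D|`) -/
def Kill (k r : ℕ) (G : Type*) [Group G] : Prop :=
  (∃ x : G, orderOf x = r ∧
    (Bad x ∨
     (∃ u ∈ normalizer (zpowers x : Set G), Out x (u ^ 3) ∧ Out x (u ^ 4)) ∨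
     (∃ u ∈ normalizer (zpowers x : Set G), ∃ z ∈ normalizer (zpowers x : Set G),
        Out x (u ^ 2) ∧ Out x (u ^ 3) ∧ orderOf z = 3) ∨
     (∃ z ∈ normalizer (zpowers x : Set G), ∃ w ∈ normalizer (zpowers x : Set G),
        orderOf z = 3 ∧ w * z * w⁻¹ = z⁻¹) ∨
     (k = 3 ∧ 2 ∣ Nat.card (normalizer (zpowers x : Set G))) ∨
     (∃ z ∈ normalizer (zpowers x : Set G), z ≠ 1 ∧ Nat.Coprime (orderOf z) 6 ∧ Bad z))) ∨
  (∃ P : Sylow r G, ¬ k ∣ Nat.card (normalizer ((P : Subgroup G) : Set G)))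

theorem OddTI.not_kill [Finite G] (h : OddTI k D) (h3 : ¬ 3 ∣ Nat.card D) {r : ℕ} (hr : r.Prime)
    (h5 : 5 ≤ r) (hd : r ∣ Nat.card D)
    (hmin : ∀ s : ℕ, s.Prime → 5 ≤ s → s ∣ Nat.card D → r ≤ s) : ¬ Kill k r G := by
  rintro (⟨x, hx, hk⟩ | ⟨P, hP⟩)
  · obtain ⟨E, hE, hcE, hxE⟩ := h.exists_mem hr h5 hd hx
    have hx1 : x ≠ 1 := by
      rintro rfl
      rw [orderOf_one] at hx
      omega
    rw [← hcE] at h3 hmin
    have hN := hE.normz hxE hx1
    have hout : ∀ v ∈ normalizer (zpowers x : Set G), Out x v → v ∉ E := fun v hv ho =>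
      hE.not_mem_of_out h3 hr hmin hx hv ho
    have ho3 : ∀ z : G, orderOf z = 3 → z ∉ E := by
      intro z hz hzE
      exact h3 (hz ▸ orderOf_dvd_card_of_mem hzE)
    rcases hk with h1 | ⟨u, hu, h1, h2⟩ | ⟨u, hu, z, hz, h1, h2, hz3⟩ | ⟨z, hz, w, hw, hz3, hi⟩ | ⟨rfl, h1⟩ |
      ⟨z, hz, hz1, hz6, hb⟩
    · exact hE.not_bad hxE hx1 h1
    · rcases hE.exp u (hN hu) with h4 | h4
      · exact hout _ (pow_mem hu 3) h1 h4
      · exact hout _ (pow_mem hu 4) h2 h4
    · have h4 : u ^ 4 ∈ E := by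
        rcases hE.exp u (hN hu) with h4 | h4
        · exact absurd h4 (hout _ (pow_mem hu 3) h2)
        · exact h4
      have h6 := hE.four u (hN hu) (hout _ (pow_mem hu 2) h1) h4
      -- `z ∈ E`
      have hzN := hN hz
      haveI : (E.subgroupOf (normalizer (E : Set G))).Normal := normal_in_normalizer
      have h7 : (⟨z, hzN⟩ : normalizer (E : Set G)) ^ (E.subgroupOf (normalizer (E : Set G))).index ∈
          E.subgroupOf (normalizer (E : Set G)) := pow_index_mem _ _
      have h8 : (E.subgroupOf (normalizer (E : Set G))).index = 4 := h6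
      rw [h8, mem_subgroupOf] at h7
      have h9 : z ^ 4 ∈ E := h7
      refine ho3 z hz3 (pow_mem_of_coprime h9 (b := 3) ?_ (by norm_num))
      rw [← hz3, pow_orderOf_eq_one]
    · refine ho3 z hz3 (hE.noinv z (hN hz) w (hN hw) ?_ ?_)
      · rw [← hz3, pow_orderOf_eq_one]; exact one_mem _
      · rw [hi, inv_mul_cancel]; exact one_mem _
    · exact hE.not_two (by rwa [zpowers_le]) (zpowers_ne_bot' hx1) le_rfl h1
    · exact hE.not_bad (hE.mem_of_coprime (hN hz) hz6) hz1 hb
  · obtain ⟨Q, hQ⟩ := h.exists_sylow_le hr h5 hd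
    haveI : Fact r.Prime := ⟨hr⟩
    have hQ1 : (Q : Subgroup G) ≠ ⊥ := by
      have h1 : r ∣ Nat.card G := hd.trans (card_subgroup_dvd_card D)
      have h2 := Q.dvd_card_of_dvd_card h1
      intro h4
      rw [h4, card_bot] at h2
      exact hr.one_lt.ne' (Nat.dvd_one.1 h2)
    have h1 := (h.tran r Q hr hQ hQ1).trans (h.relIndex_dvd hr hQ)
    apply hP
    obtain ⟨g, hg⟩ := MulAction.exists_smul_eq G P Q
    have h2 : (Q : Subgroup G) = (P : Subgroup G).map (MulAut.conj g).toMonoidHom := by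
      rw [← hg, Sylow.coe_subgroup_smul]; rfl
    rw [h2, normalizer_map_eq, card_map_eq] at h1
    exact h1

/-- **The criterion.** -/
theorem noTI_of [Finite G] (hb : 3 ∣ Nat.card G → Bad3 G)
    (hk : ∀ r : ℕ, r.Prime → 5 ≤ r → r ∣ Nat.card G → Kill k r G) : NoTI k G := by
  intro D h
  have h3 : ¬ 3 ∣ Nat.card D := by
    intro h1
    exact h.not_three_dvd (hb (h1.trans (card_subgroup_dvd_card D))) h1
  have hne : Nat.card D ≠ 1 := by
    intro h1
    exact h.ne (Subgroup.eq_bot_of_card_eq D h1)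
  obtain ⟨s, hs, hsd⟩ := Nat.exists_prime_and_dvd hne
  have h5 : ∀ s : ℕ, s.Prime → s ∣ Nat.card D → 5 ≤ s := by
    intro s hs hsd
    by_contra hlt
    have h12 : s = 2 ∨ s = 3 ∨ s = 4 := by have := hs.two_le; omega
    rcases h12 with h12 | h12 | h12
    · have h4 := h.odd
      rw [← Nat.not_even_iff_odd, even_iff_two_dvd] at h4
      exact h4 (h12 ▸ hsd)
    · exact h3 (h12 ▸ hsd)
    · rw [h12] at hs; revert hs; decide
  have hmin := Nat.minFac_prime hne
  refine h.not_kill h3 hmin (h5 _ hmin (Nat.minFac_dvd _)) (Nat.minFac_dvd _) ?_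
    (hk _ hmin (h5 _ hmin (Nat.minFac_dvd _)) ((Nat.minFac_dvd _).trans (card_subgroup_dvd_card D)))
  intro t ht _ htd
  exact Nat.minFac_le_of_dvd ht.two_le htd

/-- the row statement for large groups -/
def No34 (G : Type*) [Group G] : Prop := NoTI 3 G ∧ NoTI 4 G

theorem No34.congr {G' : Type*} [Group G'] (e : G ≃* G') (h : No34 G) : No34 G' :=
  ⟨h.1.congr e, h.2.congr e⟩

/-- `Kill` alternatives independent of `k` -/
def KillAll (r : ℕ) (G : Type*) [Group G] : Prop :=
  ∃ x : G, orderOf x = r ∧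
    (Bad x ∨
     (∃ u ∈ normalizer (zpowers x : Set G), Out x (u ^ 3) ∧ Out x (u ^ 4)) ∨
     (∃ u ∈ normalizer (zpowers x : Set G), ∃ z ∈ normalizer (zpowers x : Set G),
        Out x (u ^ 2) ∧ Out x (u ^ 3) ∧ orderOf z = 3) ∨
     (∃ z ∈ normalizer (zpowers x : Set G), ∃ w ∈ normalizer (zpowers x : Set G),
        orderOf z = 3 ∧ w * z * w⁻¹ = z⁻¹) ∨
     (∃ z ∈ normalizer (zpowers x : Set G), z ≠ 1 ∧ Nat.Coprime (orderOf z) 6 ∧ Bad z))

theorem KillAll.kill {r : ℕ} (h : KillAll r G) (k : ℕ) : Kill k r G := by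
  obtain ⟨x, hx, h1 | h1 | h1 | h1 | h1⟩ := h
  · exact Or.inl ⟨x, hx, Or.inl h1⟩
  · exact Or.inl ⟨x, hx, Or.inr (Or.inl h1)⟩
  · exact Or.inl ⟨x, hx, Or.inr (Or.inr (Or.inl h1))⟩
  · exact Or.inl ⟨x, hx, Or.inr (Or.inr (Or.inr (Or.inl h1)))⟩
  · exact Or.inl ⟨x, hx, Or.inr (Or.inr (Or.inr (Or.inr (Or.inr h1))))⟩

/-- for `k = 3`: all elements of order 3 have normalizers of even order -/
def Even3 (G : Type*) [Group G] : Prop :=
  ∀ x : G, orderOf x = 3 → 2 ∣ Nat.card (normalizer (zpowers x : Set G))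

theorem OddTI.not_three_dvd_of_even [Finite G] (h : OddTI 3 D) (hb : Even3 G) : ¬ 3 ∣ Nat.card D := by
  intro h3
  haveI : Fact (Nat.Prime 3) := ⟨Nat.prime_three⟩
  obtain ⟨d, hd⟩ := exists_prime_orderOf_dvd_card' 3 h3
  have hd' : orderOf (d : G) = 3 := by rw [Subgroup.orderOf_coe]; exact hd
  have hd1 : (d : G) ≠ 1 := by
    intro h7
    rw [h7, orderOf_one] at hd'
    omega
  exact h.not_two (by rw [zpowers_le]; exact d.2) (zpowers_ne_bot' hd1) le_rfl (hb _ hd')

/-- **The criterion for `k = 3`** with `Even3` -/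
theorem noTI3_of [Finite G] (hb : 3 ∣ Nat.card G → Bad3 G ∨ Even3 G)
    (hk : ∀ r : ℕ, r.Prime → 5 ≤ r → r ∣ Nat.card G → Kill 3 r G) : NoTI 3 G := by
  intro D h
  have h3 : ¬ 3 ∣ Nat.card D := by
    intro h1
    rcases hb (h1.trans (card_subgroup_dvd_card D)) with h2 | h2
    · exact h.not_three_dvd h2 h1
    · exact h.not_three_dvd_of_even h2 h1
  have hne : Nat.card D ≠ 1 := by
    intro h1
    exact h.ne (Subgroup.eq_bot_of_card_eq D h1)
  have h5 : ∀ s : ℕ, s.Prime → s ∣ Nat.card D → 5 ≤ s := by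
    intro s hs hsd
    by_contra hlt
    have h12 : s = 2 ∨ s = 3 ∨ s = 4 := by have := hs.two_le; omega
    rcases h12 with h12 | h12 | h12
    · have h4 := h.odd
      rw [← Nat.not_even_iff_odd, even_iff_two_dvd] at h4
      exact h4 (h12 ▸ hsd)
    · exact h3 (h12 ▸ hsd)
    · rw [h12] at hs; revert hs; decide
  have hmin := Nat.minFac_prime hne
  refine h.not_kill h3 hmin (h5 _ hmin (Nat.minFac_dvd _)) (Nat.minFac_dvd _) ?_
    (hk _ hmin (h5 _ hmin (Nat.minFac_dvd _)) ((Nat.minFac_dvd _).trans (card_subgroup_dvd_card D)))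
  intro t ht _ htd
  exact Nat.minFac_le_of_dvd ht.two_le htd

/-- **The criterion for rows**: `Bad3` and, for every prime `r ≥ 5`, `KillAll` (or `Kill 3` and `Kill 4`). -/
theorem no34_of [Finite G] (hb : 3 ∣ Nat.card G → Bad3 G)
    (hk : ∀ r : ℕ, r.Prime → 5 ≤ r → r ∣ Nat.card G → KillAll r G ∨ (Kill 3 r G ∧ Kill 4 r G)) :
    No34 G := by
  constructor
  · refine noTI_of hb fun r hr h5 hd => ?_
    rcases hk r hr h5 hd with h | h
    · exact h.kill 3
    · exact h.1
  · refine noTI_of hb fun r hr h5 hd => ?_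
    rcases hk r hr h5 hd with h | h
    · exact h.kill 4
    · exact h.2

/-- the most frequent use: `u x u⁻¹ = x^j` where `j` has order at least 5 modulo `r` -/
theorem killAll_of_conj [Finite G] {r : ℕ} {x u : G} (hx : orderOf x = r) {j : ℕ}
    (hu : u * x * u⁻¹ = x ^ j) (h3 : ¬ j ^ 3 ≡ 1 [MOD r]) (h4 : ¬ j ^ 4 ≡ 1 [MOD r]) :
    KillAll r G := by
  have hn : u ∈ normalizer (zpowers x : Set G) := by
    have hcard : (zpowers x).map (MulAut.conj u).toMonoidHom = zpowers x := by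
      apply Subgroup.eq_of_le_of_card_ge
      · rw [MonoidHom.map_zpowers, zpowers_le]
        show u * x * u⁻¹ ∈ zpowers x
        rw [hu]; exact pow_mem (mem_zpowers x) j
      · rw [card_map_eq (MulAut.conj u)]
    rw [mem_normalizer_iff]
    intro w
    constructor
    · intro hw
      rw [← hcard]
      exact ⟨w, hw, rfl⟩
    · intro hw
      rw [← hcard] at hw
      obtain ⟨v, hv, hvw⟩ := hw
      have : v = w := (MulAut.conj u).injective hvw
      rw [← this]; exact hv
  refine ⟨x, hx, Or.inr (Or.inl ⟨u, hn, ?_, ?_⟩)⟩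
  · right; right
    intro hc
    apply h3
    have h1 := pow_conj_iter hu 3
    rw [hc] at h1
    have h2 : x ^ 1 = x ^ j ^ 3 := by rw [← h1, pow_one]; group
    rw [pow_eq_pow_iff_modEq, hx] at h2
    exact h2.symm
  · right; right
    intro hc
    apply h4
    have h1 := pow_conj_iter hu 4
    rw [hc] at h1
    have h2 : x ^ 1 = x ^ j ^ 4 := by rw [← h1, pow_one]; group
    rw [pow_eq_pow_iff_modEq, hx] at h2
    exact h2.symm

end engine

end Cfsg.Agent.H254.Fx
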