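import Cfsg.Agent.H254.FxEven
import Cfsg.Prelude.Def_Involutions

/-!
# Fixity 3 and 4: the pointwise stabilizer `D` of the fixed points of an element with exactly `k` fixed points, and
strongly embedded subgroups (helper254)
-/

set_option autoImplicit false
set_option linter.style.haveILetI false
set_option linter.unusedVariables false

namespace Cfsg.Agent.H254.Ev

open Subgroup Cfsg.Agent.H350.Fix Cfsg.Agent.H254.Fx
open Cfsg.Agent.EvenType.StrongP (mem_map_conj of_normIn sylow_conj_in)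

/-- the pointwise stabilizer `D ≤ H` of the `k` fixed points of an element of `H` -/
structure EvTI {G : Type*} [Group G] (k : ℕ) (H D : Subgroup G) : Prop where
  le : D ≤ H
  ne : D ≠ ⊥
  /-- local control -/
  norm : ∀ X : Subgroup G, X ≤ D → X ≠ ⊥ → normalizer (X : Set G) ≤ normalizer (D : Set G)
  hom : ∃ f : ↥(normalizer (D : Set G)) →* Equiv.Perm (Fin 4), ∀ y, f y = 1 ↔ (y : G) ∈ D
  idx : D.relIndex (normalizer (D : Set G)) ∣ k.factorial
  exp : ∀ y ∈ normalizer (D : Set G), y ^ 3 ∈ D ∨ y ^ 4 ∈ D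
  /-- `N(D)` is transitive on the `k` points if `D` contains a Sylow subgroup -/
  tran : ∀ (r : ℕ) (P : Sylow r G), r.Prime → (P : Subgroup G) ≤ D → (P : Subgroup G) ≠ ⊥ →
    k ∣ D.relIndex (normalizer (D : Set G))

theorem perm_exp' : ∀ σ : Equiv.Perm (Fin 4), σ ^ 3 = 1 ∨ σ ^ 4 = 1 := by decide +kernel

section exact

variable {G : Type*} [Group G] {H D : Subgroup G} {k : ℕ}

theorem kst_fix' {Ω : Type*} [MulAction G Ω] [Finite Ω]
    (hfix : ∀ g : G, g ≠ 1 → (MulAction.fixedBy Ω g).ncard ≤ k)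
    {Δ : Set Ω} (hΔ : Δ.ncard = k) {y : G} (hy : y ∈ kst G Δ) (hy1 : y ≠ 1) :
    MulAction.fixedBy Ω y = Δ := by
  symm
  exact Set.eq_of_subset_of_ncard_le (fun z hz => hy z hz) (by rw [hΔ]; exact hfix y hy1)
    (Set.toFinite _)

theorem normalizer_le_mst' {Ω : Type*} [MulAction G Ω] [Finite Ω]
    (hfix : ∀ g : G, g ≠ 1 → (MulAction.fixedBy Ω g).ncard ≤ k)
    {Δ : Set Ω} (hΔ : Δ.ncard = k) {X : Subgroup G} (hX : X ≤ kst G Δ) (hX1 : X ≠ ⊥) :
    normalizer (X : Set G) ≤ mst G Δ := by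
  intro n hn
  obtain ⟨x, hx, hx1⟩ := exists_ne_one hX1
  refine mem_mst_of_fixedBy (kst_fix' hfix hΔ (hX hx) hx1)
    (kst_fix' hfix hΔ (hX ((mem_normalizer_iff.1 hn x).1 hx)) ?_)
  intro h
  apply hx1
  have : x = n⁻¹ * (n * x * n⁻¹) * n := by group
  rw [this, h]; simp

theorem mst_le_normalizer' {Ω : Type*} [MulAction G Ω] (Δ : Set Ω) :
    mst G Δ ≤ normalizer (kst G Δ : Set G) := by
  intro g hg
  rw [mem_normalizer_iff]
  intro x
  constructor
  · intro hx; exact mst_kst_normal hg hx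
  · intro hx
    have h1 := mst_kst_normal (inv_mem hg) hx
    have : g⁻¹ * (g * x * g⁻¹) * g⁻¹⁻¹ = x := by group
    rwa [this] at h1

/-- every element with exactly `k` fixed cosets has a conjugate in `H` (`k ≥ 1`) with the same property -/
theorem exists_conj_exact [Finite G] (hk : 1 ≤ k) {t : G}
    (ht : (MulAction.fixedBy (G ⧸ H) t).ncard = k) :
    ∃ a : G, a⁻¹ * t * a ∈ H ∧ (MulAction.fixedBy (G ⧸ H) (a⁻¹ * t * a)).ncard = k := by
  have h1 : (MulAction.fixedBy (G ⧸ H) t).Nonempty := by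
    rw [← Set.ncard_pos]; omega
  obtain ⟨b, hb⟩ := h1
  obtain ⟨a, rfl⟩ := QuotientGroup.mk_surjective b
  refine ⟨a, (mk_mem_fixedBy t a).1 hb, ?_⟩
  have h3 : MulAction.fixedBy (G ⧸ H) t =
      (fun c => a • c) '' MulAction.fixedBy (G ⧸ H) (a⁻¹ * t * a) := by
    ext c
    constructor
    · intro hc
      refine ⟨a⁻¹ • c, ?_, smul_inv_smul a c⟩
      rw [MulAction.mem_fixedBy] at hc ⊢
      rw [mul_smul, mul_smul, smul_inv_smul, hc]
    · rintro ⟨b, hb, rfl⟩
      rw [MulAction.mem_fixedBy] at hb ⊢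
      rw [mul_smul, mul_smul, inv_smul_eq_iff] at hb
      exact hb
  rw [← ht, h3, Set.ncard_image_of_injective _ (MulAction.injective a)]

/-- **the TI subgroup of an element with exactly `k` fixed cosets** -/
theorem FixLE.exists_ti [Finite G] (h : FixLE k H) (hk1 : 1 ≤ k) (hk : k ≤ 4) {t : G} (htH : t ∈ H)
    (ht1 : t ≠ 1) (ht : (MulAction.fixedBy (G ⧸ H) t).ncard = k) :
    ∃ D : Subgroup G, EvTI k H D ∧ t ∈ D := by
  classical
  obtain ⟨Δ, hΔdef⟩ : ∃ Δ : Set (G ⧸ H), Δ = MulAction.fixedBy (G ⧸ H) t := ⟨_, rfl⟩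
  rw [← hΔdef] at ht
  have hΔ := ht
  have htr : MulAction.IsPretransitive G (G ⧸ H) := inferInstance
  have htD : t ∈ kst G Δ := by
    intro z hz
    rw [hΔdef] at hz
    exact hz
  have hne : kst G Δ ≠ ⊥ := by
    intro h1
    rw [h1, mem_bot] at htD
    exact ht1 htD
  obtain ⟨a₀, ha₀def⟩ : ∃ a : G ⧸ H, a = ((1 : G) : G ⧸ H) := ⟨_, rfl⟩
  have ha₀ : a₀ ∈ Δ := by
    rw [hΔdef, ha₀def, mk_mem_fixedBy]; simpa using htH
  have hst : ∀ g : G, g • a₀ = a₀ ↔ g ∈ H := by
    intro g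
    rw [ha₀def, ← MulAction.mem_fixedBy, mk_mem_fixedBy]; simp
  have hNK : normalizer (kst G Δ : Set G) = mst G Δ :=
    le_antisymm (normalizer_le_mst' h hΔ le_rfl hne) (mst_le_normalizer' Δ)
  have hact : ∀ g ∈ mst G Δ, ∀ x ∈ Δ, g • x ∈ Δ := fun g hg x hx => (hg x).2 hx
  obtain ⟨f, hf⟩ : ∃ f : ↥(mst G Δ) →* Equiv.Perm (Fin 4), ∀ y, f y = 1 ↔ (y : G) ∈ kst G Δ := by
    haveI := Fintype.ofFinite Δ
    have hc : Nat.card Δ = k := hΔ
    have h1 : Nonempty (Δ ↪ Fin 4) := by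
      apply Function.Embedding.nonempty_of_card_le
      rw [← Nat.card_eq_fintype_card, hc]; simpa using hk
    obtain ⟨ι⟩ := h1
    refine ⟨(Equiv.Perm.viaEmbeddingHom ι).comp (actOn (mst G Δ) Δ hact), ?_⟩
    intro y
    rw [MonoidHom.comp_apply]
    constructor
    · intro h
      have h2 : actOn (mst G Δ) Δ hact y = 1 :=
        Equiv.Perm.viaEmbeddingHom_injective ι (by rw [h, map_one])
      exact (mem_ker_actOn hact y).1 h2
    · intro h
      have h3 : actOn (mst G Δ) Δ hact y = 1 := (mem_ker_actOn hact y).2 h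
      rw [h3, map_one]
  refine ⟨kst G Δ, ⟨?_, hne, ?_, ?_, ?_, ?_, ?_⟩, htD⟩
  · intro g hg
    exact (hst g).1 (hg a₀ ha₀)
  · intro X hX hX1
    rw [hNK]
    exact normalizer_le_mst' h hΔ hX hX1
  · rw [hNK]; exact ⟨f, hf⟩
  · rw [hNK]; exact relIndex_dvd_factorial hΔ hact (fun g _ => mem_kst)
  · rw [hNK]
    intro y hy
    have h1 := perm_exp' (f ⟨y, hy⟩)
    rw [← map_pow, ← map_pow, hf, hf] at h1
    exact h1
  · intro r P hr hP hP1
    rw [hNK]
    haveI : Fact r.Prime := ⟨hr⟩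
    have hNP : normalizer ((P : Subgroup G) : Set G) ≤ mst G Δ := normalizer_le_mst' h hΔ hP hP1
    have htr' : ∀ b ∈ Δ, ∃ n ∈ normalizer ((P : Subgroup G) : Set G), n • a₀ = b := by
      intro b hb
      obtain ⟨g, hg⟩ := htr.exists_smul_eq a₀ b
      have hPa : (P : Subgroup G) ≤ MulAction.stabilizer G a₀ := fun x hx => hP hx a₀ ha₀
      have hPb : ((g⁻¹ • P : Sylow r G) : Subgroup G) ≤ MulAction.stabilizer G a₀ := by
        rw [Sylow.coe_subgroup_smul]
        rintro _ ⟨x, hx, rfl⟩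
        rw [MulAction.mem_stabilizer_iff]
        show (g⁻¹ * x * g⁻¹⁻¹) • a₀ = a₀
        have h1 : x • b = b := hP hx b hb
        rw [inv_inv, mul_smul, mul_smul, hg, h1, ← hg, inv_smul_smul]
      obtain ⟨h, hh⟩ := MulAction.exists_smul_eq (MulAction.stabilizer G a₀)
        ((g⁻¹ • P).subtype hPb) (P.subtype hPa)
      have hh' : ((h : G) * g⁻¹) • P = P := by
        apply Sylow.ext
        have h2 := congrArg (fun Q : Sylow r (MulAction.stabilizer G a₀) =>
          (Q : Subgroup (MulAction.stabilizer G a₀)).map (MulAction.stabilizer G a₀).subtype) hh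
        have h3 : (((P.subtype hPa : Sylow r (MulAction.stabilizer G a₀)) :
            Subgroup (MulAction.stabilizer G a₀)).map (MulAction.stabilizer G a₀).subtype) =
            (P : Subgroup G) := by
          rw [Sylow.coe_subtype, Subgroup.subgroupOf_map_subtype, inf_eq_left.2 hPa]
        have h2' : ((h • ((g⁻¹ • P).subtype hPb) : Sylow r (MulAction.stabilizer G a₀)) :
            Subgroup (MulAction.stabilizer G a₀)).map (MulAction.stabilizer G a₀).subtype =
            (P : Subgroup G) := by rw [← h3]; exact h2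
        rw [← h2', mul_smul]
        apply Subgroup.eq_of_le_of_card_ge
        · rw [Sylow.coe_subgroup_smul]
          rintro _ ⟨x, hx, rfl⟩
          refine ⟨h * ⟨x, hPb hx⟩ * h⁻¹, ?_, rfl⟩
          rw [Sylow.coe_subgroup_smul]
          refine Subgroup.smul_mem_pointwise_smul _ (MulAut.conj h) _ ?_
          exact hx
        · rw [h2']
          rw [Sylow.card_eq_multiplicity, Sylow.card_eq_multiplicity]
      have hn : ((h : G) * g⁻¹)⁻¹ ∈ normalizer ((P : Subgroup G) : Set G) := by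
        rw [inv_mem_iff]
        rwa [Sylow.smul_eq_iff_mem_normalizer] at hh'
      refine ⟨_, hn, ?_⟩
      have h4 : (h : G) • a₀ = a₀ := h.2
      rw [mul_inv_rev, inv_inv, mul_smul, inv_smul_eq_iff.2 h4.symm, hg]
    have h1 : (mst G Δ ⊓ MulAction.stabilizer G a₀).relIndex (mst G Δ) = k := by
      have h2 : (mst G Δ ⊓ MulAction.stabilizer G a₀).relIndex (mst G Δ) =
          (MulAction.stabilizer (mst G Δ) a₀).index := by
        rw [Subgroup.relIndex]
        congr 1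
        ext x
        rw [mem_subgroupOf, mem_inf]
        exact ⟨fun h => h.2, fun h => ⟨x.2, h⟩⟩
      rw [h2, MulAction.index_stabilizer, ← hΔ]
      congr 1
      ext b
      constructor
      · rintro ⟨n, rfl⟩
        exact hact _ n.2 a₀ ha₀
      · intro hb
        obtain ⟨n, hn, rfl⟩ := htr' b hb
        exact ⟨⟨n, hNP hn⟩, rfl⟩
    have h2 : kst G Δ ≤ mst G Δ ⊓ MulAction.stabilizer G a₀ :=
      le_inf (kst_le_mst _) (fun g hg => hg a₀ ha₀)
    have h3 := Subgroup.relIndex_mul_relIndex _ _ _ h2 (inf_le_left (a := mst G Δ))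
    rw [h1] at h3
    exact Dvd.intro_left _ h3

end exact

section ti

variable {G : Type*} [Group G] {H D : Subgroup G} {k : ℕ}

theorem EvTI.cent (h : EvTI k H D) {x y : G} (hx : x ∈ D) (hx1 : x ≠ 1) (hy : y * x = x * y) :
    y ∈ normalizer (D : Set G) :=
  h.norm (zpowers x) (by rwa [zpowers_le]) (by rwa [Ne, zpowers_eq_bot]) (le_normalizer_zpowers hy)

theorem EvTI.mem_of_coprime (h : EvTI k H D) {y : G} (hy : y ∈ normalizer (D : Set G))
    (ho : Nat.Coprime (orderOf y) 6) : y ∈ D := by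
  have e2 : Nat.Coprime (orderOf y) 2 := Nat.Coprime.coprime_dvd_right (by norm_num) ho
  have e3 : Nat.Coprime (orderOf y) 3 := Nat.Coprime.coprime_dvd_right (by norm_num) ho
  rcases h.exp y hy with h1 | h1
  · exact pow_mem_of_coprime h1 (pow_orderOf_eq_one y) e3.symm
  · exact pow_mem_of_coprime h1 (pow_orderOf_eq_one y)
      (Nat.Coprime.symm (by have := Nat.Coprime.pow_right 2 e2; simpa using this))

theorem EvTI.mem_of_prime (h : EvTI k H D) {y : G} (hy : y ∈ normalizer (D : Set G)) {r : ℕ}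
    (hr : r.Prime) (h5 : 5 ≤ r) (ho : orderOf y = r) : y ∈ D :=
  h.mem_of_coprime hy (by rw [ho]; exact coprime_six_of_prime hr h5)

/-- a perfect subgroup of `N(D)` lies in `D` -/
theorem EvTI.perfect_le (h : EvTI k H D) {Y : Subgroup G} (hY : Y ≤ normalizer (D : Set G))
    (hp : ⁅Y, Y⁆ = Y) : Y ≤ D := by
  obtain ⟨f, hf⟩ := h.hom
  intro y hy
  have h1 : Group.IsPerfect Y := Subgroup.isPerfect_iff.2 hp
  have h2 := H76.PermFour.perfect_hom_eq_one h1 H76.PermFour.solvable_perm_four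
    (f.comp (Subgroup.inclusion hY)) ⟨y, hy⟩
  exact (hf ⟨y, hY hy⟩).1 h2

/-- a perfect subgroup commuting with a nontrivial element of `D` lies in `D` -/
theorem EvTI.perfect_comm (h : EvTI k H D) {x : G} (hx : x ∈ D) (hx1 : x ≠ 1) {Y : Subgroup G}
    (hY : ∀ y ∈ Y, y * x = x * y) (hp : ⁅Y, Y⁆ = Y) : Y ≤ D :=
  h.perfect_le (fun y hy => h.cent hx hx1 (hY y hy)) hp

theorem EvTI.normalizer_ne_top [IsSimpleGroup G] (h : EvTI k H D) (hH : H ≠ ⊤) :
    normalizer (D : Set G) ≠ ⊤ := by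
  intro htop
  have hn : D.Normal := normalizer_eq_top_iff.1 htop
  rcases hn.eq_bot_or_eq_top with h1 | h1
  · exact h.ne h1
  · exact hH (top_le_iff.1 (h1 ▸ h.le))

/-- if `2 ≤ k` then `H ≠ ⊤` -/
theorem ne_top_of_exact {t : G} (hk : 2 ≤ k) (ht : (MulAction.fixedBy (G ⧸ H) t).ncard = k) :
    H ≠ ⊤ := by
  rintro rfl
  have h1 : (MulAction.fixedBy (G ⧸ (⊤ : Subgroup G)) t).ncard ≤ 1 := by
    rw [Set.ncard_le_one_iff_subsingleton]
    haveI : Subsingleton (G ⧸ (⊤ : Subgroup G)) := QuotientGroup.subsingleton_quotient_top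
    exact Set.subsingleton_of_subsingleton
  omega

/-- `N(D)` is strongly `p`-embedded for every prime `p ≥ 5` dividing `|D|` -/
theorem EvTI.stronglyP [Finite G] [IsSimpleGroup G] (h : EvTI k H D) (hH : H ≠ ⊤) {p : ℕ}
    [hp : Fact p.Prime] (h5 : 5 ≤ p) (hd : p ∣ Nat.card D) :
    Cfsg.IsStronglyPEmbedded p (normalizer (D : Set G)) := by
  refine of_normIn (hd.trans (card_dvd_of_le le_normalizer)) (h.normalizer_ne_top hH) ?_
  intro Q hQ hQN hQ1
  refine h.norm Q ?_ hQ1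
  intro y hy
  exact h.mem_of_coprime (hQN hy) (coprime_of_pgroup h5 (isPGroup_zpowers_of_le hQ hy))

theorem EvTI.false_of_noSP [Finite G] [IsSimpleGroup G] (h : EvTI k H D) (hH : H ≠ ⊤) {p : ℕ}
    (hp : p.Prime) (h5 : 5 ≤ p) (hd : p ∣ Nat.card D) (hno : H998.StrP.NoSP p G) : False := by
  haveI : Fact p.Prime := ⟨hp⟩
  exact hno _ (h.stronglyP hH h5 hd)

/-- the same for `OddTI` -/
theorem oddTI_false_of_noSP [Finite G] [IsSimpleGroup G] {k : ℕ} (h : OddTI k D)
    (hG : 2 ∣ Nat.card G) {p : ℕ}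
    (hp : p.Prime) (h5 : 5 ≤ p) (hd : p ∣ Nat.card D) (hno : H998.StrP.NoSP p G) : False := by
  haveI : Fact p.Prime := ⟨hp⟩
  refine hno (normalizer (D : Set G)) (of_normIn (hd.trans (card_dvd_of_le le_normalizer)) ?_ ?_)
  · intro htop
    have hn : D.Normal := normalizer_eq_top_iff.1 htop
    rcases hn.eq_bot_or_eq_top with h1 | h1
    · exact h.ne h1
    · have h2 := h.odd
      rw [h1, Nat.card_congr (Subgroup.topEquiv (G := G)).toEquiv] at h2
      rw [← Nat.not_even_iff_odd, even_iff_two_dvd] at h2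
      exact h2 hG
  · intro Q hQ hQN hQ1
    refine h.norm Q ?_ hQ1
    intro y hy
    exact h.mem_of_coprime (hQN hy) (coprime_of_pgroup h5 (isPGroup_zpowers_of_le hQ hy))

end ti

section se

variable {G : Type*} [Group G] [Finite G]

/-- an involution of `S`, central in `S`, commutes with every element of `S` -/
theorem exists_central_inv (S : Sylow 2 G) (h : (S : Subgroup G) ≠ ⊥) :
    ∃ z ∈ (S : Subgroup G), orderOf z = 2 ∧ ∀ y ∈ (S : Subgroup G), y * z = z * y := by
  haveI : Fact (Nat.Prime 2) := ⟨Nat.prime_two⟩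
  haveI : Nontrivial (S : Subgroup G) := (Subgroup.nontrivial_iff_ne_bot _).2 h
  haveI := S.isPGroup'.center_nontrivial
  have h1 : IsPGroup 2 (Subgroup.center (S : Subgroup G)) := S.isPGroup'.to_subgroup _
  obtain ⟨n, hn⟩ := (IsPGroup.iff_card).1 h1
  have h2 : 2 ∣ Nat.card (Subgroup.center (S : Subgroup G)) := by
    rw [hn]
    refine dvd_pow_self 2 ?_
    rintro rfl
    rw [pow_zero] at hn
    have := Finite.one_lt_card (α := Subgroup.center (S : Subgroup G))
    omega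
  obtain ⟨z, hz⟩ := exists_prime_orderOf_dvd_card' 2 h2
  refine ⟨((z : (S : Subgroup G)) : G), (z : (S : Subgroup G)).2, ?_, ?_⟩
  · rw [Subgroup.orderOf_coe, Subgroup.orderOf_coe]; exact hz
  · intro y hy
    have h3 := Subgroup.mem_center_iff.1 z.2 ⟨y, hy⟩
    exact congrArg Subtype.val h3

/-- `H` contains the centralizers of its involutions: `H` contains a Sylow 2-subgroup -/
theorem sylow_le_of_cent {H : Subgroup G}
    (hc : ∀ s ∈ H, orderOf s = 2 → centralizer ({s} : Set G) ≤ H) {t : G} (ht : t ∈ H)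
    (ht2 : orderOf t = 2) : ∃ S : Sylow 2 G, t ∈ (S : Subgroup G) ∧ (S : Subgroup G) ≤ H := by
  haveI : Fact (Nat.Prime 2) := ⟨Nat.prime_two⟩
  have h1 : IsPGroup 2 (zpowers t) :=
    IsPGroup.of_card (n := 1) (by rw [Nat.card_zpowers, ht2, pow_one])
  obtain ⟨S, hS⟩ := h1.exists_le_sylow
  have htS : t ∈ (S : Subgroup G) := hS (mem_zpowers t)
  have hne : (S : Subgroup G) ≠ ⊥ := by
    intro h2
    rw [h2, mem_bot] at htS
    rw [htS, orderOf_one] at ht2
    omega
  obtain ⟨z, hzS, hz2, hz⟩ := exists_central_inv S hne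
  have hzH : z ∈ H := hc t ht ht2 (mem_centralizer_singleton_iff.2 (hz t htS).symm)
  refine ⟨S, htS, ?_⟩
  intro y hy
  exact hc z hzH hz2 (mem_centralizer_singleton_iff.2 (hz y hy))

/-- **a proper subgroup of even order containing the centralizers of its involutions: the simple
group `G` has a strongly embedded subgroup** -/
theorem exists_se [IsSimpleGroup G] {H : Subgroup G} (hH : H ≠ ⊤)
    (hc : ∀ s ∈ H, orderOf s = 2 → centralizer ({s} : Set G) ≤ H) {t : G} (ht : t ∈ H)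
    (ht2 : orderOf t = 2) : ∃ M : Subgroup G, Cfsg.IsStronglyEmbedded M := by
  classical
  haveI : Fact (Nat.Prime 2) := ⟨Nat.prime_two⟩
  -- a minimal subgroup of this kind
  obtain ⟨A, ⟨hAle, hAc, s, hs, hs2⟩, hmin⟩ : ∃ A : Subgroup G,
      (A ≤ H ∧ (∀ s ∈ A, orderOf s = 2 → centralizer ({s} : Set G) ≤ A) ∧
        ∃ s ∈ A, orderOf s = 2) ∧
      ∀ B : Subgroup G, (B ≤ H ∧ (∀ s ∈ B, orderOf s = 2 → centralizer ({s} : Set G) ≤ B) ∧
        ∃ s ∈ B, orderOf s = 2) → Nat.card A ≤ Nat.card B := by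
    obtain ⟨A, hA, hm⟩ := Set.exists_min_image {A : Subgroup G | A ≤ H ∧
      (∀ s ∈ A, orderOf s = 2 → centralizer ({s} : Set G) ≤ A) ∧ ∃ s ∈ A, orderOf s = 2}
      (fun A => Nat.card A) (Set.toFinite _) ⟨H, le_rfl, hc, t, ht, ht2⟩
    exact ⟨A, hA, fun B hB => hm B hB⟩
  have hAtop : A ≠ ⊤ := fun h1 => hH (top_le_iff.1 (h1 ▸ hAle))
  have hTI : ∀ g : G, (∃ u ∈ A ⊓ A.map (MulAut.conj g).toMonoidHom, orderOf u = 2) →
      A.map (MulAut.conj g).toMonoidHom = A := by
    rintro g ⟨u, hu, hu2⟩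
    have hcg : ∀ v ∈ A.map (MulAut.conj g).toMonoidHom, orderOf v = 2 →
        centralizer ({v} : Set G) ≤ A.map (MulAut.conj g).toMonoidHom := by
      intro v hv hv2 y hy
      rw [mem_map_conj] at hv ⊢
      refine hAc _ hv ?_ ?_
      · rw [← hv2]
        have := (MulAut.conj g⁻¹).orderOf_eq v
        simpa using this
      · rw [mem_centralizer_singleton_iff] at hy ⊢
        calc g⁻¹ * y * g * (g⁻¹ * v * g) = g⁻¹ * (y * v) * g := by group
          _ = g⁻¹ * (v * y) * g := by rw [hy]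
          _ = g⁻¹ * v * g * (g⁻¹ * y * g) := by group
    have h1 := hmin (A ⊓ A.map (MulAut.conj g).toMonoidHom) ⟨(inf_le_left (a := A)).trans hAle, ?_, u, hu, hu2⟩
    · have h2 : A ⊓ A.map (MulAut.conj g).toMonoidHom = A :=
        Subgroup.eq_of_le_of_card_ge inf_le_left h1
      have h3 : A ≤ A.map (MulAut.conj g).toMonoidHom := by
        have h4 : A ⊓ A.map (MulAut.conj g).toMonoidHom ≤ A.map (MulAut.conj g).toMonoidHom :=
          inf_le_right
        rwa [h2] at h4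
      exact (Subgroup.eq_of_le_of_card_ge h3 (by rw [card_map_eq (MulAut.conj g)])).symm
    · intro v hv hv2
      rw [mem_inf] at hv
      exact le_inf (hAc v hv.1 hv2) (hcg v hv.2 hv2)
  obtain ⟨S, hsS, hSA⟩ := sylow_le_of_cent hAc hs hs2
  obtain ⟨M, hM⟩ : ∃ M : Subgroup G, M = normalizer (A : Set G) := ⟨_, rfl⟩
  have hAM : A ≤ M := hM ▸ le_normalizer
  -- involutions of `M` lie in `A`
  have hinv : ∀ u ∈ M, orderOf u = 2 → u ∈ A := by
    intro u hu hu2
    have h1 : IsPGroup 2 (zpowers u) :=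
      IsPGroup.of_card (n := 1) (by rw [Nat.card_zpowers, hu2, pow_one])
    obtain ⟨m, hm, hmu⟩ := Cfsg.Agent.EvenType.StrongP.exists_conj_le S (hSA.trans hAM) h1
      (by rwa [zpowers_le])
    have h2 : m * u * m⁻¹ ∈ A := hSA (hmu ⟨u, mem_zpowers u, rfl⟩)
    rw [hM] at hm
    exact (mem_normalizer_iff.1 hm u).2 h2
  refine ⟨M, ?_, ?_, ?_⟩
  · intro htop
    have hn : A.Normal := normalizer_eq_top_iff.1 (hM ▸ htop)
    rcases hn.eq_bot_or_eq_top with h1 | h1
    · rw [h1, mem_bot] at hs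
      rw [hs, orderOf_one] at hs2
      omega
    · exact hAtop h1
  · rw [even_iff_two_dvd, ← hs2]
    exact orderOf_dvd_card_of_mem (hAM hs)
  · intro g hg
    by_contra hcon
    rw [Nat.not_odd_iff_even, even_iff_two_dvd] at hcon
    obtain ⟨v, hv2⟩ := exists_prime_orderOf_dvd_card' 2 hcon
    obtain ⟨u, hu⟩ : ∃ u : G, u = v := ⟨_, rfl⟩
    have hu2 : orderOf u = 2 := by rw [hu, Subgroup.orderOf_coe]; exact hv2
    have huM : u ∈ M ⊓ M.map (MulAut.conj g).toMonoidHom := hu ▸ v.2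
    rw [mem_inf] at huM
    apply hg
    have h1 := hTI g ⟨u, mem_inf.2 ⟨hinv u huM.1 hu2, ?_⟩, hu2⟩
    · rw [hM]
      exact Cfsg.Agent.EvenType.StrongP.mem_norm.2 h1
    · rw [mem_map_conj]
      refine hinv _ (mem_map_conj.1 huM.2) ?_
      rw [← hu2]
      have := (MulAut.conj g⁻¹).orderOf_eq u
      simpa using this

/-- **perfect centralizers of involutions**: strongly embedded subgroup (M23, J3, McL, Ly) -/
theorem FixLE.exists_se_of_perfect [IsSimpleGroup G] {k : ℕ} {H : Subgroup G} (h : FixLE k H)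
    (hk : k ≤ 4) (hH : H ≠ ⊤)
    (hp : ∀ s : G, orderOf s = 2 →
      ⁅centralizer ({s} : Set G), centralizer ({s} : Set G)⁆ = centralizer ({s} : Set G))
    {t : G} (ht : t ∈ H) (ht2 : orderOf t = 2) : ∃ M : Subgroup G, Cfsg.IsStronglyEmbedded M := by
  refine exists_se hH ?_ ht ht2
  intro s hs hs2
  have hs1 : s ≠ 1 := by
    rintro rfl
    rw [orderOf_one] at hs2
    omega
  exact h.perfect_le' hk hs hs1 (fun y hy => mem_centralizer_singleton_iff.1 hy) (hp s hs2)

/-- all involutions of `N(D)` lie in `D`: strongly embedded subgroup -/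
theorem EvTI.exists_se [IsSimpleGroup G] {k : ℕ} {H D : Subgroup G} (h : EvTI k H D) (hH : H ≠ ⊤)
    (hi : ∀ s ∈ normalizer (D : Set G), orderOf s = 2 → s ∈ D) {t : G} (ht : t ∈ D)
    (ht2 : orderOf t = 2) : ∃ M : Subgroup G, Cfsg.IsStronglyEmbedded M := by
  refine Ev.exists_se (h.normalizer_ne_top hH) ?_ (le_normalizer ht) ht2
  intro s hs hs2 y hy
  have hs1 : s ≠ 1 := by
    rintro rfl
    rw [orderOf_one] at hs2
    omega
  exact h.cent (hi s hs hs2) hs1 (mem_centralizer_singleton_iff.1 hy)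

end se

end Cfsg.Agent.H254.Ev
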