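import Cfsg.Agent.H254.FxThree

/-!
# Fixity: transport along isomorphisms (helper254)
-/

set_option autoImplicit false
set_option linter.style.haveILetI false
set_option linter.unusedVariables false

namespace Cfsg.Agent.H254.Ev

open Subgroup Cfsg.Agent.H350.Fix Cfsg.Agent.H254.Fx

variable {G G' : Type*} [Group G] [Group G']

theorem ncard_fixedBy_map (e : G ≃* G') (H : Subgroup G) (g : G) :
    (MulAction.fixedBy (G' ⧸ H.map e.toMonoidHom) (e g)).ncard =
      (MulAction.fixedBy (G ⧸ H) g).ncard := by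
  obtain ⟨H', hH'⟩ : ∃ H' : Subgroup G', H' = H.map e.toMonoidHom := ⟨_, rfl⟩
  rw [← hH']
  letI act : MulAction G (G' ⧸ H') := MulAction.compHom _ e.toMonoidHom
  have hsm : ∀ (g : G) (x : G' ⧸ H'), g • x = e g • x := fun _ _ => rfl
  have hfx : MulAction.fixedBy (G' ⧸ H') g = MulAction.fixedBy (G' ⧸ H') (e g) := by
    ext x
    rw [MulAction.mem_fixedBy, MulAction.mem_fixedBy, hsm]
  have htr : MulAction.IsPretransitive G (G' ⧸ H') := by
    refine ⟨fun x y => ?_⟩
    obtain ⟨g, hg⟩ := MulAction.exists_smul_eq G' x y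
    refine ⟨e.symm g, ?_⟩
    rw [hsm, MulEquiv.apply_symm_apply]; exact hg
  have hst : MulAction.stabilizer G ((1 : G') : G' ⧸ H') = H := by
    ext y
    rw [MulAction.mem_stabilizer_iff, hsm]
    have h1 := mk_mem_fixedBy (H := H') (e y) 1
    rw [MulAction.mem_fixedBy] at h1
    rw [h1]
    simp only [inv_one, one_mul, mul_one]
    rw [hH', mem_map_iff', MulEquiv.symm_apply_apply]
  have key := ncard_fixedBy_quot htr ((1 : G') : G' ⧸ H') g
  rw [hst, hfx] at key
  exact key.symm

theorem FixLE.map {k : ℕ} {H : Subgroup G} (h : FixLE k H) (e : G ≃* G') :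
    FixLE k (H.map e.toMonoidHom) := by
  intro g hg
  obtain ⟨x, rfl⟩ := e.surjective g
  rw [ncard_fixedBy_map]
  refine h x ?_
  rintro rfl
  exact hg (map_one e)

theorem exact_map {k : ℕ} {H : Subgroup G} (e : G ≃* G')
    (h : ∃ g : G, g ≠ 1 ∧ (MulAction.fixedBy (G ⧸ H) g).ncard = k) :
    ∃ g : G', g ≠ 1 ∧ (MulAction.fixedBy (G' ⧸ H.map e.toMonoidHom) g).ncard = k := by
  obtain ⟨g, hg, hk⟩ := h
  refine ⟨e g, ?_, by rw [ncard_fixedBy_map]; exact hk⟩
  intro h1
  apply hg
  rw [← map_one e] at h1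
  exact e.injective h1

theorem index_map_eq (e : G ≃* G') (H : Subgroup G) :
    (H.map e.toMonoidHom).index = H.index := by
  rw [index_map_of_bijective e.bijective]

theorem map_eq_top_iff' (e : G ≃* G') (H : Subgroup G) : H.map e.toMonoidHom = ⊤ ↔ H = ⊤ := by
  rw [← index_eq_one, ← index_eq_one, index_map_eq]

/-- the isomorphism of a subgroup with its image -/
noncomputable def mapEquiv (e : G ≃* G') (H : Subgroup G) :
    H ≃* (H.map e.toMonoidHom : Subgroup G') :=
  H.equivMapOfInjective e.toMonoidHom e.injective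

theorem Odd3.map {H D : Subgroup G} (h : Odd3 H D) (e : G ≃* G') :
    Odd3 (H.map e.toMonoidHom) (D.map e.toMonoidHom) where
  hfix := h.hfix.map e
  odd := by rw [card_map_eq e]; exact h.odd
  ti := h.ti.congr e
  le := map_mono h.le
  ntop := by
    rw [Ne, map_eq_top_iff']; exact h.ntop
  self := by
    rintro _ ⟨y, hy, rfl⟩ _ ⟨x, hx, rfl⟩ hx1 hxy
    refine ⟨y, h.self y hy x hx ?_ ?_, rfl⟩
    · rintro rfl
      exact hx1 (map_one _)
    · obtain ⟨z, hz, hz1⟩ := hxy
      have h1 : e z = e (y * x * y⁻¹) := by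
        rw [map_mul, map_mul, map_inv]; exact hz1
      rw [← e.injective h1]
      exact hz

end Cfsg.Agent.H254.Ev
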