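import Cfsg.Agent.H254.FxList
import Cfsg.Agent.H254.FxTrans
import Cfsg.Agent.S0252

/-!
# Simple groups of fixity exactly 4: the list and basic tools (helper254)
-/

set_option autoImplicit false
set_option linter.style.haveILetI false
set_option linter.unusedVariables false

namespace Cfsg.Agent.H254.Ev

open Subgroup Cfsg Cfsg.Agent.H350.Fix Cfsg.Agent.H254.Fx

universe u

/-- the list of S3002 -/
def Four (G : Type*) [Group G] : Prop :=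
  (∃ (F : Type) (_ : Field F) (_ : Fintype F), (Fintype.card F = 8 ∨ (7 ≤ Fintype.card F ∧ Odd (Fintype.card F))) ∧ Nonempty (G ≃* Matrix.ProjectiveSpecialLinearGroup (Fin 2) F)) ∨ Nonempty (G ≃* ↥(alternatingGroup (Fin 7))) ∨ (∃ (F : Type) (_ : Field F) (_ : Fintype F), Fintype.card F = 9 ∧ (Nonempty (G ≃* Cfsg.PSU 3 F 3) ∨ Nonempty (G ≃* Cfsg.PSU 4 F 3))) ∨ (∃ (F : Type) (_ : Field F) (_ : Fintype F), 3 ≤ Fintype.card F ∧ Nonempty (G ≃* Cfsg.PSp 2 F)) ∨ (∃ (F : Type) (_ : Field F) (_ : Fintype F) (a b : F), (∀ z₁ z₂ : F, z₁ ^ 2 + a * z₁ * z₂ + b * z₂ ^ 2 = 0 → z₁ = 0 ∧ z₂ = 0) ∧ Nonempty (G ≃* Cfsg.POmega F (Cfsg.quadFormMinus 3 F a b))) ∨ Cfsg.Lie.Iso3D4 G ∨ Cfsg.Lie.IsoSuzuki G ∨ Cfsg.Lie.IsoRee G ∨ Cfsg.Spor.IsoM11 G ∨ Cfsg.Spor.IsoM12 G ∨ Cfsg.Spor.IsoM22 G ∨ Cfsg.Spor.IsoJ1 G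

section intro

variable {G : Type*} [Group G]

theorem Four.psl (F : Type) [Field F] [Fintype F]
    (h : Fintype.card F = 8 ∨ (7 ≤ Fintype.card F ∧ Odd (Fintype.card F)))
    (e : G ≃* Matrix.ProjectiveSpecialLinearGroup (Fin 2) F) : Four G :=
  Or.inl ⟨F, _, _, h, ⟨e⟩⟩

theorem Four.alt (e : G ≃* ↥(alternatingGroup (Fin 7))) : Four G := Or.inr (Or.inl ⟨e⟩)

theorem Four.psu (h : ∃ (F : Type) (_ : Field F) (_ : Fintype F), Fintype.card F = 9 ∧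
    (Nonempty (G ≃* Cfsg.PSU 3 F 3) ∨ Nonempty (G ≃* Cfsg.PSU 4 F 3))) : Four G :=
  Or.inr (Or.inr (Or.inl h))

theorem Four.psp (F : Type) [Field F] [Fintype F] (h : 3 ≤ Fintype.card F)
    (e : G ≃* Cfsg.PSp 2 F) : Four G :=
  Or.inr (Or.inr (Or.inr (Or.inl ⟨F, _, _, h, ⟨e⟩⟩)))

theorem Four.om (F : Type) [Field F] [Fintype F] (a b : F)
    (h : ∀ z₁ z₂ : F, z₁ ^ 2 + a * z₁ * z₂ + b * z₂ ^ 2 = 0 → z₁ = 0 ∧ z₂ = 0)
    (e : G ≃* Cfsg.POmega F (Cfsg.quadFormMinus 3 F a b)) : Four G :=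
  Or.inr (Or.inr (Or.inr (Or.inr (Or.inl ⟨F, inferInstance, inferInstance, a, b, h, ⟨e⟩⟩))))

theorem Four.rest (h : Cfsg.Lie.Iso3D4 G ∨ Cfsg.Lie.IsoSuzuki G ∨ Cfsg.Lie.IsoRee G ∨
    Cfsg.Spor.IsoM11 G ∨ Cfsg.Spor.IsoM12 G ∨ Cfsg.Spor.IsoM22 G ∨ Cfsg.Spor.IsoJ1 G) : Four G :=
  Or.inr (Or.inr (Or.inr (Or.inr (Or.inr h))))

end intro

/-- a field with 4 elements etc. -/
theorem exists_field {p n : ℕ} (hp : p.Prime) (hn : n ≠ 0) :
    ∃ (F : Type) (_ : Field F) (_ : Fintype F), Fintype.card F = p ^ n := by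
  haveI : Fact p.Prime := ⟨hp⟩
  haveI : Fintype (GaloisField p n) := Fintype.ofFinite _
  refine ⟨GaloisField p n, inferInstance, inferInstance, ?_⟩
  rw [← Nat.card_eq_fintype_card]
  exact GaloisField.card p n hn

theorem charP_two_of_even {F : Type*} [Field F] [Fintype F] (h : ¬ Odd (Fintype.card F)) :
    CharP F 2 := by
  have h1 : ringChar F = 2 := by
    by_contra hc
    exact h (Nat.odd_iff.2 (FiniteField.odd_card_of_char_ne_two hc))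
  exact h1 ▸ ringChar.charP F


theorem NoExE.congr {G G' : Type*} [Group G] [Group G'] (e : G ≃* G') {k : ℕ} (h : NoExE k G) :
    NoExE k G' := by
  intro H hH h2 hex
  refine h (H.map e.symm.toMonoidHom) (hH.map e.symm) ?_ (exact_map e.symm hex)
  rw [card_map_eq e.symm]; exact h2

theorem noExE_of_top {G : Type*} [Group G] {k : ℕ} (hk : 2 ≤ k)
    (h : ∀ H : Subgroup G, FixLE k H → 2 ∣ Nat.card H → H = ⊤) : NoExE k G := by
  rintro H hH h2 ⟨g, hg, hgk⟩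
  exact ne_top_of_exact hk hgk (h H hH h2)

theorem NoExE.noEv {G : Type*} [Group G] [Finite G] (h : NoExE 4 G) : NoEv G := by
  rintro H hH ⟨t, ht, ht4⟩
  obtain ⟨a, haH, -⟩ := exists_conj_exact (by norm_num) ht4
  have ha2 : orderOf (a⁻¹ * t * a) = 2 := by
    rw [← ht]
    have := (MulAut.conj a⁻¹).orderOf_eq t
    simpa using this
  refine h H hH ?_ ⟨t, ?_, ht4⟩
  · rw [← ha2, ← Subgroup.orderOf_mk (a⁻¹ * t * a) haH]
    exact orderOf_dvd_natCard _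
  · rintro rfl
    rw [orderOf_one] at ht
    omega

end Cfsg.Agent.H254.Ev
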