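import Cfsg.Agent.H254.FxFourDef
import Cfsg.Agent.S0253
import Cfsg.Agent.S1738
import Cfsg.Agent.GH.AltOut
import Cfsg.Agent.SectRankFour.Excl
import Cfsg.Agent.H410.FxPslEven
import Cfsg.Agent.H949.FxL34
import Cfsg.Agent.H567.Fx.PsuOdd
import Cfsg.Agent.H808.GTwo.NoEv
import Cfsg.Agent.H808.GTwo.Three
import Cfsg.Agent.H783.EvPSL
import Cfsg.Agent.H783.EvPSU
import Cfsg.Agent.H223.NoEvU4
import Cfsg.Agent.H47.NoEvJTwo
import Cfsg.Agent.H47.PerfCent
import Cfsg.Agent.H47.PerfMTwentyThree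
import Cfsg.Agent.H354.Fx4.PSLFour
import Cfsg.Agent.H546.Fx.AltFin
import Cfsg.Agent.H546.Fx.PslFin
import Cfsg.Agent.H583.FxPslEven
import Cfsg.Agent.H815.FxU3A
import Cfsg.Agent.H815.FxU3C
import Cfsg.Agent.H354.Fx4.PSLThree
import Cfsg.Agent.H752.FxL33

/-!
# Simple groups of fixity exactly 4: point stabilizers of even order (helper254)
-/

set_option autoImplicit false
set_option linter.style.haveILetI false
set_option linter.unusedVariables false

namespace Cfsg.Agent.H254.Ev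

open Subgroup Cfsg Cfsg.Agent.H350.Fix Cfsg.Agent.H254.Fx

universe u


theorem noExE4_psl2_even (F : Type) [Field F] [Fintype F] (he : ¬ Odd (Fintype.card F))
    (h4 : 4 ≤ Fintype.card F) (h8 : Fintype.card F ≠ 8) :
    NoExE 4 (Matrix.ProjectiveSpecialLinearGroup (Fin 2) F) := by
  haveI := charP_two_of_even he
  exact fun H hH h2 => Cfsg.Agent.H410.FxPslEven.noEx_psl2_even F h4 h8 H hH h2

theorem noExE4_alt5 : NoExE 4 (alternatingGroup (Fin 5)) := by
  obtain ⟨F, i1, i2, hF⟩ := exists_field (p := 2) (n := 2) Nat.prime_two (by norm_num)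
  have h4 : Fintype.card F = 4 := by rw [hF]; norm_num
  obtain ⟨e⟩ := Cfsg.Agent.S0252.result h4
  exact (noExE4_psl2_even F (by rw [h4]; decide) (by omega) (by omega)).congr e

theorem three_le_of_odd (F : Type*) [Field F] [Fintype F] (h : Odd (Fintype.card F)) :
    3 ≤ Fintype.card F := by
  have h1 := Fintype.one_lt_card (α := F)
  obtain ⟨k, hk⟩ := h
  omega

theorem three_le_of_sq {F : Type*} [Field F] [Fintype F] {q : ℕ} (hF : Fintype.card F = q ^ 2)
    (h : Odd q) : 3 ≤ q := by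
  have h1 := Fintype.one_lt_card (α := F)
  rw [hF] at h1
  obtain ⟨k, rfl⟩ := h
  by_contra hc
  have : k = 0 := by omega
  subst this
  norm_num at h1

theorem four_of_k2 {G : Type u} [Group G] (h : GH.Defs.K2 G) : Four G ∨ NoExE 4 G := by
  rcases h with h | h | h | h | h | h
  · obtain ⟨F, i1, i2, ho, h5, ⟨e⟩⟩ := h
    by_cases h5 : Fintype.card F = 5
    · right
      obtain ⟨f⟩ := Cfsg.Agent.S0253.result h5
      exact noExE4_alt5.congr (e.trans f).symm
    · left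
      refine Four.psl F (Or.inr ⟨?_, ho⟩) e
      obtain ⟨k, hk⟩ := ho
      omega
  · obtain ⟨F, i1, i2, ho, ⟨e⟩⟩ := h
    right
    have h3 := three_le_of_odd F ho
    by_cases h3 : Fintype.card F = 3
    · refine (noExE_of_top (by norm_num) fun H hH h2 => ?_ : NoExE 4
        (Matrix.ProjectiveSpecialLinearGroup (Fin 3) F)).congr e.symm
      exact Cfsg.Agent.H752.LThree.eq_top h3 hH h2
    · refine (noExE_of_top (by norm_num) fun H hH h2 => ?_ : NoExE 4
        (Matrix.ProjectiveSpecialLinearGroup (Fin 3) F)).congr e.symm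
      refine Cfsg.Agent.H354.Fx4.eq_top_psl3_odd F ?_ ho hH h2
      obtain ⟨k, hk⟩ := ho
      omega
  · obtain ⟨F, i1, i2, q, hF, ho, ⟨e⟩⟩ := h
    have h3 := three_le_of_sq hF ho
    by_cases h3 : q = 3
    · left
      subst h3
      exact Four.psu ⟨F, i1, i2, by rw [hF]; norm_num, Or.inl ⟨e⟩⟩
    · right
      refine (noExE_of_top (by norm_num) fun H hH h2 => ?_ : NoExE 4 (Cfsg.PSU 3 F q)).congr e.symm
      refine Cfsg.Agent.H567.Fx.psu3_eq_top hF ho ?_ H hH h2
      obtain ⟨k, hk⟩ := ho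
      omega
  · obtain ⟨F, i1, i2, hF, ⟨e⟩⟩ := h
    right
    refine (noExE_of_top (by norm_num) fun H hH h2 => ?_ : NoExE 4 (Cfsg.PSU 3 F 4)).congr e.symm
    exact Cfsg.Agent.H815.FxU3.noEx_psu3_even F (by rw [hF]; norm_num) (by decide) (by norm_num) (by norm_num) H hH h2
  · obtain ⟨e⟩ := h
    exact Or.inl (Four.alt e)
  · exact Or.inl (Four.rest (Or.inr (Or.inr (Or.inr (Or.inl h)))))

theorem four_of_evList {G : Type u} [Group G] (h : EvList G) : Four G ∨ NoExE 4 G := by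
  rcases h with h | h | h | h
  · obtain ⟨F, i1, i2, hc, h4, ⟨e⟩⟩ := h
    by_cases h8 : Fintype.card F = 8
    · exact Or.inl (Four.psl F (Or.inl h8) e)
    · right
      exact NoExE.congr e.symm
        (fun H hH h2 => Cfsg.Agent.H410.FxPslEven.noEx_psl2_even F h4 h8 H hH h2)
  · exact Or.inl (Four.rest (Or.inr (Or.inl h)))
  · obtain ⟨F, i1, i2, q, hF, he, h4, ⟨e⟩⟩ := h
    right
    by_cases h8 : q = 8
    · subst h8
      refine (noExE_of_top (by norm_num) fun H hH h2 => ?_ : NoExE 4 (Cfsg.PSU 3 F 8)).congr e.symm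
      exact Cfsg.Agent.H815.FxU3.noEx_psu3_eight F (by rw [hF]; norm_num) H hH h2
    · refine (noExE_of_top (by norm_num) fun H hH h2 => ?_ : NoExE 4 (Cfsg.PSU 3 F q)).congr e.symm
      exact Cfsg.Agent.H815.FxU3.noEx_psu3_even F hF he h4 h8 H hH h2
  · exact four_of_k2 h

theorem isPrimePow_of_pow {F : Type*} [Field F] [Fintype F] {q n : ℕ} (hn : n ≠ 0)
    (hF : Fintype.card F = q ^ n) : IsPrimePow q := by
  have h1 : IsPrimePow (Fintype.card F) := FiniteField.isPrimePow_card F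
  rw [hF] at h1
  exact (isPrimePow_pow_iff hn).1 h1

/-- the second case of `even_cases` -/
theorem four_of_k4 {G : Type u} [Group G] [Finite G] [IsSimpleGroup G]
    (hna : ¬ IsMulCommutative G) (h : GH.Defs.K4 G) :
    Four G ∨ NoEv G ∨ ∀ s : G, orderOf s = 2 →
      ⁅centralizer ({s} : Set G), centralizer ({s} : Set G)⁆ = centralizer ({s} : Set G) := by
  have key : ∀ {Y : Type} [Group Y], NoEv Y → (G ≃* Y) → (Four G ∨ NoEv G ∨ ∀ s : G, orderOf s = 2 →
      ⁅centralizer ({s} : Set G), centralizer ({s} : Set G)⁆ = centralizer ({s} : Set G)) :=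
    fun h e => Or.inr (Or.inl (h.congr e.symm))
  rcases h with h | h | h | h | h | h | h | h | h | h | h | h | h | h | h | h | h | h
  · rcases four_of_k2 h with h | h
    · exact Or.inl h
    · exact Or.inr (Or.inl h.noEv)
  · rcases h with h | h | h | h
    · obtain ⟨F, i1, i2, h8, ⟨e⟩⟩ := h
      exact Or.inl (Four.psl F (Or.inl h8) e)
    · obtain ⟨F, i1, i2, h8, e⟩ := h
      refine Or.inl (Four.rest (Or.inr (Or.inl ⟨F, i1, i2, 1, le_rfl, ?_, ?_⟩)))
      · rw [h8]; norm_num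
      · norm_num
        exact e
    · exact Or.inl (Four.rest (Or.inr (Or.inr (Or.inl h))))
    · exact Or.inl (Four.rest (Or.inr (Or.inr (Or.inr (Or.inr (Or.inr (Or.inr h)))))))
  · obtain ⟨F, i1, i2, h16, ⟨e⟩⟩ := h
    haveI : Finite (Matrix.ProjectiveSpecialLinearGroup (Fin 2) F) := Finite.of_equiv G e.toEquiv
    exact key (noExE4_psl2_even F (by rw [h16]; decide) (by omega) (by omega)).noEv e
  · obtain ⟨F, i1, i2, h4, ⟨e⟩⟩ := h
    haveI : Finite (Matrix.ProjectiveSpecialLinearGroup (Fin 3) F) := Finite.of_equiv G e.toEquiv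
    exact key (noExE_of_top (by norm_num) fun H hH h2 =>
      Cfsg.Agent.H949.FxL34.eq_top h4 hH h2 : NoExE 4 _).noEv e
  · obtain ⟨n, h8, h11, ⟨e⟩⟩ := h
    exact key (Cfsg.Agent.H546.Fx.noEv_alt n h8 h11) e
  · obtain ⟨F, i1, i2, ho, ⟨e⟩⟩ := h
    exact Or.inl (Four.psp F (three_le_of_odd F ho) e)
  · obtain ⟨F, i1, i2, ho, h1, ⟨e⟩⟩ := h
    have h3 := three_le_of_odd F ho
    by_cases h3 : Fintype.card F = 3
    · exact key (Cfsg.Agent.H546.Fx.Psl.noEv_psl4_three F h3) e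
    · refine key (Cfsg.Agent.H354.Fx4.noEv_psl4 F ?_ ho ?_) e
      · obtain ⟨k, hk⟩ := ho
        omega
      · omega
  · obtain ⟨F, i1, i2, q, hF, ho, h7, ⟨e⟩⟩ := h
    have h3 := three_le_of_sq hF ho
    by_cases h3 : q = 3
    · subst h3
      exact Or.inl (Four.psu ⟨F, i1, i2, by rw [hF]; norm_num, Or.inr ⟨e⟩⟩)
    · refine key (Cfsg.Agent.H223.EvU.noEv_psu4 F hF ho ?_) e
      obtain ⟨k, hk⟩ := ho
      omega
  · obtain ⟨F, i1, i2, h3, ⟨e⟩⟩ := h
    exact key (Cfsg.Agent.H783.EvPSL.noEv_psl5 F h3) e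
  · obtain ⟨F, i1, i2, q, hF, h3, ⟨e⟩⟩ := h
    exact key (Cfsg.Agent.H783.EvPSU.noEv_psu5 F hF h3) e
  · obtain ⟨⟨F, i1, i2, ho, ⟨e⟩⟩, -⟩ := h
    have h3 := three_le_of_odd F ho
    by_cases h3 : Fintype.card F = 3
    · exact key (Cfsg.Agent.H808.GTwo.noEv_g2_three F h3) e
    · refine key (Cfsg.Agent.H808.GTwo.noEv_g2 F ?_ ho) e
      obtain ⟨k, hk⟩ := ho
      omega
  · obtain ⟨⟨F, i1, i2, q, ho, hF, e⟩, -⟩ := h
    exact Or.inl (Four.rest (Or.inl ⟨F, i1, i2, q, isPrimePow_of_pow (by norm_num) hF, hF, e⟩))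
  · exact Or.inl (Four.rest (Or.inr (Or.inr (Or.inr (Or.inr (Or.inl h))))))
  · exact Or.inl (Four.rest (Or.inr (Or.inr (Or.inr (Or.inr (Or.inr (Or.inl h)))))))
  · exact Or.inr (Or.inr (Cfsg.Agent.H47.PerfMTwentyThree.perf_m23 h))
  · exact Or.inr (Or.inl (Cfsg.Agent.H47.NoEvJTwo.noEv_j2 h))
  · exact Or.inr (Or.inr (Cfsg.Agent.H47.PerfCent.perf_j3 h))
  · have hO : oddCore G = ⊥ := by
      obtain ⟨n, t, K, hn, hK, htK, hcov⟩ := h
      refine SectRankFour.Excl.oddCore_eq_bot_of_simple ?_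
      rw [← hK.inv]
      exact orderOf_dvd_natCard t
    rcases GH.AltOut.mcl_or_ly hna hO
      (fun hO hF t ht K hK htK n hn hKA => Cfsg.Agent.S1738.result hO hF t ht K hK htK n hn hKA) h
      with h | h
    · exact Or.inr (Or.inr (Cfsg.Agent.H47.PerfCent.perf_mcl h))
    · exact Or.inr (Or.inr (Cfsg.Agent.H47.PerfCent.perf_ly h))

/-- **fixity 4, point stabilizers of even order** -/
theorem even_four {G : Type u} [Group G] [Finite G] [IsSimpleGroup G]
    (hna : ¬ IsMulCommutative G) {H : Subgroup G} (h : FixLE 4 H) (h2 : 2 ∣ Nat.card H)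
    (hex : ∃ g : G, g ≠ 1 ∧ (MulAction.fixedBy (G ⧸ H) g).ncard = 4) : Four G := by
  have hH : H ≠ ⊤ := by
    obtain ⟨g, -, hg⟩ := hex
    exact ne_top_of_exact (by norm_num) hg
  have hev : EvList G → Four G := by
    intro h1
    rcases four_of_evList h1 with h3 | h3
    · exact h3
    · exact absurd hex (h3 H h h2)
  rcases even_cases hna h h2 hH with h1 | ⟨h1, ht⟩
  · exact hev h1
  · rcases four_of_k4 hna h1 with h3 | h3 | h3
    · exact h3
    · exact absurd ht (h3 H h)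
    · haveI : Fact (Nat.Prime 2) := ⟨Nat.prime_two⟩
      obtain ⟨t₀, ht₀⟩ := exists_prime_orderOf_dvd_card' 2 h2
      refine hev (evList_of_se hna (h.exists_se_of_perfect le_rfl hH h3 t₀.2 ?_))
      rw [Subgroup.orderOf_coe]; exact ht₀

end Cfsg.Agent.H254.Ev
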