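import Cfsg.Agent.H254.FxBase

/-!
# Fixity 3 and 4: tools for the rows `No34 K` (helper254)
-/

set_option autoImplicit false
set_option linter.style.haveILetI false

namespace Cfsg.Agent.H254.Fx

open Subgroup

variable {G S : Type*} [Group G] [Group S]

theorem mem_normalizer_of_conj [Finite G] {x u : G} {j : ℕ} (hu : u * x * u⁻¹ = x ^ j) :
    u ∈ normalizer (zpowers x : Set G) := by
  have hcard : (zpowers x).map (MulAut.conj u).toMonoidHom = zpowers x := by
    apply Subgroup.eq_of_le_of_card_ge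
    · rw [MonoidHom.map_zpowers, zpowers_le]
      show u * x * u⁻¹ ∈ zpowers x
      rw [hu]; exact pow_mem (mem_zpowers x) j
    · rw [card_map_eq (MulAut.conj u)]
  rw [mem_normalizer_iff]
  intro w
  constructor
  · intro hw
    rw [← hcard]
    exact ⟨w, hw, rfl⟩
  · intro hw
    rw [← hcard] at hw
    obtain ⟨v, hv, hvw⟩ := hw
    have : v = w := (MulAut.conj u).injective hvw
    rw [← this]; exact hv

theorem mem_normalizer_of_comm [Finite G] {x u : G} (hu : u * x = x * u) :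
    u ∈ normalizer (zpowers x : Set G) :=
  mem_normalizer_of_conj (j := 1) (by rw [hu, pow_one]; group)

theorem centralizer_le_normalizer' [Finite G] (x : G) :
    centralizer ({x} : Set G) ≤ normalizer (zpowers x : Set G) := by
  intro u hu
  rw [mem_centralizer_singleton_iff] at hu
  exact mem_normalizer_of_comm hu

theorem bad_of_eight {x : G} (h8 : 8 ∣ Nat.card (normalizer (zpowers x : Set G))) : Bad x :=
  ⟨_, le_rfl, Or.inr h8⟩

theorem bad_of_eight_centralizer [Finite G] {x : G}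
    (h8 : 8 ∣ Nat.card (centralizer ({x} : Set G))) : Bad x :=
  ⟨_, centralizer_le_normalizer' x, Or.inr h8⟩

/-- a subgroup commuting with `x`, of order divisible by 8 -/
theorem bad_of_comm_eight [Finite G] {x : G} {Y : Subgroup G} (hY : ∀ y ∈ Y, y * x = x * y)
    (h8 : 8 ∣ Nat.card Y) : Bad x :=
  ⟨Y, fun y hy => mem_normalizer_of_comm (hY y hy), Or.inr h8⟩

/-- a perfect subgroup of even order commuting with `x` -/
theorem bad_of_comm_perfect [Finite G] {x : G} {Y : Subgroup G} (hY : ∀ y ∈ Y, y * x = x * y)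
    (hp : ⁅Y, Y⁆ = Y) (h2 : 2 ∣ Nat.card Y) : Bad x :=
  ⟨Y, fun y hy => mem_normalizer_of_comm (hY y hy), Or.inl ⟨hp, h2⟩⟩

/-- images: `x` and `Y` in `S`, `f` injective on `Y` -/
theorem bad_of_hom_eight [Finite G] (f : S →* G) {x : S} {Y : Subgroup S} (hY : ∀ y ∈ Y, y * x = x * y)
    (hf : ∀ y ∈ Y, f y = 1 → y = 1) (h8 : 8 ∣ Nat.card Y) : Bad (f x) := by
  refine bad_of_comm_eight (Y := Y.map f) ?_ ?_
  · rintro _ ⟨y, hy, rfl⟩
    rw [← map_mul, hY y hy, map_mul]
  · have h1 : Nat.card (Y.map f) = Nat.card Y := by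
      have hinj : Function.Injective (f.comp Y.subtype) := by
        rw [injective_iff_map_eq_one]
        intro y hy
        exact Subtype.ext (hf y y.2 hy)
      have h2 : Y.map f = (f.comp Y.subtype).range := by
        rw [MonoidHom.range_comp, Subgroup.range_subtype]
      rw [h2]
      exact (Nat.card_congr (MonoidHom.ofInjective hinj).toEquiv).symm
    rw [h1]; exact h8

/-- images: perfect version (`f Y` of even order) -/
theorem bad_of_hom_perfect [Finite G] (f : S →* G) {x : S} {Y : Subgroup S} (hY : ∀ y ∈ Y, y * x = x * y)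
    (hp : ⁅Y, Y⁆ = Y) (h2 : 2 ∣ Nat.card (Y.map f)) : Bad (f x) := by
  refine bad_of_comm_perfect (Y := Y.map f) ?_ ?_ h2
  · rintro _ ⟨y, hy, rfl⟩
    rw [← map_mul, hY y hy, map_mul]
  · rw [← Subgroup.map_commutator, hp]

/-- `u x u⁻¹ = x ^ j` with `j` of multiplicative order `w` modulo `r`: `w * |C(x)|` divides `|N(⟨x⟩)|` -/
theorem card_normalizer_dvd [Finite G] {x u : G} {r j : ℕ} (hr : r.Prime) (hx : orderOf x = r)
    (hu : u * x * u⁻¹ = x ^ j) :
    orderOf (j : ZMod r) * Nat.card (centralizer ({x} : Set G)) ∣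
      Nat.card (normalizer (zpowers x : Set G)) := by
  haveI : Fact r.Prime := ⟨hr⟩
  obtain ⟨N, hN⟩ : ∃ N : Subgroup G, N = normalizer (zpowers x : Set G) := ⟨_, rfl⟩
  obtain ⟨C, hC⟩ : ∃ C : Subgroup G, C = centralizer ({x} : Set G) := ⟨_, rfl⟩
  have hCN : C ≤ N := by rw [hC, hN]; exact centralizer_le_normalizer' x
  have huN : u ∈ N := hN ▸ mem_normalizer_of_conj hu
  rw [← hC, ← hN]
  haveI hn : (C.subgroupOf N).Normal := by
    constructor
    rintro ⟨c, hc⟩ hcC ⟨g, hg⟩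
    rw [mem_subgroupOf] at hcC ⊢
    have hcC' : c ∈ C := hcC
    show g * c * g⁻¹ ∈ C
    rw [hC, mem_centralizer_singleton_iff] at hcC' ⊢
    have hg' : g⁻¹ ∈ normalizer (zpowers x : Set G) := by rw [← hN]; exact N.inv_mem hg
    have h1 : g⁻¹ * x * g⁻¹⁻¹ ∈ zpowers x := (mem_normalizer_iff.1 hg' x).1 (mem_zpowers x)
    obtain ⟨n, hn⟩ := mem_zpowers_iff.1 h1
    have h2 : c * (g⁻¹ * x * g⁻¹⁻¹) = (g⁻¹ * x * g⁻¹⁻¹) * c := by
      rw [← hn]
      exact (Commute.zpow_right (show Commute c x from hcC') n).eq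
    rw [inv_inv] at h2
    calc g * c * g⁻¹ * x = g * (c * (g⁻¹ * x * g)) * g⁻¹ := by group
      _ = g * ((g⁻¹ * x * g) * c) * g⁻¹ := by rw [h2]
      _ = x * (g * c * g⁻¹) := by group
  have h1 : Nat.card N = (C.subgroupOf N).index * Nat.card C := by
    rw [← Nat.card_congr (subgroupOfEquivOfLe hCN).toEquiv, mul_comm, card_mul_index]
  rw [h1]
  refine mul_dvd_mul_right ?_ _
  have h2 : orderOf (QuotientGroup.mk' (C.subgroupOf N) ⟨u, huN⟩) ∣ (C.subgroupOf N).index := by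
    rw [Subgroup.index_eq_card]
    exact orderOf_dvd_natCard _
  refine dvd_trans ?_ h2
  apply orderOf_dvd_of_pow_eq_one
  set n := orderOf (QuotientGroup.mk' (C.subgroupOf N) ⟨u, huN⟩) with hndef
  have h3 : (QuotientGroup.mk' (C.subgroupOf N) ⟨u, huN⟩) ^ n = 1 := pow_orderOf_eq_one _
  rw [← map_pow, QuotientGroup.mk'_apply, QuotientGroup.eq_one_iff, mem_subgroupOf] at h3
  have h4 : u ^ n ∈ C := h3
  rw [hC, mem_centralizer_singleton_iff] at h4
  have h5 := pow_conj_iter hu n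
  rw [h4, mul_assoc, mul_inv_cancel, mul_one] at h5
  have h6 : x ^ 1 = x ^ (j ^ n) := by rw [pow_one]; exact h5
  rw [pow_eq_pow_iff_modEq, hx] at h6
  have h7 := (ZMod.natCast_eq_natCast_iff _ _ _).2 h6
  rw [Nat.cast_pow] at h7
  rw [← h7]; simp

/-- `u x u⁻¹ = x ^ j` with `j` of order divisible by 4 modulo `r`, and an involution commuting with `x` -/
theorem bad_of_four [Finite G] {x u t : G} {r j : ℕ} (hr : r.Prime) (hx : orderOf x = r)
    (hu : u * x * u⁻¹ = x ^ j) (h4 : 4 ∣ orderOf (j : ZMod r)) (ht : orderOf t = 2)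
    (htx : t * x = x * t) : Bad x := by
  apply bad_of_eight
  refine dvd_trans ?_ (card_normalizer_dvd hr hx hu)
  have h1 : 2 ∣ Nat.card (centralizer ({x} : Set G)) := by
    rw [← ht]
    exact orderOf_dvd_card_of_mem (by rw [mem_centralizer_singleton_iff]; exact htx)
  exact mul_dvd_mul h4 h1

/-- `u x u⁻¹ = x ^ j` with `j` of even order modulo `r`, and `4 ∣ |C(x)|` -/
theorem bad_of_two [Finite G] {x u : G} {r j : ℕ} (hr : r.Prime) (hx : orderOf x = r)
    (hu : u * x * u⁻¹ = x ^ j) (h2 : 2 ∣ orderOf (j : ZMod r))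
    (h4 : 4 ∣ Nat.card (centralizer ({x} : Set G))) : Bad x := by
  apply bad_of_eight
  exact dvd_trans (mul_dvd_mul h2 h4) (card_normalizer_dvd hr hx hu)

/-- transfer of `u x u⁻¹ = x ^ j` along a homomorphism -/
theorem killAll_of_hom [Finite G] (f : S →* G) {r : ℕ} {x u : S} (hx : orderOf (f x) = r) {j : ℕ}
    (hu : u * x * u⁻¹ = x ^ j) (h3 : ¬ j ^ 3 ≡ 1 [MOD r]) (h4 : ¬ j ^ 4 ≡ 1 [MOD r]) : KillAll r G :=
  killAll_of_conj hx (u := f u) (j := j) (by rw [← map_pow, ← hu]; simp) h3 h4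

/-- with the multiplicative order -/
theorem killAll_of_order [Finite G] {r : ℕ} {x u : G} (hx : orderOf x = r) {j : ℕ}
    (hu : u * x * u⁻¹ = x ^ j) (h5 : 5 ≤ orderOf (j : ZMod r)) : KillAll r G := by
  have key : ∀ n : ℕ, 0 < n → n < 5 → ¬ j ^ n ≡ 1 [MOD r] := by
    intro n hn hn5 h
    have h1 := (ZMod.natCast_eq_natCast_iff _ _ _).2 h
    rw [Nat.cast_pow, Nat.cast_one] at h1
    have h2 := Nat.le_of_dvd hn (orderOf_dvd_of_pow_eq_one h1)
    omega
  exact killAll_of_conj hx hu (key 3 (by norm_num) (by norm_num)) (key 4 (by norm_num) (by norm_num))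

theorem killAll_of_bad {r : ℕ} {x : G} (hx : orderOf x = r) (h : Bad x) : KillAll r G :=
  ⟨x, hx, Or.inl h⟩

/-- `Bad3` from one bad element of order 3 when the Sylow 3-subgroups do not have order 9 -/
theorem bad3_of_card [Finite G] {x : G} (hx : orderOf x = 3) (h : Bad x)
    (h9 : 27 ∣ Nat.card G ∨ ¬ 9 ∣ Nat.card G) : Bad3 G := by
  haveI : Fact (Nat.Prime 3) := ⟨Nat.prime_three⟩
  right
  refine ⟨⟨x, hx, h⟩, ?_⟩
  rintro P ⟨h1, -⟩
  rcases h9 with h9 | h9
  · have h2 : 3 ^ 3 ∣ Nat.card P := P.pow_dvd_card_of_pow_dvd_card h9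
    rw [h1] at h2
    omega
  · apply h9
    rw [← h1]
    exact card_subgroup_dvd_card _

/-- `Bad3` if all elements of order 3 are bad -/
theorem bad3_of_all (h : ∀ x : G, orderOf x = 3 → Bad x) : Bad3 G :=
  Or.inl ⟨default, fun x _ hx => h x hx⟩

/-- `Bad3` when all elements of order 3 are conjugate to a power of one bad element -/
theorem bad3_of_conj {x₀ : G} (hb : Bad x₀)
    (h : ∀ x : G, orderOf x = 3 → ∃ g : G, g * x₀ * g⁻¹ = x ∨ g * x₀⁻¹ * g⁻¹ = x) : Bad3 G := by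
  refine bad3_of_all fun x hx => ?_
  obtain ⟨g, hg | hg⟩ := h x hx
  · rw [← hg]; exact hb.conj g
  · obtain ⟨Y, hY, h1⟩ := hb
    have h2 : Bad x₀⁻¹ := ⟨Y, by rwa [zpowers_inv], h1⟩
    rw [← hg]; exact h2.conj g

/-- the order of the Sylow normalizer kills `r` for `k = 3` and `k = 4` -/
theorem kill_of_sylow {r : ℕ} (P : Sylow r G)
    (h3 : ¬ 3 ∣ Nat.card (normalizer ((P : Subgroup G) : Set G)))
    (h4 : ¬ 4 ∣ Nat.card (normalizer ((P : Subgroup G) : Set G))) :
    Kill 3 r G ∧ Kill 4 r G := ⟨Or.inr ⟨P, h3⟩, Or.inr ⟨P, h4⟩⟩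

end Cfsg.Agent.H254.Fx
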