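import Cfsg.Agent.H254.FxFourDef
import Cfsg.Agent.S0000
import Cfsg.Agent.S0253
import Cfsg.Agent.S0254
import Cfsg.Agent.S0255
import Cfsg.Agent.S0256
import Cfsg.Agent.S0822
import Cfsg.Agent.H517.Fx.Alt
import Cfsg.Agent.H807.Fx.PSLBig
import Cfsg.Agent.H807.Fx.PSLFour
import Cfsg.Agent.H372.FxPsuF
import Cfsg.Agent.H372.FxPsuG
import Cfsg.Agent.H999.FxPSp
import Cfsg.Agent.H397.FxOrthRows
import Cfsg.Agent.H682.Fx.OrthFam
import Cfsg.Agent.H86.Fx.G2
import Cfsg.Agent.H744.Fx.Untw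
import Cfsg.Agent.H744.Fx.TwE6
import Cfsg.Agent.H99.FxTwF4
import Cfsg.Agent.H99.FxTits
import Cfsg.Agent.H315.FxSporA
import Cfsg.Agent.H315.FxSporB
import Cfsg.Agent.H315.FxSporC
import Cfsg.Agent.H315.FxSporD
import Cfsg.Agent.H315.FxSporE
import Cfsg.Agent.H753.FxHN
import Cfsg.Agent.H753.FxTh
import Cfsg.Agent.H753.FxLy
import Cfsg.Agent.H753.FxRu
import Cfsg.Agent.H295.Alt8TI
import Cfsg.Agent.H410.FxPslEven
import Cfsg.Agent.H583.FxPslThree
import Cfsg.Agent.H815.FxU3F

/-!
# Simple groups of fixity exactly 4: odd point stabilizers (helper254)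
-/

set_option autoImplicit false
set_option linter.style.haveILetI false
set_option linter.unusedVariables false

namespace Cfsg.Agent.H254.Ev

open Subgroup Cfsg Cfsg.Agent.H350.Fix Cfsg.Agent.H254.Fx

universe u

theorem noTI4_alt5 : NoTI 4 (alternatingGroup (Fin 5)) := by
  obtain ⟨F, i1, i2, hF⟩ := exists_field (p := 2) (n := 2) Nat.prime_two (by norm_num)
  have h4 : Fintype.card F = 4 := by rw [hF]; norm_num
  haveI : CharP F 2 := charP_two_of_even (by rw [h4]; decide)
  obtain ⟨e⟩ := Cfsg.Agent.S0252.result h4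
  exact (Cfsg.Agent.H410.FxPslEven.noTI4_psl2_even F (by omega)).congr e

/-- **fixity 4, odd point stabilizers** -/
theorem odd_four {G : Type u} [Group G] [Finite G] [IsSimpleGroup G] (hna : ¬ IsMulCommutative G)
    {D : Subgroup G} (hD : OddTI 4 D) : Four G := by
  have key : ∀ {Y : Type} [Group Y], NoTI 4 Y → (G ≃* Y) → Four G := fun h e =>
    absurd hD (h.congr e.symm D)
  rcases Cfsg.Agent.S0000.result (G := G) with h | h | h | h | h | h | h | h | h | h
  · exfalso
    have h1 : (Nat.card G).Prime := h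
    haveI : Fact (Nat.card G).Prime := ⟨h1⟩
    haveI : IsCyclic G := isCyclic_of_prime_card rfl
    exact hna ⟨⟨fun a b => (IsCyclic.commGroup (α := G)).mul_comm a b⟩⟩
  · obtain ⟨n, hn, ⟨e⟩⟩ := h
    rcases Nat.lt_or_ge n 9 with h9 | h9
    · interval_cases n
      · exact key noTI4_alt5 e
      · obtain ⟨F, i1, i2, hF⟩ := exists_field (p := 3) (n := 2) Nat.prime_three (by norm_num)
        have h9 : Fintype.card F = 9 := by rw [hF]; norm_num
        obtain ⟨f⟩ := Cfsg.Agent.S0254.result h9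
        exact Four.psl F (Or.inr ⟨by omega, by rw [h9]; decide⟩) (e.trans f.symm)
      · exact Four.alt e
      · exact key Cfsg.Agent.H295.Alt8TI.noTI4_alt8 e
    · exact key (Cfsg.Agent.H517.FxAlt.no34_alt h9).2 e
  · obtain ⟨F, i1, i2, n, hn, hn2, ⟨e⟩⟩ := h
    rcases Nat.lt_or_ge n 5 with h9 | h9
    · interval_cases n
      · have h4 := hn2 rfl
        by_cases ho : Odd (Fintype.card F)
        · by_cases h5 : Fintype.card F = 5
          · obtain ⟨f⟩ := Cfsg.Agent.S0253.result h5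
            exact key noTI4_alt5 (e.trans f)
          · refine Four.psl F (Or.inr ⟨?_, ho⟩) e
            obtain ⟨k, hk⟩ := ho
            omega
        · haveI := charP_two_of_even ho
          by_cases h8 : Fintype.card F = 8
          · exact Four.psl F (Or.inl h8) e
          · exact key (Cfsg.Agent.H410.FxPslEven.noTI4_psl2_even F h4) e
      · by_cases h3 : 3 ≤ Fintype.card F
        · exact key (Cfsg.Agent.H583.FxThree.noTI4_psl3 F h3) e
        · have h2 : Fintype.card F = 2 := by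
            have := Fintype.one_lt_card (α := F)
            omega
          obtain ⟨L, j1, j2, hL⟩ := exists_field (p := 7) (n := 1) (by norm_num) (by norm_num)
          have h7 : Fintype.card L = 7 := by rw [hL]; norm_num
          obtain ⟨f⟩ := Cfsg.Agent.S0255.result h7 h2
          exact Four.psl L (Or.inr ⟨by omega, by rw [h7]; decide⟩) (e.trans f.symm)
      · by_cases h3 : 3 ≤ Fintype.card F
        · exact key (Cfsg.Agent.H807.Fx.noTI4_psl4 F h3) e
        · have h2 : Fintype.card F = 2 := by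
            have := Fintype.one_lt_card (α := F)
            omega
          obtain ⟨f⟩ := Cfsg.Agent.S0256.result h2
          exact key Cfsg.Agent.H295.Alt8TI.noTI4_alt8 (e.trans f)
    · exact key (Cfsg.Agent.H807.Fx.no34_psl h9 F).2 e
  · obtain ⟨F, i1, i2, m, hm, hm2, ⟨e⟩⟩ := h
    rcases Nat.lt_or_ge m 3 with h9 | h9
    · have h2 : m = 2 := by omega
      subst h2
      exact Four.psp F (hm2 rfl) e
    · exact key (Cfsg.Agent.H999.FxPSp.no34_psp h9 F).2 e
  · obtain ⟨F, i1, i2, n, q, hF, hn, hn2, ⟨e⟩⟩ := h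
    have hq2 : 2 ≤ q := by
      by_contra hc
      have h1 := Fintype.one_lt_card (α := F)
      rw [hF] at h1
      interval_cases q <;> simp at h1
    rcases Nat.lt_or_ge n 5 with h9 | h9
    · interval_cases n
      · by_cases h3 : q = 3
        · subst h3
          exact Four.psu ⟨F, _, _, by rw [hF]; norm_num, Or.inl ⟨e⟩⟩
        · have h2 : q ≠ 2 := fun h => hn2 ⟨rfl, h⟩
          exact key (Cfsg.Agent.H815.FxU3.noTI4_psu3 F hF (by omega)) e
      · by_cases h3 : q = 3
        · subst h3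
          exact Four.psu ⟨F, _, _, by rw [hF]; norm_num, Or.inr ⟨e⟩⟩
        · by_cases h2 : q = 2
          · subst h2
            obtain ⟨L, j1, j2, hL⟩ := exists_field (p := 3) (n := 1) (by norm_num) (by norm_num)
            have h3 : Fintype.card L = 3 := by rw [hL]; norm_num
            obtain ⟨f⟩ := Cfsg.Agent.S0822.result (F := F) (by rw [hF]; norm_num) h3
            exact Four.psp L h3.ge (e.trans f)
          · exact key (Cfsg.Agent.H372.FxU.noTI4_psu4 F hF (by omega)) e
    · exact key (Cfsg.Agent.H372.FxU.no34_psu h9 F hF).2 e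
  · obtain ⟨F, i1, i2, m, hm, hF, ⟨e⟩⟩ := h
    exact key (Cfsg.Agent.H397.FxOrth.no34_pomega_odd hm F hF).2 e
  · obtain ⟨F, i1, i2, m, hm, ⟨e⟩⟩ := h
    exact key (Cfsg.Agent.H682.Fx.no34_pomega_plus F hm).2 e
  · obtain ⟨F, i1, i2, m, a, b, hm, hab, ⟨e⟩⟩ := h
    rcases Nat.lt_or_ge m 5 with h9 | h9
    · have h4 : m = 4 := by omega
      subst h4
      exact Four.om F a b hab e
    · exact key (Cfsg.Agent.H682.Fx.no34_pomega_minus F h9 a b hab).2 e
  · rcases h with h | h | h | h | h | h | h | h | h | h | h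
    · obtain ⟨F, i1, i2, h3, ⟨e⟩⟩ := h
      exact key (no34_g2 F h3).2 e
    · obtain ⟨F, i1, i2, ⟨e⟩⟩ := h
      exact key (no34_f4 F).2 e
    · obtain ⟨F, i1, i2, ⟨e⟩⟩ := h
      exact key (no34_e6 F).2 e
    · obtain ⟨F, i1, i2, ⟨e⟩⟩ := h
      exact key (no34_e7 F).2 e
    · obtain ⟨F, i1, i2, ⟨e⟩⟩ := h
      exact key (no34_e8 F).2 e
    · exact absurd hD ((no34_2e6 h).2 D)
    · exact Four.rest (Or.inl h)
    · exact Four.rest (Or.inr (Or.inl h))
    · exact Four.rest (Or.inr (Or.inr (Or.inl h)))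
    · exact absurd hD ((Cfsg.Agent.H99.FxTwF4.no34_2f4 h).2 D)
    · exact absurd hD ((Cfsg.Agent.H99.FxTits.no34_tits h).2 D)
  · rcases h with h | h | h | h | h | h | h | h | h | h | h | h | h | h | h | h | h | h | h | h | h |
      h | h | h | h | h
    · exact Four.rest (Or.inr (Or.inr (Or.inr (Or.inl h))))
    · exact Four.rest (Or.inr (Or.inr (Or.inr (Or.inr (Or.inl h)))))
    · exact Four.rest (Or.inr (Or.inr (Or.inr (Or.inr (Or.inr (Or.inl h))))))
    · exact absurd hD ((Cfsg.Agent.H315.FxNum.no34_m23 h).2 D)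
    · exact absurd hD ((Cfsg.Agent.H315.FxNum.no34_m24 h).2 D)
    · exact Four.rest (Or.inr (Or.inr (Or.inr (Or.inr (Or.inr (Or.inr h))))))
    · exact absurd hD ((Cfsg.Agent.H315.FxNum.no34_j2 h).2 D)
    · exact absurd hD ((Cfsg.Agent.H315.FxNum.no34_j3 h).2 D)
    · exact absurd hD ((Cfsg.Agent.H315.FxNum.no34_j4 h).2 D)
    · exact absurd hD ((Cfsg.Agent.H315.FxNum.no34_co1 h).2 D)
    · exact absurd hD ((Cfsg.Agent.H315.FxNum.no34_co2 h).2 D)
    · exact absurd hD ((Cfsg.Agent.H315.FxNum.no34_co3 h).2 D)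
    · exact absurd hD ((Cfsg.Agent.H315.FxNum.no34_mcl h).2 D)
    · exact absurd hD ((Cfsg.Agent.H315.FxNum.no34_hs h).2 D)
    · exact absurd hD ((Cfsg.Agent.H315.FxNum.no34_suz h).2 D)
    · exact absurd hD ((Cfsg.Agent.H315.FxNum.no34_he h).2 D)
    · exact absurd hD ((Cfsg.Agent.H753.FxRu.no34_ru h).2 D)
    · exact absurd hD ((Cfsg.Agent.H315.FxNum.no34_on h).2 D)
    · exact absurd hD ((Cfsg.Agent.H753.FxLy.no34_ly h).2 D)
    · exact absurd hD ((Cfsg.Agent.H315.FxNum.no34_fi22 h).2 D)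
    · exact absurd hD ((Cfsg.Agent.H315.FxNum.no34_fi23 h).2 D)
    · exact absurd hD ((Cfsg.Agent.H315.FxNum.no34_fi24' h).2 D)
    · exact absurd hD ((Cfsg.Agent.H753.FxHN.no34_hn h).2 D)
    · exact absurd hD ((Cfsg.Agent.H753.FxTh.no34_th h).2 D)
    · exact absurd hD ((Cfsg.Agent.H315.FxNum.no34_b h).2 D)
    · exact absurd hD ((Cfsg.Agent.H315.FxNum.no34_m h).2 D)

end Cfsg.Agent.H254.Ev
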