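import Cfsg.Agent.H254.FxBase
import Cfsg.Agent.H350.FixThreeD
import Cfsg.Agent.H755.TrContra

/-!
# Fixity 3 and 4: from an action with odd stabilizers to `OddTI` (helper254)
-/

set_option autoImplicit false
set_option linter.style.haveILetI false
set_option linter.unusedVariables false

namespace Cfsg.Agent.H254.Fx

open Subgroup Cfsg.Agent.Lib.GoldschmidtFusion
open Cfsg.Agent.H350.Fix

section three

variable {G Ω : Type*} [Group G] [Finite G] [MulAction G Ω]

/-- `three_case_one` of helper350 with a more precise conclusion -/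
theorem three_one [Finite Ω] [IsSimpleGroup G] [FaithfulSMul G Ω]
    (hna : ¬ IsMulCommutative G) (htrans : MulAction.IsPretransitive G Ω)
    (hfix : ∀ g : G, g ≠ 1 → (MulAction.fixedBy Ω g).ncard ≤ 4)
    (hodd : ∀ a : Ω, Odd (Nat.card (MulAction.stabilizer G a))) (P : Sylow 3 G)
    (htr : 27 ≤ Nat.card P → ∀ s : G, orderOf s = 3 →
      ¬ 27 ∣ Nat.card (centralizer ({s} : Set G)) → (∀ g : G, g * s * g⁻¹ ≠ s⁻¹) → False)
    (a : Ω) (h3 : 3 ∣ Nat.card (MulAction.stabilizer G a)) (hmod : Nat.card Ω % 3 = 1) :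
    (∀ x ∈ (P : Subgroup G), x ≠ 1 → MulAction.fixedBy Ω x = fx Ω (P : Subgroup G)) ∨
      (Nat.card P = 9 ∧ ∀ x ∈ (P : Subgroup G), x ^ 3 = 1) := by
  have h1 := card_fx_modEq (Ω := Ω) P.isPGroup'
  have h2 : Nat.card Ω % 3 = (fx Ω (P : Subgroup G)).ncard % 3 := h1
  by_cases hall : ∀ x ∈ (P : Subgroup G), x ≠ 1 → MulAction.fixedBy Ω x = fx Ω (P : Subgroup G)
  · exact Or.inl hall
  push Not at hall
  obtain ⟨x₁, hx₁, hx₁1, hx₁F⟩ := hall
  have h4 : ∀ x ∈ (P : Subgroup G), x ≠ 1 →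
      Nat.card Ω % 3 = (MulAction.fixedBy Ω x).ncard % 3 := fun x hx _ =>
    card_fixedBy_modEq (Ω := Ω) (isPGroup_zpowers_of_mem P.isPGroup' hx)
  have hx₁4 : (MulAction.fixedBy Ω x₁).ncard = 4 ∧ (fx Ω (P : Subgroup G)).ncard = 1 := by
    have h5 := hfix x₁ hx₁1
    have h6 := h4 x₁ hx₁ hx₁1
    have h7 : (fx Ω (P : Subgroup G)).ncard ≤ (MulAction.fixedBy Ω x₁).ncard :=
      Set.ncard_le_ncard (fx_sub_fixedBy hx₁)
    have h8 : ¬ (MulAction.fixedBy Ω x₁).ncard ≤ (fx Ω (P : Subgroup G)).ncard := by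
      intro h9
      exact hx₁F (Set.eq_of_subset_of_ncard_le (fx_sub_fixedBy hx₁) h9 (Set.toFinite _)).symm
    omega
  obtain ⟨a₀, ha₀⟩ := Set.ncard_eq_one.1 hx₁4.2
  have hPa₀ : ∀ g ∈ (P : Subgroup G), g • a₀ = a₀ := by
    have : a₀ ∈ fx Ω (P : Subgroup G) := by rw [ha₀]; rfl
    exact this
  have hne1 : ∀ w : G, w ≠ 1 → ∀ g : G, g * w * g⁻¹ ≠ 1 := by
    intro w hw g h
    apply hw
    have : w = g⁻¹ * (g * w * g⁻¹) * g := by group
    rw [this, h]; simp
  -- facts on good sets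
  have hKfix : ∀ Δ : Set Ω, Δ.ncard = 4 → ∀ y ∈ kst G Δ, y ≠ 1 → MulAction.fixedBy Ω y = Δ := by
    intro Δ hΔ y hy hy1
    symm
    exact Set.eq_of_subset_of_ncard_le (fun z hz => hy z hz) (by rw [hΔ]; exact hfix y hy1)
      (Set.toFinite _)
  have hgood : ∀ Δ : Set Ω, Δ.ncard = 4 → (P : Subgroup G) ⊓ kst G Δ ≠ ⊥ → a₀ ∈ Δ := by
    intro Δ hΔ hne
    obtain ⟨y, hy, hy1⟩ := exists_mem_ne_one hne
    rw [mem_inf] at hy
    rw [← hKfix Δ hΔ y hy.2 hy1]
    exact hPa₀ y hy.1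
  have hΓcard : ∀ Δ : Set Ω, Δ.ncard = 4 → a₀ ∈ Δ → (Δ \ {a₀}).ncard = 3 := by
    intro Δ hΔ h
    rw [Set.ncard_sdiff_singleton_of_mem h, hΔ]
  have hpresΓ : ∀ Δ : Set Ω, ∀ g ∈ mst G Δ, g • a₀ = a₀ → ∀ x ∈ Δ \ {a₀}, g • x ∈ Δ \ {a₀} := by
    intro Δ g hg hga x hx
    refine ⟨(hg x).2 hx.1, ?_⟩
    intro h
    apply hx.2
    have h5 : g • x = g • a₀ := by rw [hga]; exact h
    exact MulAction.injective g h5
  have hkerΓ : ∀ Δ : Set Ω, a₀ ∈ Δ → ∀ g : G, g • a₀ = a₀ →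
      (g ∈ kst G Δ ↔ ∀ x ∈ Δ \ {a₀}, g • x = x) := by
    intro Δ ha g hga
    constructor
    · intro h x hx
      exact h x hx.1
    · intro h x hx
      by_cases hxa : x = a₀
      · rw [hxa, hga]
      · exact h x ⟨hx, hxa⟩
  have hB : ∀ Δ : Set Ω, Δ.ncard = 4 → (P : Subgroup G) ⊓ kst G Δ ≠ ⊥ →
      ¬ (P : Subgroup G) ≤ mst G Δ →
      Nat.card ((P : Subgroup G) ⊓ kst G Δ : Subgroup G) = 3 ∧ 27 ≤ Nat.card P ∧
        ∃ s ∈ (P : Subgroup G) ⊓ kst G Δ, s ≠ 1 ∧ orderOf s = 3 ∧ ∀ g : G, g * s * g⁻¹ ≠ s⁻¹ := by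
    intro Δ hΔ hne hPM
    have ha := hgood Δ hΔ hne
    refine subcaseB (Γ := Δ \ {a₀}) rfl hne (fun x hx hx1 => hKfix Δ hΔ x (mem_inf.1 hx).2 hx1)
      Set.sdiff_subset (hΓcard Δ hΔ ha) (by omega) ?_ ?_ hodd hPM
    · intro g hg x hx
      rw [mem_inf] at hg
      exact hpresΓ Δ g hg.2 (hPa₀ g hg.1) x hx
    · intro g hg
      rw [mem_inf] at hg
      rw [mem_inf, hkerΓ Δ ha g (hPa₀ g hg.1)]
      exact ⟨fun h => h.2, fun h => ⟨hg.1, h⟩⟩
  by_cases hA : ∃ Δ : Set Ω, Δ.ncard = 4 ∧ (P : Subgroup G) ⊓ kst G Δ ≠ ⊥ ∧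
      (P : Subgroup G) ≤ mst G Δ
  · obtain ⟨Δ, hΔ, hne, hPM⟩ := hA
    have ha := hgood Δ hΔ hne
    obtain ⟨T, hT⟩ : ∃ T : Subgroup G, T = (P : Subgroup G) ⊓ kst G Δ := ⟨_, rfl⟩
    rw [← hT] at hne
    have hTP : T ≤ (P : Subgroup G) := hT ▸ inf_le_left
    have hfixT : ∀ x ∈ T, x ≠ 1 → MulAction.fixedBy Ω x = Δ := by
      intro x hx hx1
      rw [hT, mem_inf] at hx
      exact hKfix Δ hΔ x hx.2 hx1
    have hrel : T.relIndex (P : Subgroup G) ∣ 3 := by
      refine relIndex_dvd_three P.isPGroup' hTP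
        (relIndex_dvd_factorial (Γ := Δ \ {a₀}) (hΓcard Δ hΔ ha) ?_ ?_)
      · intro g hg x hx
        exact hpresΓ Δ g (hPM hg) (hPa₀ g hg) x hx
      · intro g hg
        rw [hT, mem_inf, hkerΓ Δ ha g (hPa₀ g hg)]
        exact ⟨fun h => h.2, fun h => ⟨hg, h⟩⟩
    have hrel3 : T.relIndex (P : Subgroup G) = 3 := by
      rcases (Nat.dvd_prime Nat.prime_three).1 hrel with h5 | h5
      · exfalso
        rw [relIndex_eq_one, hT] at h5
        have h6 : Δ ⊆ fx Ω (P : Subgroup G) := fun x hx g hg => (mem_inf.1 (h5 hg)).2 x hx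
        have h7 := Set.ncard_le_ncard h6
        omega
      · exact h5
    have hTn : ∀ g ∈ (P : Subgroup G), ∀ x ∈ T, g * x * g⁻¹ ∈ T := by
      intro g hg x hx
      rw [hT, mem_inf] at hx ⊢
      exact ⟨mul_mem (mul_mem hg hx.1) (inv_mem hg), mst_kst_normal (hPM hg) hx.2⟩
    have h := t3a P T (mst G Δ) (MulAction.stabilizer G a₀) hTP hne hTn hrel3 ?_
      (fun w hw hw1 g hg => mem_mst_of_fixedBy (hfixT w hw hw1) (hfixT _ hg (hne1 w hw1 g)))
      ?_ ?_
    · rcases h with h | h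
      · exfalso
        refine no_normal_index hna P T (lt_of_le_of_ne hTP ?_) hTn h
        intro h4
        rw [h4, relIndex_self] at hrel3
        omega
      · exact Or.inr h
    · intro X hXP hXT hXT1 g hg
      obtain ⟨y, hy, hy1⟩ := exists_mem_ne_one hXT1
      rw [mem_inf] at hy
      have h5 : fx Ω X ⊆ Δ := by
        rw [← hfixT y hy.2 hy1]
        exact fx_sub_fixedBy hy.1
      have h6 : Nat.card Ω % 3 = (fx Ω X).ncard % 3 :=
        card_fx_modEq (Ω := Ω) (P.isPGroup'.to_le hXP)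
      have h7 : (fx Ω X).ncard ≤ 4 := hΔ ▸ Set.ncard_le_ncard h5
      have h8 : (fx Ω X).ncard ≠ 4 := by
        intro h8
        have h9 : fx Ω X = Δ := Set.eq_of_subset_of_ncard_le h5 (by omega) (Set.toFinite _)
        apply hXT
        intro x hx
        rw [hT, mem_inf]
        refine ⟨hXP hx, ?_⟩
        intro z hz
        rw [← h9] at hz
        exact hz x hx
      have h9 : (fx Ω X).ncard = 1 := by omega
      obtain ⟨c, hc⟩ := Set.ncard_eq_one.1 h9
      have h10 : a₀ ∈ fx Ω X := fun g hg => hPa₀ g (hXP hg)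
      rw [hc] at h10
      have h11 : a₀ = c := h10
      subst h11
      have h12 := fx_mst (Ω := Ω) hg
      rw [hc] at h12
      exact (h12 a₀).2 rfl
    · intro g hg x hx hgx
      rw [mem_inf] at hg
      rw [hT, mem_inf]
      refine ⟨mul_mem hgx (inv_mem hx), ?_⟩
      have hga : g • a₀ = a₀ := hg.1
      have hxa := hPa₀ x hx
      rw [hkerΓ Δ ha _ (by
        rw [mul_smul, mul_smul, mul_smul, inv_smul_eq_iff.2 hxa.symm, inv_smul_eq_iff.2 hga.symm,
          hxa, hga])]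
      have hle : MulAction.stabilizer G a₀ ⊓ mst G Δ ≤ MulAction.stabilizer G a₀ := inf_le_left
      exact odd_act_comm (H := MulAction.stabilizer G a₀ ⊓ mst G Δ) (hΓcard Δ hΔ ha)
        (Odd.of_dvd_nat (hodd a₀) (card_dvd_of_le hle))
        (fun g hg x hx => hpresΓ Δ g (mem_inf.1 hg).2 (mem_inf.1 hg).1 x hx)
        (mem_inf.2 hg) (mem_inf.2 ⟨hxa, hPM hx⟩)
    · intro w hw hw1 g hg hgw
      exact hw1 (odd_no_invert (hodd a₀) hg (hPa₀ w (hTP hw)) hgw)
  · exfalso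
    push Not at hA
    obtain ⟨Δ, hΔdef⟩ : ∃ Δ : Set Ω, Δ = MulAction.fixedBy Ω x₁ := ⟨_, rfl⟩
    have hΔ : Δ.ncard = 4 := hΔdef ▸ hx₁4.1
    have hx₁K : x₁ ∈ kst G Δ := by
      intro z hz
      rw [hΔdef] at hz
      exact hz
    have hne : (P : Subgroup G) ⊓ kst G Δ ≠ ⊥ := by
      intro h
      have h5 : x₁ ∈ (P : Subgroup G) ⊓ kst G Δ := mem_inf.2 ⟨hx₁, hx₁K⟩
      rw [h, mem_bot] at h5
      exact hx₁1 h5
    obtain ⟨hc3, h27, s, hs, hs1, hs3, hinv⟩ := hB Δ hΔ hne (hA Δ hΔ hne)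
    rw [mem_inf] at hs
    refine htr h27 s hs3 (not_dvd_centralizer hΔ (by decide) (hKfix Δ hΔ s hs.2 hs1) ?_) hinv
    intro h9
    obtain ⟨R, -, hRN, hR, hRi⟩ := exists_sylow_in (p := 3) (N := kst G Δ) (D := ⊥)
      bot_le IsPGroup.of_bot
    have hcR : 9 ∣ Nat.card R := by
      rw [← card_mul_relIndex' hRN] at h9
      have h10 : Nat.Coprime 9 (R.relIndex (kst G Δ)) := by
        have : Nat.Coprime 3 (R.relIndex (kst G Δ)) := (Nat.Prime.coprime_iff_not_dvd Nat.prime_three).2 hRi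
        have h11 := Nat.Coprime.pow_left 2 this
        exact h11
      exact h10.dvd_of_dvd_mul_right h9
    obtain ⟨Q, hQ⟩ := hR.exists_le_sylow
    obtain ⟨k, hk⟩ := MulAction.exists_smul_eq G Q P
    have hkR : R.map (MulAut.conj k).toMonoidHom ≤ (P : Subgroup G) := by
      rw [← hk, Sylow.coe_subgroup_smul]
      rintro _ ⟨r, hr, rfl⟩
      exact Subgroup.smul_mem_pointwise_smul _ (MulAut.conj k) _ (hQ hr)
    obtain ⟨Δ', hΔ'⟩ : ∃ Δ' : Set Ω, Δ' = (fun x => k • x) '' Δ := ⟨_, rfl⟩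
    have hΔ'4 : Δ'.ncard = 4 := by
      rw [hΔ', Set.ncard_image_of_injective _ (MulAction.injective k), hΔ]
    have hle : R.map (MulAut.conj k).toMonoidHom ≤ (P : Subgroup G) ⊓ kst G Δ' := by
      refine le_inf hkR ?_
      rintro _ ⟨r, hr, rfl⟩
      intro z hz
      rw [hΔ'] at hz
      obtain ⟨y, hy, rfl⟩ := hz
      have h12 : r • y = y := hRN hr y hy
      show (k * r * k⁻¹) • k • y = k • y
      rw [mul_smul, mul_smul, inv_smul_smul, h12]
    have h13 := card_dvd_of_le hle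
    rw [card_map_conj] at h13
    have h14 : 9 ∣ Nat.card ((P : Subgroup G) ⊓ kst G Δ' : Subgroup G) := hcR.trans h13
    have hne' : (P : Subgroup G) ⊓ kst G Δ' ≠ ⊥ := by
      intro h
      rw [h, card_bot] at h14
      omega
    have h15 := (hB Δ' hΔ'4 hne' (hA Δ' hΔ'4 hne')).1
    omega


/-- `three_case_zero` of helper350 with a more precise conclusion -/
theorem three_zero [Finite Ω] [IsSimpleGroup G] (hna : ¬ IsMulCommutative G)
    (htrans : MulAction.IsPretransitive G Ω)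
    (hfix : ∀ g : G, g ≠ 1 → (MulAction.fixedBy Ω g).ncard ≤ 4)
    (hodd : ∀ a : Ω, Odd (Nat.card (MulAction.stabilizer G a))) (P : Sylow 3 G)
    (htr : 27 ≤ Nat.card P → ∀ s : G, orderOf s = 3 →
      ¬ 27 ∣ Nat.card (centralizer ({s} : Set G)) → (∀ g : G, g * s * g⁻¹ ≠ s⁻¹) → False)
    (a : Ω) (h3 : 3 ∣ Nat.card (MulAction.stabilizer G a)) (hmod : Nat.card Ω % 3 = 0) :
    Nat.card P = 9 ∧ ∀ x ∈ (P : Subgroup G), x ^ 3 = 1 := by
  obtain ⟨b, hb⟩ := exists_point_sylow P a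
  have hidx : ∀ x : Ω, (MulAction.stabilizer G x).index = Nat.card Ω := fun x =>
    MulAction.index_stabilizer_of_transitive G x
  have hcard : Nat.card (MulAction.stabilizer G b) = Nat.card (MulAction.stabilizer G a) := by
    have e1 := (MulAction.stabilizer G b).card_mul_index
    have e2 := (MulAction.stabilizer G a).card_mul_index
    rw [hidx] at e1 e2
    have hpos : 0 < Nat.card Ω := Nat.card_pos_iff.2 ⟨⟨a⟩, inferInstance⟩
    exact Nat.eq_of_mul_eq_mul_right hpos (e1.trans e2.symm)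
  obtain ⟨T, hT⟩ : ∃ T : Subgroup G, T = (P : Subgroup G) ⊓ MulAction.stabilizer G b := ⟨_, rfl⟩
  rw [← hT] at hb
  have hTb : T ≤ MulAction.stabilizer G b := hT ▸ inf_le_right
  have hTP : T ≤ (P : Subgroup G) := hT ▸ inf_le_left
  have hcT := card_mul_relIndex' hTb
  have h3T : 3 ∣ Nat.card T := by
    have h4 : 3 ∣ Nat.card T * T.relIndex (MulAction.stabilizer G b) := by
      rw [hcT, hcard]; exact h3
    exact (Nat.prime_three.dvd_mul.1 h4).resolve_right hb
  have hT1 : T ≠ ⊥ := by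
    rintro h
    rw [h, card_bot] at h3T
    omega
  have hTp : IsPGroup 3 T := P.isPGroup'.to_le hTP
  obtain ⟨Δ, hΔ⟩ : ∃ Δ : Set Ω, Δ = fx Ω T := ⟨_, rfl⟩
  have hbΔ : b ∈ Δ := by rw [hΔ]; intro g hg; exact hTb hg
  obtain ⟨x₀, hx₀, hx₀1⟩ := exists_mem_ne_one hT1
  have hΔ3 : Δ.ncard = 3 := by
    have h4 := card_fx_modEq (Ω := Ω) hTp
    rw [← hΔ] at h4
    have h5 : Δ.ncard ≤ 4 := by
      refine le_trans (Set.ncard_le_ncard ?_) (hfix x₀ hx₀1)
      rw [hΔ]; exact fx_sub_fixedBy hx₀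
    have h6 : 0 < Δ.ncard := by
      rw [Set.ncard_pos]; exact ⟨b, hbΔ⟩
    have h7 : Nat.card Ω % 3 = Δ.ncard % 3 := h4
    omega
  have hfixT : ∀ x ∈ T, x ≠ 1 → MulAction.fixedBy Ω x = Δ := by
    intro x hx hx1
    symm
    refine Set.eq_of_subset_of_ncard_le (by rw [hΔ]; exact fx_sub_fixedBy hx) ?_ (Set.toFinite _)
    have h4 := card_fixedBy_modEq (Ω := Ω) (isPGroup_zpowers_of_mem hTp hx)
    have h5 : Nat.card Ω % 3 = (MulAction.fixedBy Ω x).ncard % 3 := h4
    have h6 := hfix x hx1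
    omega
  have hTK : T = (P : Subgroup G) ⊓ kst G Δ := by
    apply le_antisymm
    · refine le_inf hTP ?_
      intro g hg x hx
      rw [hΔ] at hx
      exact hx g hg
    · rw [hT]
      refine inf_le_inf_left _ ?_
      intro g hg
      exact hg b hbΔ
  by_cases hPM : (P : Subgroup G) ≤ mst G Δ
  · have hrel : T.relIndex (P : Subgroup G) ∣ 3 := by
      refine relIndex_dvd_three P.isPGroup' hTP (relIndex_dvd_factorial (Γ := Δ) hΔ3 ?_ ?_)
      · intro g hg x hx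
        exact (hPM hg x).2 hx
      · intro g hg
        rw [hTK, mem_inf]
        exact ⟨fun h => h.2, fun h => ⟨hg, h⟩⟩
    have hrel3 : T.relIndex (P : Subgroup G) = 3 := by
      rcases (Nat.dvd_prime Nat.prime_three).1 hrel with h4 | h4
      · exfalso
        rw [relIndex_eq_one] at h4
        have h5 := index_dvd_of_le (h4.trans hTb)
        rw [hidx] at h5
        exact P.not_dvd_index ((Nat.dvd_of_mod_eq_zero hmod).trans h5)
      · exact h4
    have hMo : Odd (Nat.card (mst G Δ)) := odd_of_odd_ncard (by rw [hΔ3]; decide) hodd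
    have hTn : ∀ g ∈ (P : Subgroup G), ∀ x ∈ T, g * x * g⁻¹ ∈ T := by
      intro g hg x hx
      rw [hTK, mem_inf] at hx ⊢
      exact ⟨mul_mem (mul_mem hg hx.1) (inv_mem hg), mst_kst_normal (hPM hg) hx.2⟩
    have hne1 : ∀ w : G, w ≠ 1 → ∀ g : G, g * w * g⁻¹ ≠ 1 := by
      intro w hw g h
      apply hw
      have : w = g⁻¹ * (g * w * g⁻¹) * g := by group
      rw [this, h]; simp
    have h := t3a P T (mst G Δ) ⊤ hTP hT1 hTn hrel3 (fun _ _ _ _ => le_top)
      (fun w hw hw1 g hg => mem_mst_of_fixedBy (hfixT w hw hw1) (hfixT _ hg (hne1 w hw1 g)))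
      (by
        intro g hg x hx hgx
        rw [hTK, mem_inf]
        refine ⟨mul_mem hgx (inv_mem hx), ?_⟩
        exact odd_act_comm (H := mst G Δ) hΔ3 hMo (fun g hg x hx => (hg x).2 hx) (mem_inf.1 hg).2
          (hPM hx))
      (by
        intro w hw hw1 g _ hgw
        have hgM : g ∈ mst G Δ := by
          refine mem_mst_of_fixedBy (hfixT w hw hw1) ?_
          rw [hgw]
          exact hfixT _ (inv_mem hw) (by rwa [Ne, inv_eq_one])
        exact hw1 (odd_no_invert hMo hgM (hPM (hTP hw)) hgw))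
    rcases h with h | h
    · exfalso
      refine no_normal_index hna P T (lt_of_le_of_ne hTP ?_) hTn h
      intro h4
      rw [h4, relIndex_self] at hrel3
      omega
    · exact h
  · exfalso
    obtain ⟨hcT3, h27, s, hsT, hs1, hs3, hinv⟩ := subcaseB hTK hT1 hfixT (le_refl Δ) hΔ3 (by omega)
      (fun g hg x hx => ((mem_inf.1 hg).2 x).2 hx)
      (fun g hg => by
        rw [hTK, mem_inf]
        exact ⟨fun h => h.2, fun h => ⟨(mem_inf.1 hg).1, h⟩⟩) hodd hPM
    refine htr h27 s hs3 (not_dvd_centralizer hΔ3 (by decide) (hfixT s hsT hs1) ?_) hinv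
    intro h9
    have h4 : kst G Δ ≤ MulAction.stabilizer G b := fun g hg => hg b hbΔ
    have h5 : 9 ∣ Nat.card (MulAction.stabilizer G b) := h9.trans (card_dvd_of_le h4)
    rw [← hcT, hcT3] at h5
    apply hb
    obtain ⟨c, hc⟩ := h5
    exact ⟨c, by omega⟩


end three

section perm

theorem perm_exp : ∀ σ : Equiv.Perm (Fin 4), σ ^ 3 = 1 ∨ σ ^ 4 = 1 := by decide +kernel

/-- a transposition -/
def Tr (τ : Equiv.Perm (Fin 4)) : Prop := τ ^ 2 = 1 ∧ τ ≠ 1 ∧ ∃ i, τ i = i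

instance trDecidable (τ : Equiv.Perm (Fin 4)) : Decidable (Tr τ) := by unfold Tr; infer_instance

theorem perm_inv : ∀ σ τ : Equiv.Perm (Fin 4), σ ^ 3 = 1 → σ ≠ 1 → 
    τ * σ * τ⁻¹ * σ = 1 → Tr τ := by decide +kernel

theorem perm_four : ∀ σ τ : Equiv.Perm (Fin 4), σ ^ 4 = 1 → σ ^ 2 ≠ 1 →
    τ ^ 3 = 1 → τ ≠ 1 → (Tr (σ * τ) ∨ Tr (σ * τ ^ 2)) := by decide +kernel

end perm

section act

variable {G Ω : Type*} [Group G] [Finite G] [MulAction G Ω] [Finite Ω] {k : ℕ}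

omit [Finite G] in
theorem kst_fix (hfix : ∀ g : G, g ≠ 1 → (MulAction.fixedBy Ω g).ncard ≤ k)
    {Δ : Set Ω} (hΔ : Δ.ncard = k) {y : G} (hy : y ∈ kst G Δ) (hy1 : y ≠ 1) :
    MulAction.fixedBy Ω y = Δ := by
  symm
  exact Set.eq_of_subset_of_ncard_le (fun z hz => hy z hz) (by rw [hΔ]; exact hfix y hy1)
    (Set.toFinite _)

omit [Finite G] in
/-- normalizers of nontrivial subgroups of the pointwise stabilizer -/
theorem normalizer_le_mst (hfix : ∀ g : G, g ≠ 1 → (MulAction.fixedBy Ω g).ncard ≤ k)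
    {Δ : Set Ω} (hΔ : Δ.ncard = k) {X : Subgroup G} (hX : X ≤ kst G Δ) (hX1 : X ≠ ⊥) :
    normalizer (X : Set G) ≤ mst G Δ := by
  intro n hn
  obtain ⟨x, hx, hx1⟩ := exists_mem_ne_one hX1
  refine mem_mst_of_fixedBy (kst_fix hfix hΔ (hX hx) hx1)
    (kst_fix hfix hΔ (hX ((mem_normalizer_iff.1 hn x).1 hx)) ?_)
  intro h
  apply hx1
  have : x = n⁻¹ * (n * x * n⁻¹) * n := by group
  rw [this, h]; simp

omit [Finite G] [Finite Ω] in
theorem mst_le_normalizer (Δ : Set Ω) : mst G Δ ≤ normalizer (kst G Δ : Set G) := by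
  intro g hg
  rw [mem_normalizer_iff]
  intro x
  constructor
  · intro hx; exact mst_kst_normal hg hx
  · intro hx
    have h1 := mst_kst_normal (inv_mem hg) hx
    have : g⁻¹ * (g * x * g⁻¹) * g⁻¹⁻¹ = x := by group
    rwa [this] at h1

omit [Finite G] in
theorem normalizer_kst (hfix : ∀ g : G, g ≠ 1 → (MulAction.fixedBy Ω g).ncard ≤ k)
    {Δ : Set Ω} (hΔ : Δ.ncard = k) (hne : kst G Δ ≠ ⊥) :
    normalizer (kst G Δ : Set G) = mst G Δ :=
  le_antisymm (normalizer_le_mst hfix hΔ le_rfl hne) (mst_le_normalizer Δ)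

omit [Finite G] in
/-- the action of `mst Δ` on `Δ` as a homomorphism to `Sym(4)` -/
theorem exists_hom {Δ : Set Ω} (hΔ : Δ.ncard = k) (hk : k ≤ 4) :
    ∃ (e : Δ → Fin 4) (f : ↥(mst G Δ) →* Equiv.Perm (Fin 4)), (k = 4 → Function.Surjective e) ∧
      Function.Injective e ∧
      (∀ y, f y = 1 ↔ (y : G) ∈ kst G Δ) ∧
      ∀ (y : ↥(mst G Δ)) (a : Δ), f y (e a) = e a → (y : G) • (a : Ω) = a := by
  classical
  haveI := Fintype.ofFinite Δ
  have hc : Nat.card Δ = k := hΔ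
  have h1 : Nonempty (Δ ↪ Fin 4) := by
    apply Function.Embedding.nonempty_of_card_le
    rw [← Nat.card_eq_fintype_card, hc]; simpa using hk
  obtain ⟨ι⟩ := h1
  have hact : ∀ g ∈ mst G Δ, ∀ x ∈ Δ, g • x ∈ Δ := fun g hg x hx => (hg x).2 hx
  refine ⟨ι, (Equiv.Perm.viaEmbeddingHom ι).comp (actOn (mst G Δ) Δ hact), ?_, ι.injective, ?_, ?_⟩
  · intro hk4
    refine ((Fintype.bijective_iff_injective_and_card ι).2 ⟨ι.injective, ?_⟩).2
    rw [← Nat.card_eq_fintype_card, hc, hk4]; simp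
  · intro y
    rw [MonoidHom.comp_apply]
    constructor
    · intro h
      have h2 : actOn (mst G Δ) Δ hact y = 1 :=
        Equiv.Perm.viaEmbeddingHom_injective ι (by rw [h, map_one])
      have h3 := (mem_ker_actOn hact y).1 h2
      exact h3
    · intro h
      have h3 : actOn (mst G Δ) Δ hact y = 1 := (mem_ker_actOn hact y).2 h
      rw [h3, map_one]
  · intro y a h
    rw [MonoidHom.comp_apply, Equiv.Perm.viaEmbeddingHom_apply, Equiv.Perm.viaEmbedding_apply] at h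
    have h2 := ι.injective h
    have h3 := congrArg Subtype.val h2
    rw [actOn_apply] at h3
    exact h3

/-- facts on `N(D)/D` for odd stabilizers -/
theorem notr (hfix : ∀ g : G, g ≠ 1 → (MulAction.fixedBy Ω g).ncard ≤ k)
    (hk : k = 3 ∨ k = 4) (hodd : ∀ a : Ω, Odd (Nat.card (MulAction.stabilizer G a)))
    {Δ : Set Ω} (hΔ : Δ.ncard = k) {e : Δ → Fin 4} {f : ↥(mst G Δ) →* Equiv.Perm (Fin 4)}
    (he : k = 4 → Function.Surjective e) (hf : ∀ y, f y = 1 ↔ (y : G) ∈ kst G Δ)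
    (hfe : ∀ (y : ↥(mst G Δ)) (a : Δ), f y (e a) = e a → (y : G) • (a : Ω) = a)
    (w : ↥(mst G Δ)) : ¬ Tr (f w) := by
  rintro ⟨h2, h1, i, hi⟩
  apply h1
  rw [hf]
  rw [← map_pow, hf] at h2
  have h2' : (w : G) ^ 2 ∈ kst G Δ := h2
  have key : ∀ H : Subgroup G, (w : G) ∈ H → Odd (Nat.card H) → (w : G) ∈ kst G Δ := by
    intro H hw ho
    have h4 : orderOf (w : G) ∣ Nat.card H := orderOf_dvd_card_of_mem hw
    refine pow_mem_of_coprime h2' (pow_orderOf_eq_one (w : G)) ?_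
    exact (Nat.coprime_two_left.2 (ho.of_dvd_nat h4))
  rcases hk with hk | hk
  · refine key (mst G Δ) w.2 (odd_of_odd_ncard (by rw [hΔ, hk]; decide) hodd)
  · obtain ⟨a, ha⟩ := he hk i
    have h4 := hfe w a (by rw [ha, hi])
    exact key (MulAction.stabilizer G (a : Ω)) h4 (hodd a)

/-- **From an action of fixity exactly `k` with odd stabilizers to `OddTI`.** -/
theorem oddTI [FaithfulSMul G Ω] [IsSimpleGroup G]
    (hna : ¬ IsMulCommutative G) (htrans : MulAction.IsPretransitive G Ω)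
    (hk : k = 3 ∨ k = 4) (hfix : ∀ g : G, g ≠ 1 → (MulAction.fixedBy Ω g).ncard ≤ k)
    (hodd : ∀ a : Ω, Odd (Nat.card (MulAction.stabilizer G a)))
    {g₀ : G} (hg₀ : g₀ ≠ 1) (hg₀k : (MulAction.fixedBy Ω g₀).ncard = k) :
    OddTI k (kst G (MulAction.fixedBy Ω g₀)) := by
  have hk4 : k ≤ 4 := by omega
  have hkpos : 0 < k := by omega
  obtain ⟨Δ, hΔdef⟩ : ∃ Δ : Set Ω, Δ = MulAction.fixedBy Ω g₀ := ⟨_, rfl⟩
  rw [← hΔdef] at hg₀k ⊢
  have hΔ := hg₀k
  have hg₀D : g₀ ∈ kst G Δ := by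
    intro z hz
    rw [hΔdef] at hz
    exact hz
  have hne : kst G Δ ≠ ⊥ := by
    intro h
    rw [h, mem_bot] at hg₀D
    exact hg₀ hg₀D
  have hNK := normalizer_kst hfix hΔ hne
  obtain ⟨a₀, ha₀⟩ : Δ.Nonempty := by rw [← Set.ncard_pos]; omega
  obtain ⟨e, f, hes, hei, hf, hfe⟩ := exists_hom (G := G) hΔ hk4
  have hTr := notr hfix hk hodd hΔ hes hf hfe
  have hDodd : Odd (Nat.card (kst G Δ)) := by
    have h1 : kst G Δ ≤ MulAction.stabilizer G a₀ := fun g hg => hg a₀ ha₀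
    exact (hodd a₀).of_dvd_nat (card_dvd_of_le h1)
  have hact : ∀ g ∈ mst G Δ, ∀ x ∈ Δ, g • x ∈ Δ := fun g hg x hx => (hg x).2 hx
  have hidxk : (kst G Δ).relIndex (mst G Δ) ∣ k.factorial :=
    relIndex_dvd_factorial hΔ hact (fun g _ => mem_kst)
  have hcard := card_mul_relIndex' (kst_le_mst (G := G) Δ)
  have hidx3 : k = 3 → (kst G Δ).relIndex (mst G Δ) ∣ 3 := by
    intro hk3
    have h1 : Odd (Nat.card (mst G Δ)) := odd_of_odd_ncard (by rw [hΔ, hk3]; decide) hodd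
    have h2 : (kst G Δ).relIndex (mst G Δ) ∣ Nat.card (mst G Δ) := Dvd.intro_left _ hcard
    have h3 := h1.of_dvd_nat h2
    rw [hk3] at hidxk
    have h4 : (kst G Δ).relIndex (mst G Δ) ∣ 2 * 3 := hidxk
    exact (Nat.Coprime.dvd_of_dvd_mul_left (Nat.coprime_two_right.2 h3) h4)
  have hidx : (kst G Δ).relIndex (mst G Δ) ∣ 12 := by
    rcases hk with hk3 | hk4'
    · exact (hidx3 hk3).trans (by norm_num)
    · rw [hk4'] at hidxk
      have h24 : (kst G Δ).relIndex (mst G Δ) ∣ 24 := hidxk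
      have h8 : ¬ 8 ∣ (kst G Δ).relIndex (mst G Δ) := by
        intro h8
        have h9 : 2 ^ 3 ∣ Nat.card (mst G Δ) :=
          (show 2 ^ 3 ∣ (kst G Δ).relIndex (mst G Δ) from h8).trans (Dvd.intro_left _ hcard)
        haveI : Fact (Nat.Prime 2) := ⟨Nat.prime_two⟩
        obtain ⟨Q, hQ⟩ := Sylow.exists_subgroup_card_pow_prime 2 h9
        have h10 : Nat.card Q ≤ Nat.card Δ := by
          refine Nat.card_le_card_of_injective (fun q : Q =>
            (⟨((q : mst G Δ) : G) • a₀, hact _ (q : mst G Δ).2 a₀ ha₀⟩ : Δ)) ?_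
          intro x y hxy
          have h11 : ((x : mst G Δ) : G) • a₀ = ((y : mst G Δ) : G) • a₀ := congrArg Subtype.val hxy
          have h12 : (((y⁻¹ * x : Q) : mst G Δ) : G) ∈ MulAction.stabilizer G a₀ := by
            rw [MulAction.mem_stabilizer_iff]
            have e1 : (((y⁻¹ * x : Q) : mst G Δ) : G) = ((y : mst G Δ) : G)⁻¹ * ((x : mst G Δ) : G) := rfl
            rw [e1, mul_smul, h11, inv_smul_smul]
          have h13 := orderOf_dvd_card_of_mem h12
          have h14 : orderOf (((y⁻¹ * x : Q) : mst G Δ) : G) = orderOf (y⁻¹ * x : Q) := by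
            rw [Subgroup.orderOf_coe, Subgroup.orderOf_coe]
          have h15 : orderOf (y⁻¹ * x : Q) ∣ 2 ^ 3 := by
            rw [← hQ]; exact orderOf_dvd_natCard _
          have h16 : orderOf (y⁻¹ * x : Q) = 1 := by
            have h17 := (hodd a₀).of_dvd_nat h13
            rw [h14] at h17
            have h18 : Nat.Coprime (orderOf (y⁻¹ * x : Q)) (2 ^ 3) :=
              Nat.Coprime.pow_right 3 (Nat.coprime_two_right.2 h17)
            exact Nat.Coprime.eq_one_of_dvd h18 h15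
          rw [orderOf_eq_one_iff, inv_mul_eq_one] at h16
          exact h16.symm
        have h20 : Nat.card Δ = 4 := by rw [← hk4']; exact hΔ
        rw [hQ, h20] at h10
        omega
      have h3 : (kst G Δ).relIndex (mst G Δ) ∈ Nat.divisors 24 := Nat.mem_divisors.2 ⟨h24, by norm_num⟩
      have h4 : Nat.divisors 24 = {1, 2, 3, 4, 6, 8, 12, 24} := by decide +kernel
      rw [h4] at h3
      simp only [Finset.mem_insert, Finset.mem_singleton] at h3
      rcases h3 with h3 | h3 | h3 | h3 | h3 | h3 | h3 | h3 <;> rw [h3] at h8 ⊢ <;> omega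
  have hrange : (kst G Δ).relIndex (mst G Δ) = Nat.card f.range := by
    have h1 : f.ker = (kst G Δ).subgroupOf (mst G Δ) := by
      ext y
      rw [MonoidHom.mem_ker, hf, mem_subgroupOf]
    rw [Subgroup.relIndex, ← h1, Subgroup.index_ker]
  refine ⟨hk, hne, hDodd, ?_, ?_, ?_, ?_, ?_, ?_, ?_, ?_, ?_⟩
  · intro X hX hX1
    rw [hNK]
    exact normalizer_le_mst hfix hΔ hX hX1
  · rw [hNK]
    exact ⟨f, hf⟩
  · rw [hNK]; exact hidx
  · rw [hNK]; exact hidx3
  · rw [hNK]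
    intro y hy
    have h1 := perm_exp (f ⟨y, hy⟩)
    rw [← map_pow, ← map_pow, hf, hf] at h1
    exact h1
  · rw [hNK]
    intro y hy h2 h4
    have h5 : (f ⟨y, hy⟩) ^ 2 ≠ 1 := by
      rw [← map_pow, Ne, hf]; exact h2
    have h6 : (f ⟨y, hy⟩) ^ 4 = 1 := by
      rw [← map_pow, hf]; exact h4
    have h7 : orderOf (f ⟨y, hy⟩) = 4 := by
      have h8 : orderOf (f ⟨y, hy⟩) ∣ 4 := orderOf_dvd_of_pow_eq_one h6
      have h9 : ¬ orderOf (f ⟨y, hy⟩) ∣ 2 := fun h => h5 (orderOf_dvd_iff_pow_eq_one.1 h)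
      have h10 : orderOf (f ⟨y, hy⟩) ≤ 4 := Nat.le_of_dvd (by norm_num) h8
      interval_cases (orderOf (f ⟨y, hy⟩)) <;> omega
    have h8 : 4 ∣ (kst G Δ).relIndex (mst G Δ) := by
      have h8 := orderOf_dvd_card_of_mem (D := f.range) (v := f ⟨y, hy⟩) ⟨_, rfl⟩
      rw [h7, ← hrange] at h8
      exact h8
    have h9 : ¬ 3 ∣ (kst G Δ).relIndex (mst G Δ) := by
      intro h10
      rw [hrange] at h10
      haveI : Fact (Nat.Prime 3) := ⟨Nat.prime_three⟩
      obtain ⟨⟨τ, hτr⟩, hτ⟩ := exists_prime_orderOf_dvd_card' 3 h10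
      rw [Subgroup.orderOf_mk] at hτ
      obtain ⟨z, hz⟩ := hτr
      have h11 : τ ^ 3 = 1 := by rw [← hτ, pow_orderOf_eq_one]
      have h12 : τ ≠ 1 := by
        rintro rfl
        rw [orderOf_one] at hτ; omega
      rcases perm_four (f ⟨y, hy⟩) τ h6 h5 h11 h12 with h13 | h13
      · rw [← hz, ← map_mul] at h13
        exact hTr _ h13
      · rw [← hz, ← map_pow, ← map_mul] at h13
        exact hTr _ h13
    obtain ⟨m, hm⟩ := hidx
    obtain ⟨n, hn⟩ := h8
    rw [hn] at hm h9 ⊢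
    have h10 : n * m = 3 := by
      have : 4 * (n * m) = 12 := by rw [← mul_assoc]; exact hm.symm
      omega
    have h11 : n ∣ 3 := Dvd.intro m h10
    rcases (Nat.dvd_prime Nat.prime_three).1 h11 with h12 | h12
    · rw [h12]
    · exfalso; apply h9; rw [h12]; norm_num
  · rw [hNK]
    intro y hy z hz h3 hi
    by_contra hyD
    have h5 : (f ⟨y, hy⟩) ≠ 1 := by rw [Ne, hf]; exact hyD
    have h6 : (f ⟨y, hy⟩) ^ 3 = 1 := by
      rw [← map_pow, hf]; exact h3
    refine hTr _ (perm_inv (f ⟨y, hy⟩) (f ⟨z, hz⟩) h6 h5 ?_)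
    rw [← map_mul, ← map_inv, ← map_mul, ← map_mul, hf]
    exact hi
  · intro r P hr hP hP1
    rw [hNK]
    haveI : Fact r.Prime := ⟨hr⟩
    -- transitivity of `N(P)` on `Δ`
    have hNP : normalizer ((P : Subgroup G) : Set G) ≤ mst G Δ := normalizer_le_mst hfix hΔ hP hP1
    have htr : ∀ b ∈ Δ, ∃ n ∈ normalizer ((P : Subgroup G) : Set G), n • a₀ = b := by
      intro b hb
      obtain ⟨g, hg⟩ := htrans.exists_smul_eq a₀ b
      have hPa : (P : Subgroup G) ≤ MulAction.stabilizer G a₀ := fun x hx => hP hx a₀ ha₀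
      have hPb : ((g⁻¹ • P : Sylow r G) : Subgroup G) ≤ MulAction.stabilizer G a₀ := by
        rw [Sylow.coe_subgroup_smul]
        rintro _ ⟨x, hx, rfl⟩
        rw [MulAction.mem_stabilizer_iff]
        show (g⁻¹ * x * g⁻¹⁻¹) • a₀ = a₀
        have h1 : x • b = b := hP hx b hb
        rw [inv_inv, mul_smul, mul_smul, hg, h1, ← hg, inv_smul_smul]
      obtain ⟨h, hh⟩ := MulAction.exists_smul_eq (MulAction.stabilizer G a₀)
        ((g⁻¹ • P).subtype hPb) (P.subtype hPa)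
      have hh' : ((h : G) * g⁻¹) • P = P := by
        apply Sylow.ext
        have h2 := congrArg (fun Q : Sylow r (MulAction.stabilizer G a₀) =>
          (Q : Subgroup (MulAction.stabilizer G a₀)).map (MulAction.stabilizer G a₀).subtype) hh
        have h3 : (((P.subtype hPa : Sylow r (MulAction.stabilizer G a₀)) :
            Subgroup (MulAction.stabilizer G a₀)).map (MulAction.stabilizer G a₀).subtype) =
            (P : Subgroup G) := by
          rw [Sylow.coe_subtype, Subgroup.subgroupOf_map_subtype, inf_eq_left.2 hPa]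
        have h2' : ((h • ((g⁻¹ • P).subtype hPb) : Sylow r (MulAction.stabilizer G a₀)) :
            Subgroup (MulAction.stabilizer G a₀)).map (MulAction.stabilizer G a₀).subtype =
            (P : Subgroup G) := by rw [← h3]; exact h2
        rw [← h2', mul_smul]
        apply Subgroup.eq_of_le_of_card_ge
        · rw [Sylow.coe_subgroup_smul]
          rintro _ ⟨x, hx, rfl⟩
          refine ⟨h * ⟨x, hPb hx⟩ * h⁻¹, ?_, rfl⟩
          rw [Sylow.coe_subgroup_smul]
          refine Subgroup.smul_mem_pointwise_smul _ (MulAut.conj h) _ ?_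
          exact hx
        · rw [h2']
          rw [Sylow.card_eq_multiplicity, Sylow.card_eq_multiplicity]
      have hn : ((h : G) * g⁻¹)⁻¹ ∈ normalizer ((P : Subgroup G) : Set G) := by
        rw [inv_mem_iff]
        rwa [Sylow.smul_eq_iff_mem_normalizer] at hh'
      refine ⟨_, hn, ?_⟩
      have h4 : (h : G) • a₀ = a₀ := h.2
      rw [mul_inv_rev, inv_inv, mul_smul, inv_smul_eq_iff.2 h4.symm, hg]
    -- counting
    have h1 : (mst G Δ ⊓ MulAction.stabilizer G a₀).relIndex (mst G Δ) = k := by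
      have h2 : (mst G Δ ⊓ MulAction.stabilizer G a₀).relIndex (mst G Δ) =
          (MulAction.stabilizer (mst G Δ) a₀).index := by
        rw [Subgroup.relIndex]
        congr 1
        ext x
        rw [mem_subgroupOf, mem_inf]
        exact ⟨fun h => h.2, fun h => ⟨x.2, h⟩⟩
      rw [h2, MulAction.index_stabilizer, ← hΔ]
      congr 1
      ext b
      constructor
      · rintro ⟨n, rfl⟩
        exact hact _ n.2 a₀ ha₀
      · intro hb
        obtain ⟨n, hn, rfl⟩ := htr b hb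
        exact ⟨⟨n, hNP hn⟩, rfl⟩
    have h2 : kst G Δ ≤ mst G Δ ⊓ MulAction.stabilizer G a₀ :=
      le_inf (kst_le_mst _) (fun g hg => hg a₀ ha₀)
    have h3 := Subgroup.relIndex_mul_relIndex _ _ _ h2 (inf_le_left (a := mst G Δ))
    rw [h1] at h3
    exact Dvd.intro_left _ h3
  · intro h3
    haveI : Fact (Nat.Prime 3) := ⟨Nat.prime_three⟩
    obtain ⟨d, hdD, hd⟩ := exists_orderOf_of_dvd h3
    have hd1 : d ≠ 1 := by
      rintro rfl
      rw [orderOf_one] at hd; omega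
    have hdΔ := kst_fix hfix hΔ hdD hd1
    have hmod : Nat.card Ω % 3 = k % 3 := by
      have h4 := card_fixedBy_modEq (Ω := Ω) (isPGroup_zpowers_of_orderOf (p := 3) (y := d) (n := 1)
        (by rw [pow_one]; exact hd))
      rw [hdΔ, hΔ] at h4
      exact h4
    have h3a : 3 ∣ Nat.card (MulAction.stabilizer G a₀) :=
      h3.trans (card_dvd_of_le (fun g hg => hg a₀ ha₀))
    have hfix4 : ∀ g : G, g ≠ 1 → (MulAction.fixedBy Ω g).ncard ≤ 4 := fun g hg => (hfix g hg).trans hk4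
    rcases hk with hk3 | hk4'
    · right
      intro P
      exact three_zero hna htrans hfix4 hodd P
        (fun h27 s hs hc hinv => Cfsg.Agent.H755.Tr.tr_contra hna P h27 s hs hc hinv) a₀ h3a
        (by rw [hmod, hk3])
    · by_cases h9 : ∀ P : Sylow 3 G, Nat.card P = 9 ∧ ∀ x ∈ (P : Subgroup G), x ^ 3 = 1
      · exact Or.inr h9
      left
      push Not at h9
      obtain ⟨P, hP⟩ := h9
      have h4 := three_one hna htrans hfix4 hodd P
        (fun h27 s hs hc hinv => Cfsg.Agent.H755.Tr.tr_contra hna P h27 s hs hc hinv) a₀ h3a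
        (by rw [hmod, hk4'])
      have h5 : ∀ x ∈ (P : Subgroup G), x ≠ 1 → MulAction.fixedBy Ω x = fx Ω (P : Subgroup G) := by
        rcases h4 with h4 | h4
        · exact h4
        · obtain ⟨x, hx, hx3⟩ := hP h4.1
          exact absurd (h4.2 x hx) hx3
      obtain ⟨g, hg⟩ := exists_conj_of_sylow_le Nat.prime_three (le_refl (P : Subgroup G)) hd
      have h6 : g * d * g⁻¹ ≠ 1 := by
        intro h6
        apply hd1
        have : d = g⁻¹ * (g * d * g⁻¹) * g := by group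
        rw [this, h6]; simp
      have h7 := h5 _ hg h6
      refine ⟨g⁻¹ • P, ?_⟩
      rw [Sylow.coe_subgroup_smul]
      rintro _ ⟨x, hx, rfl⟩
      show g⁻¹ * x * g⁻¹⁻¹ ∈ kst G Δ
      intro b hb
      have h8 : g • b ∈ fx Ω (P : Subgroup G) := by
        rw [← h7, fixedBy_conj, inv_smul_smul, hdΔ]
        exact hb
      have h9 : x • g • b = g • b := h8 x hx
      rw [inv_inv, mul_smul, mul_smul, h9, inv_smul_smul]

end act

end Cfsg.Agent.H254.Fx
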