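import Cfsg.Agent.H254.FxOddThree
import Cfsg.Agent.H254.FxRed

/-!
# Fixity 3 with point stabilizers of odd order: existence of `D` (helper254)
-/

set_option autoImplicit false
set_option linter.style.haveILetI false
set_option linter.unusedVariables false

namespace Cfsg.Agent.H254.Ev

open Subgroup Cfsg.Agent.H350.Fix Cfsg.Agent.H254.Fx
open Cfsg.Agent.EvenType.StrongP (mem_map_conj of_normIn sylow_conj_in)

section

variable {G : Type*} [Group G] [Finite G] {H D : Subgroup G}

theorem exists_odd3 [IsSimpleGroup G] (hna : ¬ IsMulCommutative G) (h : FixLE 3 H)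
    (ho : Odd (Nat.card H)) {g : G} (hg : g ∈ H) (hg1 : g ≠ 1)
    (hg3 : (MulAction.fixedBy (G ⧸ H) g).ncard = 3) : ∃ D : Subgroup G, Odd3 H D ∧ g ∈ D := by
  have htr : MulAction.IsPretransitive G (G ⧸ H) := inferInstance
  have hst : ∀ a : G, MulAction.stabilizer G (a : G ⧸ H) = H.map (MulAut.conj a).toMonoidHom := by
    intro a
    ext y
    rw [MulAction.mem_stabilizer_iff, mem_map_conj, ← mk_mem_fixedBy (H := H)]
    rfl
  have hodd : ∀ a : G ⧸ H, Odd (Nat.card (MulAction.stabilizer G a)) := by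
    intro a
    obtain ⟨a, rfl⟩ := QuotientGroup.mk_surjective a
    rw [hst, card_map_eq (MulAut.conj a)]
    exact ho
  have hH : H ≠ ⊤ := ne_top_of_exact (k := 3) (by norm_num) hg3
  haveI : FaithfulSMul G (G ⧸ H) := by
    have hker : (MulAction.toPermHom G (G ⧸ H)).ker = ⊥ := by
      have hn : (MulAction.toPermHom G (G ⧸ H)).ker.Normal := inferInstance
      rcases hn.eq_bot_or_eq_top with h1 | h1
      · exact h1
      · exfalso
        apply hH
        rw [eq_top_iff]
        intro y _
        have h2 : y ∈ (MulAction.toPermHom G (G ⧸ H)).ker := h1 ▸ mem_top y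
        rw [MonoidHom.mem_ker] at h2
        have h3 := congrArg (fun σ : Equiv.Perm (G ⧸ H) => σ ((1 : G) : G ⧸ H)) h2
        have h4 : y • ((1 : G) : G ⧸ H) = ((1 : G) : G ⧸ H) := h3
        have h5 := (mk_mem_fixedBy (H := H) y 1).1 h4
        simpa using h5
    refine ⟨fun {a b} hab => ?_⟩
    have h1 : a⁻¹ * b ∈ (MulAction.toPermHom G (G ⧸ H)).ker := by
      rw [MonoidHom.mem_ker]
      ext x
      show (a⁻¹ * b) • x = x
      rw [mul_smul, ← hab x, inv_smul_smul]
    rw [hker, mem_bot, inv_mul_eq_one] at h1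
    exact h1
  obtain ⟨Δ, hΔdef⟩ : ∃ Δ : Set (G ⧸ H), Δ = MulAction.fixedBy (G ⧸ H) g := ⟨_, rfl⟩
  have hTI := oddTI (k := 3) hna htr (Or.inl rfl) h hodd hg1 hg3
  rw [← hΔdef] at hTI hg3
  have hgD : g ∈ kst G Δ := by
    intro z hz
    rw [hΔdef] at hz
    exact hz
  obtain ⟨a₀, ha₀def⟩ : ∃ a : G ⧸ H, a = ((1 : G) : G ⧸ H) := ⟨_, rfl⟩
  have ha₀ : a₀ ∈ Δ := by
    rw [hΔdef, ha₀def, mk_mem_fixedBy]; simpa using hg
  have hst0 : ∀ g : G, g • a₀ = a₀ ↔ g ∈ H := by
    intro g
    rw [ha₀def, ← MulAction.mem_fixedBy, mk_mem_fixedBy]; simp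
  refine ⟨kst G Δ, ⟨h, ho, hTI, fun y hy => (hst0 y).1 (hy a₀ ha₀), hH, ?_⟩, hgD⟩
  intro y hy x hx hx1 hyx
  have hm : y ∈ mst G Δ := by
    refine mem_mst_of_fixedBy (kst_fix' h hg3 hx hx1) (kst_fix' h hg3 hyx ?_)
    intro h1
    apply hx1
    have : x = y⁻¹ * (y * x * y⁻¹) * y := by group
    rw [this, h1]; simp
  have hMo : Odd (Nat.card (mst G Δ)) := odd_of_odd_ncard (by rw [hg3]; decide) hodd
  have hya : y • a₀ = a₀ := (hst0 y).2 hy
  -- `y ^ 2` acts trivially on `Δ` (three points, one fixed)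
  have hy2 : y ^ 2 ∈ kst G Δ := by
    obtain ⟨b, c, d, hbc, hbd, hcd, hΔe⟩ := Set.ncard_eq_three.1 hg3
    intro z hz
    by_cases hza : z = a₀
    · rw [hza, pow_two, mul_smul, hya, hya]
    · by_contra hne
      have h1 : y • z ∈ Δ := (hm z).2 hz
      have h2 : y ^ 2 • z ∈ Δ := by
        rw [pow_two, mul_smul]; exact (hm _).2 h1
      have h3 : y • z ≠ a₀ := by
        intro h3
        apply hza
        have := MulAction.injective y (h3.trans hya.symm)
        exact this
      have h4 : y ^ 2 • z ≠ a₀ := by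
        intro h4
        rw [pow_two, mul_smul] at h4
        exact h3 (MulAction.injective y (h4.trans hya.symm))
      have h5 : y • z ≠ z := by
        intro h5
        apply hne
        rw [pow_two, mul_smul, h5, h5]
      have h6 : y ^ 2 • z ≠ y • z := by
        intro h6
        rw [pow_two, mul_smul] at h6
        exact h5 (MulAction.injective y h6)
      -- four different elements of `Δ`
      have h7 : ({a₀, z, y • z, y ^ 2 • z} : Set (G ⧸ H)).ncard = 4 := by
        rw [Set.ncard_insert_of_notMem, Set.ncard_insert_of_notMem, Set.ncard_pair]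
        · exact fun h => h6 h.symm
        · simp only [Set.mem_insert_iff, Set.mem_singleton_iff, not_or]
          exact ⟨fun h => h5 h.symm, fun h => hne h.symm⟩
        · simp only [Set.mem_insert_iff, Set.mem_singleton_iff, not_or]
          exact ⟨fun h => hza h.symm, fun h => h3 h.symm, fun h => h4 h.symm⟩
      have h8 : ({a₀, z, y • z, y ^ 2 • z} : Set (G ⧸ H)) ⊆ Δ := by
        intro w hw
        simp only [Set.mem_insert_iff, Set.mem_singleton_iff] at hw
        rcases hw with rfl | rfl | rfl | rfl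
        · exact ha₀
        · exact hz
        · exact h1
        · exact h2
      have h9 := Set.ncard_le_ncard h8 (Set.toFinite _)
      rw [h7, hg3] at h9
      omega
  have hoy : orderOf y ∣ Nat.card (mst G Δ) := orderOf_dvd_card_of_mem hm
  exact pow_mem_of_coprime hy2 (pow_orderOf_eq_one y)
    (Nat.coprime_two_left.2 (hMo.of_dvd_nat hoy))

end

end Cfsg.Agent.H254.Ev
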